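import Cfsg.Agent.Omega.NO1.Tens.MoInst
import Cfsg.Agent.Omega.NO1.Gamma.Defs

/-!
# Type (γ) of the leaf N1: the structure `Grid` (helper914)
-/

set_option autoImplicit false
set_option linter.unusedSectionVars false

namespace Cfsg.Agent.Omega.NO1.PlusQ

open Subgroup Cfsg Matrix
open Cfsg.Agent.Omega.NO1.Tens
open Cfsg.Agent.Omega.NO1.BetaPlus (Mv QQ Bp Mo ToO)
open Cfsg.Agent.Omega.NO1.Beta.Meet (cj mem_cj)
open Cfsg.Agent.Omega.NO1.Gamma (Grid)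
open Cfsg.Agent.ZN (o2)

universe u

variable {G : Type u} [Group G] {F : Type} [Field F] {N V : Subgroup G}

variable {D : PlusQ F N V} [CharP F 2] [Finite G]

namespace Cx

variable [Finite F] (h : Cx D)
include h

theorem Bo_rel {i : Option F} {A T : SL F} (hT : Bo T) (e : A = rep i * T) : Bo (A⁻¹ * rep i) := by
  have e1 : A⁻¹ * rep i = T⁻¹ := by rw [e]; group
  rw [e1]; exact hT.inv

/-- the point `(i,j)` is orthogonal to `(i,l)` -/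
theorem row_le (i j l : Option F) : D.R i j ≤ QQ (D.R i l) := by
  obtain ⟨k, hk, -⟩ := exists_ne' i i h
  obtain ⟨l', hl', -⟩ := exists_ne' l l h
  obtain ⟨D', m, A, B, T, T', S, S', hD, eR0, eR3, hRA, hT, hT', hS, hS', eA, eB, eA', eB', hm, hmA, he, -⟩ :=
    h.two hk hl'
  rintro w ⟨hw, c, hc⟩
  rw [← eR0, hD.mem_E hw, he w hw, hc, act_act, act_e0]
  have h1 : (A⁻¹ * rep i).1 1 0 = 0 := h.Bo_rel hT eA
  simp [h1]

theorem col_le (i k j : Option F) : D.R i j ≤ QQ (D.R k j) := by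
  obtain ⟨k', hk, -⟩ := exists_ne' k k h
  obtain ⟨l', hl', -⟩ := exists_ne' j j h
  obtain ⟨D', m, A, B, T, T', S, S', hD, eR0, eR3, hRA, hT, hT', hS, hS', eA, eB, eA', eB', hm, hmA, he, -⟩ :=
    h.two hk hl'
  rintro w ⟨hw, c, hc⟩
  rw [← eR0, hD.mem_E hw, he w hw, hc, act_act, act_e0]
  have h1 : (B⁻¹ * rep j).1 1 0 = 0 := h.Bo_rel hT' eB
  simp [h1]

/-- `E = R_ij R_il R_kj` -/
theorem EE {i j k l : Option F} (hk : k ≠ i) (hl : l ≠ j) :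
    V ⊓ QQ (D.R i j) ≤ (D.R i j ⊔ D.R i l) ⊔ D.R k j := by
  obtain ⟨D', m, A, B, T, T', S, S', hD, eR0, eR3, hRA, hT, hT', hS, hS', eA, eB, eA', eB', hm, hmA, he, -⟩ :=
    h.two hk.symm hl.symm
  have e1 : D'.RA 1 wy = D.R i l := by
    rw [hRA, mul_one, eA, eB', RA_Bo _ _ hT hS']; rfl
  have e2 : D'.RA wy 1 = D.R k j := by
    rw [hRA, mul_one, eA', eB, RA_Bo _ _ hS hT']; rfl
  rintro w ⟨hw, hwQ'⟩
  have hwQ : D'.e w 1 1 = 0 := (hD.mem_E hw).1 (by rw [eR0]; exact hwQ')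
  have e3 : w = D'.v (Tens.e0 (D'.e w 0 0)) * D'.v (Tens.e1 (D'.e w 0 1)) * D'.v (Tens.e2 (D'.e w 1 0)) := by
    rw [← D'.v_add, ← D'.v_add]
    conv_lhs => rw [← D'.v_e hw, e_sum (D'.e w), hwQ, e3_zero, add_zero]
  rw [e3, ← eR0, ← e1, ← e2]
  refine mul_mem (mem_sup_left (mul_mem (mem_sup_left (v_e0 _)) (mem_sup_right ⟨D'.v_mem _, D'.e w 0 1, ?_⟩)))
    (mem_sup_right ⟨D'.v_mem _, D'.e w 1 0, ?_⟩)
  · rw [D'.e_v, act_e0]
    apply ext2 <;> simp [Tens.e1, wy_val]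
  · rw [D'.e_v, act_e0]
    apply ext2 <;> simp [Tens.e2, wy_val]

theorem VE' {i j k l : Option F} (hk : i ≠ k) (hl : j ≠ l) : V ≤ (V ⊓ QQ (D.R i j)) ⊔ D.R k l := by
  obtain ⟨D', m, A, B', T, T', S, S', hD, eR0, eR3, -⟩ := h.two hk hl
  rw [← eR0, ← eR3]
  exact hD.VE

/-- elements fixing the columns -/
theorem fixcol {i j : Option F} {x : G} (hx : x ∈ QQ (D.R i j)) (hc : ∀ l, cj x (D.R i l) = D.R i l) :
    x ∈ N ∧ ∃ a, ∀ X, D.act x X = Tens.act (ua i a) 1 X := by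
  obtain ⟨hxN, a, b, hab⟩ := h.QU hx
  obtain ⟨l, hl, -⟩ := exists_ne' j j h
  have h1 := (mv_mob h.hN hxN hab i l).cj_eq
  rw [hc l] at h1
  have hb := ua_fix hl.symm (R_inj h1).2.symm
  exact ⟨hxN, a, by rw [hb, ua_zero] at hab; exact hab⟩

theorem fixrow {i j : Option F} {x : G} (hx : x ∈ QQ (D.R i j)) (hc : ∀ k, cj x (D.R k j) = D.R k j) :
    x ∈ N ∧ ∃ b, ∀ X, D.act x X = Tens.act 1 (ua j b) X := by
  obtain ⟨hxN, a, b, hab⟩ := h.QU hx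
  obtain ⟨k, hk, -⟩ := exists_ne' i i h
  have h1 := (mv_mob h.hN hxN hab k j).cj_eq
  rw [hc k] at h1
  have ha := ua_fix hk.symm (R_inj h1).1.symm
  exact ⟨hxN, b, by rw [ha, ua_zero] at hab; exact hab⟩

theorem fixcol' {i : Option F} {x : G} (hxN : x ∈ N) {a : F} (hxA : ∀ X, D.act x X = Tens.act (ua i a) 1 X)
    (l : Option F) : cj x (D.R i l) = D.R i l := by
  have h1 := (mv_mob h.hN hxN hxA i l).cj_eq
  rwa [mob_ua_self, mob_one] at h1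

theorem fixrow' {j : Option F} {x : G} (hxN : x ∈ N) {b : F} (hxA : ∀ X, D.act x X = Tens.act 1 (ua j b) X)
    (k : Option F) : cj x (D.R k j) = D.R k j := by
  have h1 := (mv_mob h.hN hxN hxA k j).cj_eq
  rwa [mob_ua_self, mob_one] at h1

/-- root elements of the first factor in `⟨Q_kl⟩` -/
theorem gen₁ (A : SL F) (a : F) : ∃ g ∈ ⨆ k, ⨆ l, QQ (D.R k l), g ∈ N ∧
    ∀ X, D.act g X = Tens.act (A * up a * A⁻¹) 1 X := by
  obtain ⟨i, T, hT, e⟩ := exists_rep A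
  obtain ⟨g, hg, hgA⟩ := h.QU_surj i none (T.1 0 0 * T.1 0 0 * a) 0
  refine ⟨g, mem_iSup_of_mem i (mem_iSup_of_mem none hg), (h.QU hg).1, fun X => ?_⟩
  rw [hgA, conj_up_eq hT e, ua_zero]

theorem gen₂ (A : SL F) (a : F) : ∃ g ∈ ⨆ k, ⨆ l, QQ (D.R k l), g ∈ N ∧
    ∀ X, D.act g X = Tens.act 1 (A * up a * A⁻¹) X := by
  obtain ⟨i, T, hT, e⟩ := exists_rep A
  obtain ⟨g, hg, hgA⟩ := h.QU_surj none i 0 (T.1 0 0 * T.1 0 0 * a)
  refine ⟨g, mem_iSup_of_mem none (mem_iSup_of_mem i hg), (h.QU hg).1, fun X => ?_⟩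
  rw [hgA, conj_up_eq hT e, ua_zero]

theorem gen_mul {X1 X2 : Subgroup G} {A A' B B' : SL F} (hX : X1 = X2)
    (h1 : ∃ g ∈ X1, g ∈ N ∧ ∀ X, D.act g X = Tens.act A B X)
    (h2 : ∃ g ∈ X1, g ∈ N ∧ ∀ X, D.act g X = Tens.act A' B' X) :
    ∃ g ∈ X2, g ∈ N ∧ ∀ X, D.act g X = Tens.act (A * A') (B * B') X := by
  obtain ⟨g, hg, hgN, hgA⟩ := h1
  obtain ⟨g', hg', hgN', hgA'⟩ := h2
  subst hX
  exact ⟨g * g', mul_mem hg hg', mul_mem hgN hgN', fun X => by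
    rw [act_mul h.hN hgN hgN', hgA, hgA', act_act]⟩

/-- torus elements of the first factor -/
theorem gtor₁ (i : Option F) (l : Fˣ) : ∃ g ∈ ⨆ k, ⨆ l, QQ (D.R k l), g ∈ N ∧
    ∀ X, D.act g X = Tens.act (rep i * tor l * (rep i)⁻¹) 1 X := by
  have hu : ∀ a : F, ∃ g ∈ ⨆ k, ⨆ l, QQ (D.R k l), g ∈ N ∧
      ∀ X, D.act g X = Tens.act (rep i * up a * (rep i)⁻¹) 1 X := fun a => h.gen₁ _ a
  have hd : ∀ a : F, ∃ g ∈ ⨆ k, ⨆ l, QQ (D.R k l), g ∈ N ∧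
      ∀ X, D.act g X = Tens.act (rep i * dn a * (rep i)⁻¹) 1 X := fun a => by
    obtain ⟨g, h1, h2, h3⟩ := h.gen₁ (rep i * wy) a
    refine ⟨g, h1, h2, fun X => ?_⟩
    rw [h3, dn_eq]
    congr 1; group
  have h1 := h.gen_mul rfl (h.gen_mul rfl (h.gen_mul rfl (hu (l : F)) (hd ((l⁻¹ : Fˣ) : F))) (hu (l : F)))
    (h.gen_mul rfl (h.gen_mul rfl (hu 1) (hd 1)) (hu 1))
  obtain ⟨g, h2, h3, h4⟩ := h1
  refine ⟨g, h2, h3, fun X => ?_⟩
  rw [h4, ← tor_eq]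
  congr 1
  · group
  · group

theorem gtor₂ (i : Option F) (l : Fˣ) : ∃ g ∈ ⨆ k, ⨆ l, QQ (D.R k l), g ∈ N ∧
    ∀ X, D.act g X = Tens.act 1 (rep i * tor l * (rep i)⁻¹) X := by
  have hu : ∀ a : F, ∃ g ∈ ⨆ k, ⨆ l, QQ (D.R k l), g ∈ N ∧
      ∀ X, D.act g X = Tens.act 1 (rep i * up a * (rep i)⁻¹) X := fun a => h.gen₂ _ a
  have hd : ∀ a : F, ∃ g ∈ ⨆ k, ⨆ l, QQ (D.R k l), g ∈ N ∧
      ∀ X, D.act g X = Tens.act 1 (rep i * dn a * (rep i)⁻¹) X := fun a => by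
    obtain ⟨g, h1, h2, h3⟩ := h.gen₂ (rep i * wy) a
    refine ⟨g, h1, h2, fun X => ?_⟩
    rw [h3, dn_eq]
    congr 1; group
  have h1 := h.gen_mul rfl (h.gen_mul rfl (h.gen_mul rfl (hu (l : F)) (hd ((l⁻¹ : Fˣ) : F))) (hu (l : F)))
    (h.gen_mul rfl (h.gen_mul rfl (hu 1) (hd 1)) (hu 1))
  obtain ⟨g, h2, h3, h4⟩ := h1
  refine ⟨g, h2, h3, fun X => ?_⟩
  rw [h4, ← tor_eq]
  congr 1
  · group
  · group

theorem tor_ua (i : Option F) (l : Fˣ) (a : F) :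
    rep i * tor l * (rep i)⁻¹ * ua i a * (rep i * tor l * (rep i)⁻¹)⁻¹ * (ua i a)⁻¹ =
      ua i ((l * l + 1) * a) := by
  have _ := h
  rw [ua_inv, ua, ua]
  have e1 : rep i * tor l * (rep i)⁻¹ * (rep i * up a * (rep i)⁻¹) * (rep i * tor l * (rep i)⁻¹)⁻¹ *
      (rep i * up a * (rep i)⁻¹) = rep i * (tor l * up a * (tor l)⁻¹ * up a) * (rep i)⁻¹ := by group
  rw [e1, tor_up, mul_inv_cancel_right, ← up_add, add_mul, one_mul]

theorem tor₁ (i j : Option F) : ∃ g ∈ ⨆ k, ⨆ l, QQ (D.R k l), (∀ l, cj g (D.R i l) = D.R i l) ∧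
    ∀ x ∈ QQ (D.R i j), (∀ l, cj x (D.R i l) = D.R i l) → ∃ z ∈ QQ (D.R i j), (∀ l, cj z (D.R i l) = D.R i l) ∧
      x⁻¹ * (g * z * g⁻¹ * z⁻¹) ∈ centralizer (V : Set G) := by
  obtain ⟨t, ht0, ht1⟩ := h.three
  set l : Fˣ := Units.mk0 t ht0 with hl
  have hlt : (l : F) = t := rfl
  obtain ⟨g, hg, hgN, hgA⟩ := h.gtor₁ i l
  have hll : (l : F) * l + 1 ≠ 0 := fun e => ht1 (eq_one_of_sq (CharTwo.add_eq_zero.1 e))
  refine ⟨g, hg, fun m => ?_, fun x hx hxc => ?_⟩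
  · have h1 := (mv_mob h.hN hgN hgA i m).cj_eq
    have h2 : mob (rep i * tor l * (rep i)⁻¹) i = i :=
      mob_eq (T := tor l) (by simp [Bo, tor_val]) (by group)
    rwa [h2, mob_one] at h1
  · obtain ⟨hxN, a, hxA⟩ := h.fixcol hx hxc
    obtain ⟨z, hz, hzA⟩ := h.QU_surj i j (a / (l * l + 1)) 0
    rw [ua_zero] at hzA
    have hzN := (h.QU hz).1
    refine ⟨z, hz, fun m => h.fixcol' hzN hzA m, ?_⟩
    have hgz : g * z * g⁻¹ * z⁻¹ ∈ N := mul_mem (mul_mem (mul_mem hgN hzN) (inv_mem hgN)) (inv_mem hzN)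
    rw [← act_one_iff (D := D) h.hN (mul_mem (inv_mem hxN) hgz)]
    intro X
    rw [act_mul h.hN (inv_mem hxN) hgz, act_mul h.hN (mul_mem (mul_mem hgN hzN) (inv_mem hgN)) (inv_mem hzN),
      act_mul h.hN (mul_mem hgN hzN) (inv_mem hgN), act_mul h.hN hgN hzN, act_inv_of h.hN hxN hxA,
      act_inv_of h.hN hgN hgA, act_inv_of h.hN hzN hzA, hgA, hzA, act_act, act_act, act_act, act_act]
    have e1 : (ua i a)⁻¹ * (rep i * tor l * (rep i)⁻¹) * ua i (a / (l * l + 1)) *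
        (rep i * tor l * (rep i)⁻¹)⁻¹ * (ua i (a / (l * l + 1)))⁻¹ = 1 := by
      have := h.tor_ua i l (a / (l * l + 1))
      rw [mul_div_cancel₀ _ hll] at this
      rw [mul_assoc, mul_assoc, mul_assoc, inv_mul_eq_one, ← this]; group
    simp only [inv_one, mul_one]
    rw [e1, act_one]

theorem tor₂ (i j : Option F) : ∃ g ∈ ⨆ k, ⨆ l, QQ (D.R k l), (∀ k, cj g (D.R k j) = D.R k j) ∧
    ∀ x ∈ QQ (D.R i j), (∀ k, cj x (D.R k j) = D.R k j) → ∃ z ∈ QQ (D.R i j), (∀ k, cj z (D.R k j) = D.R k j) ∧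
      x⁻¹ * (g * z * g⁻¹ * z⁻¹) ∈ centralizer (V : Set G) := by
  obtain ⟨t, ht0, ht1⟩ := h.three
  set l : Fˣ := Units.mk0 t ht0 with hl
  have hlt : (l : F) = t := rfl
  obtain ⟨g, hg, hgN, hgA⟩ := h.gtor₂ j l
  have hll : (l : F) * l + 1 ≠ 0 := fun e => ht1 (eq_one_of_sq (CharTwo.add_eq_zero.1 e))
  refine ⟨g, hg, fun m => ?_, fun x hx hxc => ?_⟩
  · have h1 := (mv_mob h.hN hgN hgA m j).cj_eq
    have h2 : mob (rep j * tor l * (rep j)⁻¹) j = j :=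
      mob_eq (T := tor l) (by simp [Bo, tor_val]) (by group)
    rwa [h2, mob_one] at h1
  · obtain ⟨hxN, a, hxA⟩ := h.fixrow hx hxc
    obtain ⟨z, hz, hzA⟩ := h.QU_surj i j 0 (a / (l * l + 1))
    rw [ua_zero] at hzA
    have hzN := (h.QU hz).1
    refine ⟨z, hz, fun m => h.fixrow' hzN hzA m, ?_⟩
    have hgz : g * z * g⁻¹ * z⁻¹ ∈ N := mul_mem (mul_mem (mul_mem hgN hzN) (inv_mem hgN)) (inv_mem hzN)
    rw [← act_one_iff (D := D) h.hN (mul_mem (inv_mem hxN) hgz)]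
    intro X
    rw [act_mul h.hN (inv_mem hxN) hgz, act_mul h.hN (mul_mem (mul_mem hgN hzN) (inv_mem hgN)) (inv_mem hzN),
      act_mul h.hN (mul_mem hgN hzN) (inv_mem hgN), act_mul h.hN hgN hzN, act_inv_of h.hN hxN hxA,
      act_inv_of h.hN hgN hgA, act_inv_of h.hN hzN hzA, hgA, hzA, act_act, act_act, act_act, act_act]
    have e1 : (ua j a)⁻¹ * (rep j * tor l * (rep j)⁻¹) * ua j (a / (l * l + 1)) *
        (rep j * tor l * (rep j)⁻¹)⁻¹ * (ua j (a / (l * l + 1)))⁻¹ = 1 := by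
      have := h.tor_ua j l (a / (l * l + 1))
      rw [mul_div_cancel₀ _ hll] at this
      rw [mul_assoc, mul_assoc, mul_assoc, inv_mul_eq_one, ← this]; group
    simp only [inv_one, mul_one]
    rw [e1, act_one]

/-- **The structure `Grid`.** -/
theorem grid (meet : ∀ W : Subgroup G, IsPGroup 2 W → W ≤ N →
    (∀ m ∈ N, ∀ y ∈ W, m * y * m⁻¹ ∈ W) → W ⊓ V = ⊥ → W = ⊥) :
    Grid V (fun i j => D.R i j) (fun i j => QQ (D.R i j)) where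
  comm a ha b hb := D.comm ha hb
  V_sq a ha := D.sq ha
  R_le i j := RA_le _ _
  ne i j := R_ne_bot i j
  row i j l := h.row_le i j l
  col i k j := h.col_le i k j
  disj i j k l hd := R_disj hd
  QQ i j := (h.mo meet).QQ (i, j)
  Qsq i j := (h.mo meet).Qsq (i, j)
  RQ i j := (h.mo meet).RQ (i, j)
  cen i j := (h.mo meet).cen (i, j)
  Q_V i j := (h.mo meet).Q_V (i, j)
  conj y i j k l he := (Mv.of_cj he).QQ.cj_eq
  perm i j y hy := by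
    obtain ⟨hyN, a, b, hab⟩ := h.QU hy
    exact ⟨mob (ua i a), mob (ua j b), mob_ua_self i a, mob_ua_self j b, fun k l =>
      (mv_mob h.hN hyN hab k l).cj_eq⟩
  fix i j k l hk hl y hy he := (h.mo meet).fixj (i, j) (k, l) ⟨hk.symm, hl.symm⟩ y hy he
  tran i j k l k' l' hk hk' hl hl' := by
    obtain ⟨y, hy, h1⟩ := h.tran hk.symm hl.symm hk'.symm hl'.symm
    exact ⟨y, hy, h1.cj_eq⟩
  meet i j k l hk hl := h.meet_le meet hk.symm hl.symm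
  RQj i j k l hk hl := (h.mo meet).RQj (i, j) (k, l) ⟨hk.symm, hl.symm⟩
  VE₁ i j l hjl := by
    obtain ⟨k, hk, -⟩ := exists_ne' i i h
    refine (h.VE' hk hjl).trans (sup_le_sup_left (le_inf (RA_le _ _) (h.col_le k i l)) _)
  VE₂ i k j hik := by
    obtain ⟨l, hl, -⟩ := exists_ne' j j h
    refine (h.VE' hik hl).trans (sup_le_sup_left (le_inf (RA_le _ _) (h.row_le k l j)) _)
  VE i j k l hik hjl := (h.VE' hik hjl).trans (sup_le_sup_left (le_inf (RA_le _ _) (h.row_le k l l)) _)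
  EE i j k l hk hl := h.EE hk hl
  threeI i k := by
    obtain ⟨c, h1, h2⟩ := exists_ne' i k h
    exact ⟨c, h1.symm, h2⟩
  threeJ i k := by
    obtain ⟨c, h1, h2⟩ := exists_ne' i k h
    exact ⟨c, h1.symm, h2⟩
  act₁ i j j' x hx hxc := by
    obtain ⟨hxN, a, hxA⟩ := h.fixcol hx hxc
    obtain ⟨y, hy, hyA⟩ := h.QU_surj i j' a 0
    rw [ua_zero] at hyA
    have hyN := (h.QU hy).1
    refine ⟨y, hy, fun l => h.fixcol' hyN hyA l, ?_⟩
    rw [← act_one_iff (D := D) h.hN (mul_mem (inv_mem hyN) hxN)]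
    intro X
    rw [act_mul h.hN (inv_mem hyN) hxN, hxA, act_inv_of h.hN hyN hyA, Tens.act_inv_act]
  act₂ j i i' x hx hxc := by
    obtain ⟨hxN, a, hxA⟩ := h.fixrow hx hxc
    obtain ⟨y, hy, hyA⟩ := h.QU_surj i' j 0 a
    rw [ua_zero] at hyA
    have hyN := (h.QU hy).1
    refine ⟨y, hy, fun l => h.fixrow' hyN hyA l, ?_⟩
    rw [← act_one_iff (D := D) h.hN (mul_mem (inv_mem hyN) hxN)]
    intro X
    rw [act_mul h.hN (inv_mem hyN) hxN, hxA, act_inv_of h.hN hyN hyA, Tens.act_inv_act]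
  tor₁ i j := h.tor₁ i j
  tor₂ i j := h.tor₂ i j

end Cx

end Cfsg.Agent.Omega.NO1.PlusQ
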