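import Cfsg.Agent.Omega.NO1.Tens.App
import Cfsg.Agent.Omega.NO1.Beta.Plug

/-!
# Type (γ) of the leaf N1 in the configuration `Cfg S P` (helper914)

`PlusQ.Plug.main` : there are coordinates `D : PlusQ F (P C(V)) V`, `V = V_P`, with `S` fixing `D.R0`, `Ω₁(Z(S)) ≤ D.R0`,
`Sy D S (zc S)`, `Cx D` and the structure `Grid`.
-/

set_option autoImplicit false
set_option linter.unusedSectionVars false

namespace Cfsg.Agent.Omega.NO1.PlusQ

open Subgroup Cfsg Matrix Cfsg.Agent.ZN Cfsg.Agent.Omega.MinPar Cfsg.Agent.Omega.Frame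
open Cfsg.Agent.Omega.NO1.Tens
open Cfsg.Agent.Omega.NO1.BetaPlus (Mv QQ)
open Cfsg.Agent.Omega.NO1.Gamma (Grid)
open Cfsg.Agent.Omega.NO1.Beta.Plug (exists_mul)
open Cfsg.Agent.MinSimple.VModule (zc_le_zl o2_isPGroup)

universe u

variable {G : Type u} [Group G] {F : Type} [Field F] {P V : Subgroup G}

/-- The coordinates for `P C(V)`. -/
def ext (m : PlusQ F P V) (hPV : P ≤ normalizer (V : Set G)) : PlusQ F (P ⊔ centralizer (V : Set G)) V where
  e := m.e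
  mul := m.mul
  surj := m.surj
  ker := m.ker
  lift := fun A B => by
    obtain ⟨g, hg, hA⟩ := m.lift A B
    exact ⟨g, mem_sup_left hg, hA⟩
  norm := fun g hg h hh A B hA => by
    obtain ⟨p, hp, hpg⟩ := exists_mul hPV hg
    obtain ⟨p', hp', hph⟩ := exists_mul hPV hh
    obtain ⟨A', B', hB⟩ := m.norm p hp p' hp' A B (fun v hv => by rw [← (hph v hv).1]; exact hA v hv)
    refine ⟨A', B', fun v hv => ?_⟩
    rw [← hB v hv]
    congr 1
    have h3 : p⁻¹ * v * p ∈ V := by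
      have := (mem_normalizer_iff.mp (inv_mem (hPV hp)) v).mp hv
      rwa [inv_inv] at this
    have h4 : p' * (p⁻¹ * v * p) * p'⁻¹ ∈ V := (mem_normalizer_iff.mp (hPV hp') _).mp h3
    calc g * h * g⁻¹ * v * (g * h * g⁻¹)⁻¹ = g * (h * (g⁻¹ * v * g) * h⁻¹) * g⁻¹ := by group
      _ = g * (p' * (p⁻¹ * v * p) * p'⁻¹) * g⁻¹ := by rw [(hpg v hv).2, (hph _ h3).1]
      _ = p * (p' * (p⁻¹ * v * p) * p'⁻¹) * p⁻¹ := (hpg _ h4).1
      _ = p * p' * p⁻¹ * v * (p * p' * p⁻¹)⁻¹ := by group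
  swap := by
    obtain ⟨s, hs, h⟩ := m.swap
    refine ⟨s, mem_sup_left hs, fun g hg A hA => ?_⟩
    obtain ⟨p', hp', hph⟩ := exists_mul hPV hg
    obtain ⟨B, hB⟩ := h p' hp' A (fun v hv => by rw [← (hph v hv).1]; exact hA v hv)
    refine ⟨B, fun v hv => ?_⟩
    rw [← hB v hv]
    congr 1
    have h3 : s⁻¹ * v * s ∈ V := by
      have := (mem_normalizer_iff.mp (inv_mem (hPV hs)) v).mp hv
      rwa [inv_inv] at this
    calc s * g * s⁻¹ * v * (s * g * s⁻¹)⁻¹ = s * (g * (s⁻¹ * v * s) * g⁻¹) * s⁻¹ := by group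
      _ = s * (p' * (s⁻¹ * v * s) * p'⁻¹) * s⁻¹ := by rw [(hph _ h3).1]
      _ = s * p' * s⁻¹ * v * (s * p' * s⁻¹)⁻¹ := by group

theorem exists_three [Finite F] (h4 : 4 ≤ Nat.card F) : ∃ t : F, t ≠ 0 ∧ t ≠ 1 := by
  classical
  have := Fintype.ofFinite F
  by_contra hcon
  push Not at hcon
  have h1 : (Finset.univ : Finset F) ⊆ {0, 1} := by
    intro x _
    by_cases hx0 : x = 0
    · simp [hx0]
    · simp [hcon x hx0]
  have h2 := (Finset.card_le_card h1).trans Finset.card_le_two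
  rw [Finset.card_univ, ← Nat.card_eq_fintype_card] at h2
  omega

variable [Finite G] {S : Sylow 2 G} [Finite F] [CharP F 2]

/-- The hypotheses of the application. -/
theorem sy (h : Cfg S P) (m : PlusQ F P (zl (S : Subgroup G) P)) (h4 : 4 ≤ Nat.card F)
    (hE : 4 ≤ (EE (S : Subgroup G) P).relIndex (zl (S : Subgroup G) P)) :
    Sy (m.ext (Cfg.P_norm_V S P)) S (zc (S : Subgroup G)) where
  hN := fun g hg => by
    obtain ⟨p, hp, hpg⟩ := exists_mul (Cfg.P_norm_V S P) hg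
    refine Mv.of_le (fun a ha => ?_) le_rfl
    rw [(hpg a ha).1]
    exact (mem_normalizer_iff.1 (Cfg.P_norm_V S P hp) a).1 ha
  C_N := le_sup_right
  S_N := h.S_le.trans le_sup_left
  Z_V := zc_le_zl _ _
  Z_S := fun z hz s hs => ((MinSimple.VModule.mem_zc.mp hz).2.1 s hs).symm
  Z_max := fun x hx hx2 hxc => MinSimple.VModule.mem_zc.mpr ⟨hx, fun b hb => (hxc b hb).symm, by rw [pow_two]; exact hx2⟩
  char2N := fun R hR hRV hSR => by
    have hR2 : IsPGroup 2 R := h.V_isPGroup.to_le hRV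
    have h3 : IsLoc (S : Subgroup G) (normalizer (R : Set G)) :=
      ⟨hSR, o2_ne_bot_of_le hR2 hR le_normalizer le_rfl⟩
    exact h3.char2 S h.ctx.char2
  char2C := h.char2C
  V_Qt := h.one.not_le
  four := hE
  three := exists_three h4

/-- **THEOREM BETA for type (γ) in the configuration of NO-1'.** -/
theorem main (h : Cfg S P) (m : PlusQ F P (zl (S : Subgroup G) P)) (h4 : 4 ≤ Nat.card F)
    (hE : 4 ≤ (EE (S : Subgroup G) P).relIndex (zl (S : Subgroup G) P)) :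
    ∃ D : PlusQ F (P ⊔ centralizer (zl (S : Subgroup G) P : Set G)) (zl (S : Subgroup G) P),
      Sy D S (zc (S : Subgroup G)) ∧ (∀ s ∈ (S : Subgroup G), Mv s D.R0 D.R0) ∧ zc (S : Subgroup G) ≤ D.R0 ∧
      Cx D ∧ Grid (zl (S : Subgroup G) P) (fun i j => D.R i j) (fun i j => QQ (D.R i j)) := by
  obtain ⟨D, hD, hR⟩ := (sy h m h4 hE).exists_fix
  exact ⟨D, hD, hR, hD.Z_R0 hR, hD.cx hR, (hD.cx hR).grid hD.meet⟩

end Cfsg.Agent.Omega.NO1.PlusQ
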