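import Cfsg.Agent.Omega.NO1.Tens.Group

/-!
# Type (γ) of the leaf N1: the action of `Q = O₂(N_G(R))` on `V` (helper914)

`Cx D` : `V ≰ Q`, `C_G(Q) ≤ Q ≤ N`, `Q = QQ D.R0`.
* `Cx.U` : every `y ∈ Q` acts as `act (up a) (up b)`; `Cx.U_surj` : all pairs occur;
* `Cx.mem_E` : `V ∩ Q = {v | (e v) 1 1 = 0}`.
-/

set_option autoImplicit false
set_option linter.unusedSectionVars false

namespace Cfsg.Agent.Omega.NO1.PlusQ

open Subgroup Cfsg Matrix
open Cfsg.Agent.Omega.NO1.Tens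
open Cfsg.Agent.Omega.NO1.BetaPlus (Mv QQ)
open Cfsg.Agent.ZN (o2)

universe u

variable {G : Type u} [Group G] {F : Type} [Field F] {N V : Subgroup G}

theorem comm (D : PlusQ F N V) {a b : G} (ha : a ∈ V) (hb : b ∈ V) : a * b = b * a :=
  D.e_inj (mul_mem ha hb) (mul_mem hb ha) (by rw [D.mul a ha b hb, D.mul b hb a ha, add_comm])

variable [CharP F 2]

theorem sq (D : PlusQ F N V) {a : G} (ha : a ∈ V) : a * a = 1 :=
  D.ker _ (mul_mem ha ha) (by rw [D.mul a ha a ha]; ext i j; exact CharTwo.add_self_eq_zero _)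

theorem T2_act_comp {γ : M2 F → M2 F} (h : T2 γ) (A B : SL F) : T2 (fun X => Tens.act A B (γ X)) := by
  constructor
  · intro C
    obtain ⟨C', hC⟩ := h.1 C
    refine ⟨B * C' * B⁻¹, fun X => ?_⟩
    show Tens.act A B (γ (Tens.act C 1 X)) = _
    rw [hC, act_act, act_act]; congr 1 <;> group
  · intro C
    obtain ⟨C', hC⟩ := h.2 C
    refine ⟨A * C' * A⁻¹, fun X => ?_⟩
    show Tens.act A B (γ (Tens.act 1 C X)) = _
    rw [hC, act_act, act_act]; congr 1 <;> group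

section

variable {D : PlusQ F N V} (hN : ∀ m ∈ N, Mv m V V) {t : F} (ht0 : t ≠ 0) (ht1 : t ≠ 1)
include hN ht0 ht1

theorem exists_T2 : ∃ s ∈ N, T2 (D.act s) := by
  obtain ⟨s, hs, h⟩ := D.swap
  refine ⟨s, hs, ?_⟩
  have hm := nm (D := D) hN hs
  have half : ∀ A : SL F, ∃ B : SL F, ∀ X, D.act s (Tens.act A 1 X) = Tens.act 1 B (D.act s X) := by
    intro A
    obtain ⟨g, hg, hgA⟩ := lift_act (D := D) hN A 1
    obtain ⟨B, hB⟩ := h g hg A (fun v hv => by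
      have h1 := hgA (D.e v)
      rw [act_e hN hg hv] at h1
      rw [h1]; simp [Tens.act])
    refine ⟨B, fun X => ?_⟩
    have h1 := hB _ (D.v_mem (D.act s X))
    rw [D.e_v] at h1
    rw [← hgA, ← act_mul hN hs hg]
    have h2 : D.act (s * g) X = D.act (s * g * s⁻¹) (D.act s X) := by
      rw [← act_mul hN (mul_mem (mul_mem hs hg) (inv_mem hs)) hs]
      congr 1; group
    rw [h2]
    show D.e _ = _
    rw [h1]; simp [Tens.act]
  rcases hm.dich ht0 ht1 with hT | hT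
  · exfalso
    obtain ⟨A', hA'⟩ := hT.1 (up 1)
    obtain ⟨B', hB'⟩ := half (up 1)
    have h3 : ∀ X, Tens.act A' 1 X = Tens.act 1 B' X := fun X => by
      have := hA' (D.act s⁻¹ X)
      rw [hB', hm.right] at this
      exact this.symm
    have h4 := (act_unique h3).1
    refine up_one_ne (F := F) (act_eq_one (A := up 1) (B := 1) fun X => hm.inj ?_).1
    rw [hA', h4, act_one]
  · exact hT

/-- An element of `N` which fixes the two base points and interchanges the factors. -/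
theorem exists_swap : ∃ s ∈ N, T2 (D.act s) ∧ (∀ x, ∃ y, D.act s (e0 x) = e0 y) ∧
    (∀ x, ∃ y, D.act s (e3 x) = e3 y) := by
  obtain ⟨s, hs, hT⟩ := exists_T2 (D := D) hN ht0 ht1
  have hm := nm (D := D) hN hs
  obtain ⟨A, B, c, hc⟩ := exists_e0 (hm.det_eq_zero ht0 ht1 (det_e0 1))
  obtain ⟨a, ha, haA⟩ := lift_act (D := D) hN A⁻¹ B⁻¹
  have hs1 : a * s ∈ N := mul_mem ha hs
  have h1 : ∀ X, D.act (a * s) X = Tens.act A⁻¹ B⁻¹ (D.act s X) := fun X => by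
    rw [act_mul hN ha hs, haA]
  have hT1 : T2 (D.act (a * s)) := by
    have := T2_act_comp hT A⁻¹ B⁻¹
    have e : D.act (a * s) = fun X => Tens.act A⁻¹ B⁻¹ (D.act s X) := funext h1
    rwa [e]
  have hm1 := nm (D := D) hN hs1
  have h0 : ∀ x, ∃ y, D.act (a * s) (e0 x) = e0 y :=
    hm1.fix0 ht0 ht1 one_ne_zero (d := c) (by rw [h1, hc, Tens.act_inv_act])
  obtain ⟨b, d, hbd⟩ := hm1.opp ht0 ht1 h0
  obtain ⟨w, hw, hwA⟩ := lift_act (D := D) hN (up b) (up d)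
  have h2 : ∀ X, D.act (w * (a * s)) X = Tens.act (up b) (up d) (D.act (a * s) X) := fun X => by
    rw [act_mul hN hw hs1, hwA]
  refine ⟨w * (a * s), mul_mem hw hs1, ?_, ?_, ?_⟩
  · have := T2_act_comp hT1 (up b) (up d)
    have e : D.act (w * (a * s)) = fun X => Tens.act (up b) (up d) (D.act (a * s) X) := funext h2
    rwa [e]
  · intro x
    obtain ⟨y, hy⟩ := h0 x
    exact ⟨y, by rw [h2, hy, act_up_e0]⟩
  · intro x
    obtain ⟨y, hy⟩ := hbd x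
    exact ⟨y, by rw [h2, hy, act_up_up]⟩

end

/-- The context at the base point. -/
structure Cx (D : PlusQ F N V) : Prop where
  hN : ∀ m ∈ N, Mv m V V
  V_Q : ¬ V ≤ QQ D.R0
  char2 : centralizer (QQ D.R0 : Set G) ≤ QQ D.R0
  Q_N : QQ D.R0 ≤ N
  three : ∃ t : F, t ≠ 0 ∧ t ≠ 1

namespace Cx

variable [Finite G] {D : PlusQ F N V} (h : Cx D)
include h

theorem Q_fix {y : G} (hy : y ∈ QQ D.R0) : ∀ x, ∃ z, D.act y (e0 x) = e0 z :=
  (fix_iff h.hN (h.Q_N hy)).1 (Mv.of_nor (Cfsg.Agent.ZN.o2_le _ hy))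

theorem mv_Q {g : G} (hg : g ∈ N) (h0 : ∀ x, ∃ z, D.act g (e0 x) = e0 z) {y : G} (hy : y ∈ QQ D.R0) :
    g * y * g⁻¹ ∈ QQ D.R0 := (((fix_iff h.hN hg).2 h0).QQ y).1 hy

theorem exists_order {y : G} (hy : y ∈ QQ D.R0) : ∃ k : ℕ, ∀ X, (D.act y)^[2 ^ k] X = X := by
  obtain ⟨k, hk⟩ := Cfsg.Agent.Omega.NOne.LemmaT.exists_pow_eq_one
    (Cfsg.Agent.ZN.isPGroup_o2 (normalizer (D.R0 : Set G)))
  refine ⟨k, fun X => ?_⟩
  rw [act_pow h.hN (h.Q_N hy), hk y hy, act]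
  have e : 1 * D.v X * (1 : G)⁻¹ = D.v X := by group
  rw [e, D.e_v]

/-- `[y, t] ∈ U₀` for `y ∈ Q` and a torus element `t` -/
theorem htor {y : G} (hy : y ∈ QQ D.R0) (l m : Fˣ) : ∃ a b, ∀ X,
    D.act y (Tens.act (tor l) (tor m) X) = Tens.act (up a * tor l) (up b * tor m) (D.act y X) := by
  have hyN := h.Q_N hy
  have hm := nm (D := D) h.hN hyN
  obtain ⟨t, ht, htA⟩ := lift_act (D := D) h.hN (tor l) (tor m)
  obtain ⟨A, B, hAB⟩ := hm.nor (tor l) (tor m)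
  have ht0 : ∀ x, ∃ z, D.act t⁻¹ (e0 x) = e0 z := by
    have h1 : ∀ x, ∃ z, D.act t (e0 x) = e0 z := fun x => ⟨l * m * x, by rw [htA, act_tor_e0]⟩
    exact (fix_iff h.hN (inv_mem ht)).1 ((fix_iff h.hN ht).2 h1).inv
  have ht0' : ∀ x, ∃ z, D.act t (e0 x) = e0 z := fun x => ⟨l * m * x, by rw [htA, act_tor_e0]⟩
  -- `c = y t y⁻¹ t⁻¹ ∈ Q`
  set c := y * t * y⁻¹ * t⁻¹ with hc
  have hcQ : c ∈ QQ D.R0 := by
    have e : c = y * (t * y⁻¹ * t⁻¹) := by rw [hc]; group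
    rw [e]
    exact mul_mem hy (h.mv_Q ht ht0' (inv_mem hy))
  have hcA : ∀ X, D.act c X = Tens.act (A * (tor l)⁻¹) (B * (tor m)⁻¹) X := by
    intro X
    have hct : D.act (c * t * y) (D.act y⁻¹ (Tens.act (tor l)⁻¹ (tor m)⁻¹ X)) = D.act c X := by
      rw [act_mul h.hN (mul_mem (h.Q_N hcQ) ht) hyN, act_act_inv h.hN hyN,
        act_mul h.hN (h.Q_N hcQ) ht, htA, Tens.act_act_inv]
    rw [← hct]
    have e : c * t * y = y * t := by rw [hc]; group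
    rw [e, act_mul h.hN hyN ht, htA, hAB, hm.right, act_act]
  obtain ⟨k, hk⟩ := h.exists_order hcQ
  have hcA' : D.act c = Tens.act (A * (tor l)⁻¹) (B * (tor m)⁻¹) := funext hcA
  obtain ⟨d, hd⟩ := h.Q_fix hcQ 1
  rw [hcA'] at hk hd
  obtain ⟨u1, u2⟩ := two_L one_ne_zero hd hk
  refine ⟨(A * (tor l)⁻¹).1 0 1, (B * (tor m)⁻¹).1 0 1, fun X => ?_⟩
  rw [← u1, ← u2, inv_mul_cancel_right, inv_mul_cancel_right, hAB]

variable [Finite F]

/-- **`Q` induces a subgroup of `U₀`.** -/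
theorem U {y : G} (hy : y ∈ QQ D.R0) : ∃ a b, ∀ X, D.act y X = Tens.act (up a) (up b) X := by
  obtain ⟨t, ht0, ht1⟩ := h.three
  have hyN := h.Q_N hy
  have hm := nm (D := D) h.hN hyN
  obtain ⟨k, hk⟩ := h.exists_order hy
  rcases hm.dich ht0 ht1 with hT | hT
  · exact hm.mem_U ht0 ht1 hT (h.Q_fix hy) hk fun l => h.htor hy l l⁻¹
  · exfalso
    obtain ⟨B', hB'⟩ := hT.1 (tor (Units.mk0 t ht0))
    obtain ⟨a, b, hab⟩ := h.htor hy (Units.mk0 t ht0) 1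
    rw [tor_one] at hab
    have h1 : ∀ X, Tens.act 1 B' X = Tens.act (up a * tor (Units.mk0 t ht0)) (up b * 1) X := fun X => by
      have := hab (D.act y⁻¹ X)
      rw [hB', hm.right] at this
      exact this
    have h2 := (act_unique h1).1
    have h3 := congrArg (fun A : SL F => A.1 0 0) h2
    have h4 : (up a * tor (Units.mk0 t ht0)).1 = (up a).1 * (tor (Units.mk0 t ht0)).1 := rfl
    simp only [h4, up_val, tor_val, Matrix.mul_apply, Fin.sum_univ_two] at h3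
    simp at h3
    exact ht1 h3.symm

/-- the pairs which occur -/
theorem U_surj (a b : F) : ∃ y ∈ QQ D.R0, ∀ X, D.act y X = Tens.act (up a) (up b) X := by
  obtain ⟨t, ht0, ht1⟩ := h.three
  -- a nontrivial pair
  obtain ⟨y, hy, a0, b0, hyA, hne⟩ : ∃ y ∈ QQ D.R0, ∃ a0 b0 : F,
      (∀ X, D.act y X = Tens.act (up a0) (up b0) X) ∧ ¬ (a0 = 0 ∧ b0 = 0) := by
    by_contra hcon
    push Not at hcon
    apply h.V_Q
    refine le_trans ?_ h.char2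
    intro v hv
    rw [mem_centralizer_iff]
    intro y hy
    obtain ⟨a0, b0, hyA⟩ := h.U hy
    obtain ⟨ha, hb⟩ := hcon y hy a0 b0 hyA
    have h1 : ∀ X, D.act y X = X := fun X => by rw [hyA, ha, hb, up_zero, act_one]
    exact (mem_centralizer_iff.1 ((act_one_iff h.hN (h.Q_N hy)).1 h1) v hv).symm
  -- the swap
  obtain ⟨s, hs, hsT, hs0, hs3⟩ := exists_swap (D := D) h.hN ht0 ht1
  have hms := nm (D := D) h.hN hs
  obtain ⟨a1, ha1⟩ := hms.un2_left hsT hs0 a0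
  obtain ⟨b1, hb1⟩ := hms.un2_right hsT hs0 b0
  have hys : s * y * s⁻¹ ∈ QQ D.R0 := h.mv_Q hs hs0 hy
  have hysA : ∀ X, D.act (s * y * s⁻¹) X = Tens.act (up b1) (up a1) X := by
    intro X
    rw [act_mul h.hN (mul_mem hs (h.Q_N hy)) (inv_mem hs), act_mul h.hN hs (h.Q_N hy), hyA, act_split,
      ha1, hb1, hms.right, act_act, one_mul, mul_one]
  have ha01 : a0 ≠ 0 → a1 ≠ 0 := by
    intro ha h1
    apply ha
    rw [h1, up_zero] at ha1
    have h2 : ∀ X, Tens.act (up a0) 1 X = X := fun X => hms.inj (by rw [ha1, act_one])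
    have h3 := (act_eq_one h2).1
    rw [← up_zero] at h3
    exact up_inj h3
  have hb01 : b0 ≠ 0 → b1 ≠ 0 := by
    intro ha h1
    apply ha
    rw [h1, up_zero] at hb1
    have h2 : ∀ X, Tens.act 1 (up b0) X = X := fun X => hms.inj (by rw [hb1, act_one])
    have h3 := (act_eq_one h2).2
    rw [← up_zero] at h3
    exact up_inj h3
  have hadd : ∀ a b a' b' : F, (∃ y ∈ QQ D.R0, ∀ X, D.act y X = Tens.act (up a) (up b) X) →
      (∃ y ∈ QQ D.R0, ∀ X, D.act y X = Tens.act (up a') (up b') X) →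
      ∃ y ∈ QQ D.R0, ∀ X, D.act y X = Tens.act (up (a + a')) (up (b + b')) X := by
    rintro a b a' b' ⟨y, hy, hyA⟩ ⟨z, hz, hzA⟩
    refine ⟨y * z, mul_mem hy hz, fun X => ?_⟩
    rw [act_mul h.hN (h.Q_N hy) (h.Q_N hz), hyA, hzA, act_act, up_add, up_add]
  have htor : ∀ (l m : Fˣ) (a b : F), (∃ y ∈ QQ D.R0, ∀ X, D.act y X = Tens.act (up a) (up b) X) →
      ∃ y ∈ QQ D.R0, ∀ X, D.act y X = Tens.act (up (l * l * a)) (up (m * m * b)) X := by
    rintro l m a b ⟨y, hy, hyA⟩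
    obtain ⟨t, ht, htA⟩ := lift_act (D := D) h.hN (tor l) (tor m)
    have ht0' : ∀ x, ∃ z, D.act t (e0 x) = e0 z := fun x => ⟨l * m * x, by rw [htA, act_tor_e0]⟩
    refine ⟨t * y * t⁻¹, h.mv_Q ht ht0' hy, fun X => ?_⟩
    rw [act_mul h.hN (mul_mem ht (h.Q_N hy)) (inv_mem ht), act_mul h.hN ht (h.Q_N hy), hyA, htA,
      tor_act_up]
    congr 1
    rw [← htA, act_act_inv h.hN ht]
  rcases not_and_or.1 hne with h0 | h0
  · exact irr ht0 ht1 hadd htor ⟨y, hy, hyA⟩ h0 ⟨_, hys, hysA⟩ (ha01 h0) a b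
  · exact irr ht0 ht1 hadd htor ⟨_, hys, hysA⟩ (hb01 h0) ⟨y, hy, hyA⟩ h0 a b

/-- `v ∈ N_G(R)` -/
theorem V_nor {v : G} (hv : v ∈ V) : v ∈ normalizer (D.R0 : Set G) :=
  (Mv.of_comm fun a ha => D.comm hv (R0_le ha)).mem_nor

/-- `[v,y] ∈ V ∩ Q` -/
theorem com_mem {v y : G} (hv : v ∈ V) (hy : y ∈ QQ D.R0) : y * v * y⁻¹ * v⁻¹ ∈ V ⊓ QQ D.R0 := by
  refine ⟨V.mul_mem ((h.hN y (h.Q_N hy) v).1 hv) (V.inv_mem hv), ?_⟩
  have e : y * v * y⁻¹ * v⁻¹ = y * (v * y⁻¹ * v⁻¹) := by group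
  rw [e]
  exact (QQ D.R0).mul_mem hy (((Mv.of_nor (h.V_nor hv)).QQ _).1 ((QQ D.R0).inv_mem hy))

theorem e_com {v y : G} (hv : v ∈ V) (hy : y ∈ QQ D.R0) :
    D.e (y * v * y⁻¹ * v⁻¹) = D.act y (D.e v) - D.e v := by
  rw [D.mul _ ((h.hN y (h.Q_N hy) v).1 hv) _ (inv_mem hv), D.e_inv hv, act_e h.hN (h.Q_N hy) hv,
    sub_eq_add_neg]

theorem com_v (X : M2 F) {y : G} (hy : y ∈ QQ D.R0) : D.v (D.act y X - X) ∈ QQ D.R0 := by
  have h1 := (h.com_mem (D.v_mem X) hy).2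
  have h2 := h.e_com (D.v_mem X) hy
  rw [D.e_v] at h2
  rw [← h2, D.v_e (h.com_mem (D.v_mem X) hy).1]
  exact h1

theorem e1_mem (c : F) : D.v (e1 c) ∈ QQ D.R0 := by
  obtain ⟨y, hy, hyA⟩ := h.U_surj c 0
  have h1 := h.com_v (e3 1) hy
  have e : D.act y (e3 1) - e3 1 = e1 c := by
    rw [hyA, act_up]; apply ext2 <;> simp [e1, e3]
  rwa [e] at h1

theorem e2_mem (c : F) : D.v (e2 c) ∈ QQ D.R0 := by
  obtain ⟨y, hy, hyA⟩ := h.U_surj 0 c
  have h1 := h.com_v (e3 1) hy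
  have e : D.act y (e3 1) - e3 1 = e2 c := by
    rw [hyA, act_up]; apply ext2 <;> simp [e2, e3]
  rwa [e] at h1

theorem e0_mem (c : F) : D.v (e0 c) ∈ QQ D.R0 := by
  obtain ⟨y, hy, hyA⟩ := h.U_surj c 0
  have h1 := h.com_v (e2 1) hy
  have e : D.act y (e2 1) - e2 1 = e0 c := by
    rw [hyA, act_up]; apply ext2 <;> simp [e0, e2]
  rwa [e] at h1

theorem perp_le {v : G} (hv : v ∈ V) (h0 : D.e v 1 1 = 0) : v ∈ QQ D.R0 := by
  have e : D.e v = e0 (D.e v 0 0) + e1 (D.e v 0 1) + e2 (D.e v 1 0) := by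
    conv_lhs => rw [e_sum (D.e v), h0, e3_zero, add_zero]
  have e' : v = D.v (e0 (D.e v 0 0)) * D.v (e1 (D.e v 0 1)) * D.v (e2 (D.e v 1 0)) := by
    rw [← D.v_add, ← D.v_add, ← e, D.v_e hv]
  rw [e']
  exact mul_mem (mul_mem (h.e0_mem _) (h.e1_mem _)) (h.e2_mem _)

/-- `V ∩ Q = R^⊥` -/
theorem mem_E {v : G} (hv : v ∈ V) : v ∈ QQ D.R0 ↔ D.e v 1 1 = 0 := by
  refine ⟨fun hvQ => ?_, h.perp_le hv⟩
  by_contra hne
  apply h.V_Q
  intro w hw
  by_cases hw0 : D.e w 1 1 = 0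
  · exact h.perp_le hw hw0
  -- a torus element maps `v` to an element with the same last entry as `w`
  have hl : (D.e v 1 1) * (D.e w 1 1)⁻¹ ≠ 0 := mul_ne_zero hne (inv_ne_zero hw0)
  obtain ⟨t, ht, htA⟩ := lift_act (D := D) h.hN (tor (Units.mk0 _ hl)) (tor 1)
  have ht0' : ∀ x, ∃ z, D.act t (e0 x) = e0 z := fun x => ⟨_ , by rw [htA, act_tor_e0]⟩
  have h1 := h.mv_Q ht ht0' hvQ
  have h2 : t * v * t⁻¹ ∈ V := (h.hN t ht v).1 hv
  have h3 : D.e (t * v * t⁻¹) 1 1 = D.e w 1 1 := by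
    rw [← act_e h.hN ht hv, htA, act_tor]
    simp
    field_simp
  have h4 : (t * v * t⁻¹)⁻¹ * w ∈ QQ D.R0 := by
    refine h.perp_le (mul_mem (inv_mem h2) hw) ?_
    rw [D.mul _ (inv_mem h2) _ hw, D.e_inv h2]
    simp [h3]
  have h5 := mul_mem h1 h4
  have e : t * v * t⁻¹ * ((t * v * t⁻¹)⁻¹ * w) = w := by group
  rwa [e] at h5

end Cx

end Cfsg.Agent.Omega.NO1.PlusQ
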