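import Mathlib

/-!
# Type (γ) of the leaf N1: the `SL₂(F) × SL₂(F)`-module `M₂(F)`, `char F = 2` (helper914)

`act A B X = A X Bᵀ`.  `Nm γ δ` : `γ` is an additive bijection (inverse `δ`) which normalises `{act A B}`.

* `Nm.dich` : `γ` normalises both factors (`T1`) or interchanges them (`T2`).
-/

set_option autoImplicit false
set_option linter.unusedSectionVars false

namespace Cfsg.Agent.Omega.NO1.Tens

open Matrix

/-- the `2 × 2`-matrices -/
abbrev M2 (F : Type) := Matrix (Fin 2) (Fin 2) F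

/-- `SL₂(F)` -/
abbrev SL (F : Type) [Field F] := Matrix.SpecialLinearGroup (Fin 2) F

section

variable {F : Type} [Field F]

/-- `X ↦ A X Bᵀ` -/
def act (A B : SL F) (X : M2 F) : M2 F := A.1 * X * B.1.transpose

theorem act_apply (A B : SL F) (X : M2 F) (i j : Fin 2) :
    act A B X i j = (A.1 i 0 * X 0 0 + A.1 i 1 * X 1 0) * B.1 j 0 +
      (A.1 i 0 * X 0 1 + A.1 i 1 * X 1 1) * B.1 j 1 := by
  simp [act, Matrix.mul_apply, Fin.sum_univ_two]

theorem act_act (A B C D : SL F) (X : M2 F) : act A B (act C D X) = act (A * C) (B * D) X := by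
  simp only [act, Matrix.SpecialLinearGroup.coe_mul, Matrix.transpose_mul, Matrix.mul_assoc]

@[simp] theorem act_one (X : M2 F) : act 1 1 X = X := by
  simp [act]

theorem act_add (A B : SL F) (X Y : M2 F) : act A B (X + Y) = act A B X + act A B Y := by
  simp only [act, Matrix.mul_add, Matrix.add_mul]

theorem act_inv_act (A B : SL F) (X : M2 F) : act A⁻¹ B⁻¹ (act A B X) = X := by
  rw [act_act, inv_mul_cancel, inv_mul_cancel, act_one]

theorem act_act_inv (A B : SL F) (X : M2 F) : act A B (act A⁻¹ B⁻¹ X) = X := by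
  rw [act_act, mul_inv_cancel, mul_inv_cancel, act_one]

theorem act_inj {A B : SL F} {X Y : M2 F} (h : act A B X = act A B Y) : X = Y := by
  rw [← act_inv_act A B X, h, act_inv_act]

theorem act_zero (A B : SL F) : act A B 0 = 0 := by simp [act]

theorem act_eq_zero {A B : SL F} {X : M2 F} (h : act A B X = 0) : X = 0 :=
  act_inj (h.trans (act_zero A B).symm)

theorem act_transpose (A B : SL F) (X : M2 F) : act A B X.transpose = (act B A X).transpose := by
  simp only [act, Matrix.transpose_mul, Matrix.transpose_transpose, Matrix.mul_assoc]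

theorem act_split (A B : SL F) (X : M2 F) : act A B X = act A 1 (act 1 B X) := by
  rw [act_act, mul_one, one_mul]

theorem act_split' (A B : SL F) (X : M2 F) : act A B X = act 1 B (act A 1 X) := by
  rw [act_act, mul_one, one_mul]

theorem det_act (A B : SL F) (X : M2 F) : (act A B X).det = X.det := by
  rw [act, Matrix.det_mul, Matrix.det_mul, Matrix.det_transpose, A.2, B.2, one_mul, mul_one]

theorem ext2 {X Y : M2 F} (h00 : X 0 0 = Y 0 0) (h01 : X 0 1 = Y 0 1) (h10 : X 1 0 = Y 1 0)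
    (h11 : X 1 1 = Y 1 1) : X = Y := by
  ext i j
  fin_cases i <;> fin_cases j <;> assumption

/-- `[[1,a],[0,1]]` -/
def up (a : F) : SL F := ⟨!![1, a; 0, 1], by simp [Matrix.det_fin_two]⟩

/-- `[[1,0],[a,1]]` -/
def dn (a : F) : SL F := ⟨!![1, 0; a, 1], by simp [Matrix.det_fin_two]⟩

/-- `diag(l, l⁻¹)` -/
def tor (l : Fˣ) : SL F := ⟨!![(l : F), 0; 0, ((l⁻¹ : Fˣ) : F)], by simp [Matrix.det_fin_two]⟩

/-- `c E₁₁` -/
def e0 (c : F) : M2 F := !![c, 0; 0, 0]

/-- `c E₂₂` -/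
def e3 (c : F) : M2 F := !![0, 0; 0, c]

/-- `c E₁₂` -/
def e1 (c : F) : M2 F := !![0, c; 0, 0]

/-- `c E₂₁` -/
def e2 (c : F) : M2 F := !![0, 0; c, 0]

theorem up_val (a : F) : (up a).1 = !![1, a; 0, 1] := rfl
theorem dn_val (a : F) : (dn a).1 = !![1, 0; a, 1] := rfl
theorem tor_val (l : Fˣ) : (tor l).1 = !![(l : F), 0; 0, ((l⁻¹ : Fˣ) : F)] := rfl

theorem SL_ext {A B : SL F} (h00 : A.1 0 0 = B.1 0 0) (h01 : A.1 0 1 = B.1 0 1)
    (h10 : A.1 1 0 = B.1 1 0) (h11 : A.1 1 1 = B.1 1 1) : A = B :=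
  Subtype.ext (ext2 h00 h01 h10 h11)

theorem SL_det (A : SL F) : A.1 0 0 * A.1 1 1 - A.1 0 1 * A.1 1 0 = 1 := by
  have := A.2
  rwa [Matrix.det_fin_two] at this

theorem up_zero : up (0 : F) = 1 := by
  apply SL_ext <;> simp [up]

theorem up_add (a b : F) : up (a + b) = up a * up b := by
  apply Subtype.ext
  rw [Matrix.SpecialLinearGroup.coe_mul, up_val, up_val, up_val]
  apply ext2 <;> simp [Matrix.mul_apply, Fin.sum_univ_two, add_comm]

theorem up_inj {a b : F} (h : up a = up b) : a = b := by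
  have := congrArg (fun A : SL F => A.1 0 1) h
  simpa [up] using this

theorem dn_inj {a b : F} (h : dn a = dn b) : a = b := by
  have := congrArg (fun A : SL F => A.1 1 0) h
  simpa [dn] using this

theorem tor_mul (l m : Fˣ) : tor (l * m) = tor l * tor m := by
  apply Subtype.ext
  rw [Matrix.SpecialLinearGroup.coe_mul, tor_val, tor_val, tor_val]
  apply ext2 <;> simp [Matrix.mul_apply, Fin.sum_univ_two, mul_comm]

theorem tor_one : tor (1 : Fˣ) = 1 := by
  apply SL_ext <;> simp [tor]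

theorem act_up (a b : F) (X : M2 F) : act (up a) (up b) X =
    !![X 0 0 + a * X 1 0 + b * (X 0 1 + a * X 1 1), X 0 1 + a * X 1 1;
      X 1 0 + b * X 1 1, X 1 1] := by
  apply ext2 <;> rw [act_apply, up_val, up_val] <;> simp <;> ring

theorem act_tor (l m : Fˣ) (X : M2 F) : act (tor l) (tor m) X =
    !![l * m * X 0 0, l * (m⁻¹ : Fˣ) * X 0 1; (l⁻¹ : Fˣ) * m * X 1 0, (l⁻¹ : Fˣ) * (m⁻¹ : Fˣ) * X 1 1] := by
  apply ext2 <;> rw [act_apply, tor_val, tor_val] <;> simp <;> ring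

theorem e0_add (c d : F) : e0 (c + d) = e0 c + e0 d := by
  apply ext2 <;> simp [e0]

theorem e1_add (c d : F) : e1 (c + d) = e1 c + e1 d := by
  apply ext2 <;> simp [e1]

theorem e2_add (c d : F) : e2 (c + d) = e2 c + e2 d := by
  apply ext2 <;> simp [e2]

theorem e3_add (c d : F) : e3 (c + d) = e3 c + e3 d := by
  apply ext2 <;> simp [e3]

theorem e_sum (X : M2 F) : X = e0 (X 0 0) + e1 (X 0 1) + e2 (X 1 0) + e3 (X 1 1) := by
  apply ext2 <;> simp [e0, e1, e2, e3]

theorem e0_inj {c d : F} (h : e0 c = e0 d) : c = d := by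
  have := congrFun (congrFun h 0) 0; simpa [e0] using this

theorem e1_inj {c d : F} (h : e1 c = e1 d) : c = d := by
  have := congrFun (congrFun h 0) 1; simpa [e1] using this

theorem e2_inj {c d : F} (h : e2 c = e2 d) : c = d := by
  have := congrFun (congrFun h 1) 0; simpa [e2] using this

theorem e3_inj {c d : F} (h : e3 c = e3 d) : c = d := by
  have := congrFun (congrFun h 1) 1; simpa [e3] using this

theorem e0_zero : e0 (0 : F) = 0 := by apply ext2 <;> simp [e0]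
theorem e1_zero : e1 (0 : F) = 0 := by apply ext2 <;> simp [e1]
theorem e2_zero : e2 (0 : F) = 0 := by apply ext2 <;> simp [e2]
theorem e3_zero : e3 (0 : F) = 0 := by apply ext2 <;> simp [e3]

theorem e0_ne {c : F} (h : c ≠ 0) : e0 c ≠ 0 := fun h1 => h (e0_inj (h1.trans e0_zero.symm))
theorem e3_ne {c : F} (h : c ≠ 0) : e3 c ≠ 0 := fun h1 => h (e3_inj (h1.trans e3_zero.symm))

/-- The stabiliser of `c E₁₁` in the left factor. -/
theorem act_e0_left {A : SL F} {c : F} (hc : c ≠ 0) (h : act A 1 (e0 c) = e0 c) :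
    A = up (A.1 0 1) := by
  have h1 := congrFun (congrFun h 0) 0
  have h2 := congrFun (congrFun h 1) 0
  rw [act_apply] at h1 h2
  have h3 : A.1 0 0 = 1 := by
    refine mul_right_cancel₀ hc ?_
    rw [one_mul]
    simpa [e0] using h1
  have h4 : A.1 1 0 = 0 := by
    refine mul_right_cancel₀ hc ?_
    rw [zero_mul]
    simpa [e0, hc] using h2
  have h5 := SL_det A
  rw [h3, h4] at h5
  apply SL_ext
  · simpa [up] using h3
  · simp [up]
  · simpa [up] using h4
  · have : A.1 1 1 = 1 := by simpa using h5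
    simpa [up] using this

theorem act_up_e0 (a b : F) (c : F) : act (up a) (up b) (e0 c) = e0 c := by
  rw [act_up]
  apply ext2 <;> simp [e0]

/-! ### The action is faithful in characteristic 2 -/

theorem eq_one_of_sq [CharP F 2] {a : F} (h : a * a = 1) : a = 1 := by
  have h1 : (a + 1) * (a + 1) = 0 := by
    have : (a + 1) * (a + 1) = a * a + 1 + (a + a) := by ring
    rw [this, h, CharTwo.add_self_eq_zero, CharTwo.add_self_eq_zero, add_zero]
  have h2 : a + 1 = 0 := by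
    rcases mul_eq_zero.1 h1 with h2 | h2 <;> exact h2
  have := CharTwo.add_eq_zero.1 h2
  exact this

theorem act_eq_one [CharP F 2] {A B : SL F} (h : ∀ X, act A B X = X) : A = 1 ∧ B = 1 := by
  have h1 := h (e0 1)
  have h2 := h (e1 1)
  have h3 := h (e3 1)
  have a1 := congrFun (congrFun h1 0) 0
  have a2 := congrFun (congrFun h1 0) 1
  have a3 := congrFun (congrFun h1 1) 0
  have b2 := congrFun (congrFun h2 0) 1
  have c1 := congrFun (congrFun h3 1) 1
  have c2 := congrFun (congrFun h3 0) 1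
  have c3 := congrFun (congrFun h3 1) 0
  simp only [act_apply] at a1 a2 a3 b2 c1 c2 c3
  simp only [e0, e1, e3, Matrix.of_apply, Matrix.cons_val_zero, Matrix.cons_val_one,
    Matrix.cons_val', mul_zero, mul_one, add_zero, zero_add, zero_mul, Matrix.cons_val_fin_one]
    at a1 a2 a3 b2 c1 c2 c3
  have nA : A.1 0 0 ≠ 0 := fun h0 => by rw [h0, zero_mul] at a1; exact zero_ne_one a1
  have nB : B.1 0 0 ≠ 0 := fun h0 => by rw [h0, mul_zero] at a1; exact zero_ne_one a1
  have nA' : A.1 1 1 ≠ 0 := fun h0 => by rw [h0, zero_mul] at c1; exact zero_ne_one c1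
  have nB' : B.1 1 1 ≠ 0 := fun h0 => by rw [h0, mul_zero] at c1; exact zero_ne_one c1
  have B10 : B.1 1 0 = 0 := (mul_eq_zero.1 a2).resolve_left nA
  have A10 : A.1 1 0 = 0 := (mul_eq_zero.1 a3).resolve_right nB
  have A01 : A.1 0 1 = 0 := (mul_eq_zero.1 c2).resolve_right nB'
  have B01 : B.1 0 1 = 0 := (mul_eq_zero.1 c3).resolve_left nA'
  have dA := SL_det A
  have dB := SL_det B
  rw [A01, zero_mul, sub_zero] at dA
  rw [B01, zero_mul, sub_zero] at dB
  have e1' : A.1 0 0 = A.1 1 1 := mul_right_cancel₀ nB' (b2.trans c1.symm)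
  have A11 : A.1 1 1 = 1 := eq_one_of_sq (by rw [e1'] at dA; exact dA)
  have A00 : A.1 0 0 = 1 := e1'.trans A11
  have B11 : B.1 1 1 = 1 := by rw [A11, one_mul] at c1; exact c1
  have B00 : B.1 0 0 = 1 := by rw [A00, one_mul] at a1; exact a1
  exact ⟨SL_ext (by simpa using A00) (by simpa using A01) (by simpa using A10) (by simpa using A11),
    SL_ext (by simpa using B00) (by simpa using B01) (by simpa using B10) (by simpa using B11)⟩

theorem act_unique [CharP F 2] {A B C D : SL F} (h : ∀ X, act A B X = act C D X) :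
    A = C ∧ B = D := by
  have h1 := act_eq_one (A := C⁻¹ * A) (B := D⁻¹ * B) (fun X => by
    rw [← act_act, h X, act_inv_act])
  exact ⟨(inv_mul_eq_one.1 h1.1).symm, (inv_mul_eq_one.1 h1.2).symm⟩

/-- Two elements of `SL₂(F)`, `|F| ≥ 4` even, all conjugates of one commuting with the other. -/
theorem comm_gen [CharP F 2] {t : F} (ht0 : t ≠ 0) (ht1 : t ≠ 1) {a b : SL F}
    (h : ∀ C : SL F, (C * a * C⁻¹) * b = b * (C * a * C⁻¹)) : a = 1 ∨ b = 1 := by
  -- entries of the commutation relation for `M` and `b`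
  have key : ∀ M : SL F, M * b = b * M →
      M.1 0 1 * b.1 1 0 = b.1 0 1 * M.1 1 0 ∧
      M.1 0 0 * b.1 0 1 + M.1 0 1 * b.1 1 1 = b.1 0 0 * M.1 0 1 + b.1 0 1 * M.1 1 1 ∧
      M.1 1 0 * b.1 0 0 + M.1 1 1 * b.1 1 0 = b.1 1 0 * M.1 0 0 + b.1 1 1 * M.1 1 0 := by
    intro M hM
    have h1 : M.1 * b.1 = b.1 * M.1 := by
      have := congrArg Subtype.val hM
      rwa [Matrix.SpecialLinearGroup.coe_mul, Matrix.SpecialLinearGroup.coe_mul] at this
    have h00 := congrFun (congrFun h1 0) 0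
    have h01 := congrFun (congrFun h1 0) 1
    have h10 := congrFun (congrFun h1 1) 0
    simp only [Matrix.mul_apply, Fin.sum_univ_two] at h00 h01 h10
    refine ⟨?_, h01, h10⟩
    have : M.1 0 0 * b.1 0 0 + M.1 0 1 * b.1 1 0 = M.1 0 0 * b.1 0 0 + b.1 0 1 * M.1 1 0 := by
      rw [h00]; ring
    exact add_left_cancel this
  have hup : ∀ s : F, (up s * a * (up s)⁻¹).1 =
      !![a.1 0 0 + s * a.1 1 0, a.1 0 1 + s * a.1 1 1 - s * (a.1 0 0 + s * a.1 1 0);
        a.1 1 0, a.1 1 1 - s * a.1 1 0] := by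
    intro s
    have : (up s)⁻¹ = up (-s) := by
      rw [inv_eq_iff_mul_eq_one, ← up_add, add_neg_cancel, up_zero]
    rw [this, Matrix.SpecialLinearGroup.coe_mul, Matrix.SpecialLinearGroup.coe_mul, up_val, up_val]
    apply ext2 <;> simp only [Matrix.mul_apply, Fin.sum_univ_two] <;> simp <;> ring
  have hdn : ∀ s : F, (dn s * a * (dn s)⁻¹).1 =
      !![a.1 0 0 - s * a.1 0 1, a.1 0 1;
        a.1 1 0 + s * a.1 0 0 - s * (a.1 1 1 + s * a.1 0 1), a.1 1 1 + s * a.1 0 1] := by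
    intro s
    have hd : ∀ x y : F, dn (x + y) = dn x * dn y := by
      intro x y
      apply Subtype.ext
      rw [Matrix.SpecialLinearGroup.coe_mul, dn_val, dn_val, dn_val]
      apply ext2 <;> simp [Matrix.mul_apply, Fin.sum_univ_two]
    have hz : dn (0 : F) = 1 := by apply SL_ext <;> simp [dn]
    have : (dn s)⁻¹ = dn (-s) := by
      rw [inv_eq_iff_mul_eq_one, ← hd, add_neg_cancel, hz]
    rw [this, Matrix.SpecialLinearGroup.coe_mul, Matrix.SpecialLinearGroup.coe_mul, dn_val, dn_val]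
    apply ext2 <;> simp only [Matrix.mul_apply, Fin.sum_univ_two] <;> simp <;> ring
  obtain ⟨k1, k2, k3⟩ := key a (by have := h 1; simpa using this)
  have hU : ∀ s : F, s * (a.1 1 1 + a.1 0 0 + s * a.1 1 0) * b.1 1 0 = 0 ∧
      s * (a.1 1 1 + a.1 0 0 + s * a.1 1 0) * (b.1 0 0 + b.1 1 1) = 0 := by
    intro s
    obtain ⟨m1, m2, -⟩ := key _ (h (up s))
    rw [hup s] at m1 m2
    simp only [Matrix.of_apply, Matrix.cons_val', Matrix.cons_val_zero, Matrix.cons_val_one,
      Matrix.cons_val_fin_one] at m1 m2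
    simp only [CharTwo.sub_eq_add] at m1 m2
    constructor
    · have : s * (a.1 1 1 + a.1 0 0 + s * a.1 1 0) * b.1 1 0 =
        ((a.1 0 1 + s * a.1 1 1 + s * (a.1 0 0 + s * a.1 1 0)) * b.1 1 0 + b.1 0 1 * a.1 1 0) +
          (a.1 0 1 * b.1 1 0 + b.1 0 1 * a.1 1 0) + -(2 : F) * (b.1 0 1 * a.1 1 0 + a.1 0 1 * b.1 1 0) := by ring
      rw [this, m1, k1, CharTwo.add_self_eq_zero, CharTwo.add_self_eq_zero, CharTwo.two_eq_zero]
      ring
    · have : s * (a.1 1 1 + a.1 0 0 + s * a.1 1 0) * (b.1 0 0 + b.1 1 1) =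
        (((a.1 0 0 + s * a.1 1 0) * b.1 0 1 +
            (a.1 0 1 + s * a.1 1 1 + s * (a.1 0 0 + s * a.1 1 0)) * b.1 1 1) +
          (b.1 0 0 * (a.1 0 1 + s * a.1 1 1 + s * (a.1 0 0 + s * a.1 1 0)) +
            b.1 0 1 * (a.1 1 1 + s * a.1 1 0))) +
          ((a.1 0 0 * b.1 0 1 + a.1 0 1 * b.1 1 1) + (b.1 0 0 * a.1 0 1 + b.1 0 1 * a.1 1 1)) +
          -(2 : F) * (a.1 0 0 * b.1 0 1 + b.1 0 1 * a.1 1 1 + a.1 0 1 * b.1 1 1 + b.1 0 0 * a.1 0 1 +
            s * a.1 1 0 * b.1 0 1) := by ring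
      rw [this, m2, k2, CharTwo.add_self_eq_zero, CharTwo.add_self_eq_zero, CharTwo.two_eq_zero]
      ring
  have hD : ∀ s : F, s * (a.1 0 0 + a.1 1 1 + s * a.1 0 1) * b.1 0 1 = 0 ∧
      s * (a.1 0 0 + a.1 1 1 + s * a.1 0 1) * (b.1 0 0 + b.1 1 1) = 0 := by
    intro s
    obtain ⟨m1, -, m2⟩ := key _ (h (dn s))
    rw [hdn s] at m1 m2
    simp only [Matrix.of_apply, Matrix.cons_val', Matrix.cons_val_zero, Matrix.cons_val_one,
      Matrix.cons_val_fin_one] at m1 m2
    simp only [CharTwo.sub_eq_add] at m1 m2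
    constructor
    · have : s * (a.1 0 0 + a.1 1 1 + s * a.1 0 1) * b.1 0 1 =
        (b.1 0 1 * (a.1 1 0 + s * a.1 0 0 + s * (a.1 1 1 + s * a.1 0 1)) + a.1 0 1 * b.1 1 0) +
          (b.1 0 1 * a.1 1 0 + a.1 0 1 * b.1 1 0) + -(2 : F) * (b.1 0 1 * a.1 1 0 + a.1 0 1 * b.1 1 0) := by ring
      rw [this, ← m1, ← k1, CharTwo.add_self_eq_zero, CharTwo.add_self_eq_zero, CharTwo.two_eq_zero]
      ring
    · have : s * (a.1 0 0 + a.1 1 1 + s * a.1 0 1) * (b.1 0 0 + b.1 1 1) =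
        (((a.1 1 0 + s * a.1 0 0 + s * (a.1 1 1 + s * a.1 0 1)) * b.1 0 0 +
            (a.1 1 1 + s * a.1 0 1) * b.1 1 0) +
          (b.1 1 0 * (a.1 0 0 + s * a.1 0 1) +
            b.1 1 1 * (a.1 1 0 + s * a.1 0 0 + s * (a.1 1 1 + s * a.1 0 1)))) +
          ((a.1 1 0 * b.1 0 0 + a.1 1 1 * b.1 1 0) + (b.1 1 0 * a.1 0 0 + b.1 1 1 * a.1 1 0)) +
          -(2 : F) * (a.1 1 0 * b.1 0 0 + a.1 1 1 * b.1 1 0 + b.1 1 0 * a.1 0 0 + b.1 1 1 * a.1 1 0 +
            s * a.1 0 1 * b.1 1 0) := by ring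
      rw [this, m2, k3, CharTwo.add_self_eq_zero, CharTwo.add_self_eq_zero, CharTwo.two_eq_zero]
      ring
  -- two values of `s`
  have fin : ∀ p q x : F, (∀ s : F, s * (p + s * q) * x = 0) → x ≠ 0 → p = 0 ∧ q = 0 := by
    intro p q x hx hx0
    have h1 := (mul_eq_zero.1 (hx 1)).resolve_right hx0
    have h2 := (mul_eq_zero.1 (hx t)).resolve_right hx0
    rw [one_mul, one_mul] at h1
    have h3 := (mul_eq_zero.1 h2).resolve_left ht0
    have h4 : (t - 1) * q = 0 := by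
      have : (t - 1) * q = (p + t * q) - (p + q) := by ring
      rw [this, h1, h3, sub_zero]
    have h5 := (mul_eq_zero.1 h4).resolve_left (sub_ne_zero.2 ht1)
    rw [h5, add_zero] at h1
    exact ⟨h1, h5⟩
  have dA := SL_det a
  have dB := SL_det b
  by_cases hb10 : b.1 1 0 = 0
  · by_cases hb01 : b.1 0 1 = 0
    · by_cases hbd : b.1 0 0 + b.1 1 1 = 0
      · right
        have e1 : b.1 0 0 = b.1 1 1 := CharTwo.add_eq_zero.1 hbd
        have e2 : b.1 1 1 = 1 := by
          rw [hb01, e1, zero_mul, sub_zero] at dB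
          exact eq_one_of_sq dB
        exact SL_ext (by simpa using e1.trans e2) (by simpa using hb01) (by simpa using hb10)
          (by simpa using e2)
      · left
        obtain ⟨p1, q1⟩ := fin _ _ _ (fun s => (hU s).2) hbd
        obtain ⟨p2, q2⟩ := fin _ _ _ (fun s => (hD s).2) hbd
        have e1 : a.1 1 1 = a.1 0 0 := CharTwo.add_eq_zero.1 p1
        have e2 : a.1 0 0 = 1 := by
          rw [q1, q2, e1, zero_mul, sub_zero] at dA
          exact eq_one_of_sq dA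
        exact SL_ext (by simpa using e2) (by simpa using q2) (by simpa using q1)
          (by simpa using e1.trans e2)
    · -- `b 0 1 ≠ 0`, `b 1 0 = 0`
      left
      obtain ⟨p2, q2⟩ := fin _ _ _ (fun s => (hD s).1) hb01
      have e1 : a.1 0 0 = a.1 1 1 := CharTwo.add_eq_zero.1 p2
      have q1 : a.1 1 0 = 0 := by
        have : b.1 0 1 * a.1 1 0 = 0 := by rw [← k1, hb10, mul_zero]
        exact (mul_eq_zero.1 this).resolve_left hb01
      have e2 : a.1 1 1 = 1 := by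
        rw [q1, q2, e1, zero_mul, sub_zero] at dA
        exact eq_one_of_sq dA
      exact SL_ext (by simpa using e1.trans e2) (by simpa using q2) (by simpa using q1)
        (by simpa using e2)
  · left
    obtain ⟨p1, q1⟩ := fin _ _ _ (fun s => (hU s).1) hb10
    have e1 : a.1 1 1 = a.1 0 0 := CharTwo.add_eq_zero.1 p1
    have q2 : a.1 0 1 = 0 := by
      have : a.1 0 1 * b.1 1 0 = 0 := by rw [k1, q1, mul_zero]
      exact (mul_eq_zero.1 this).resolve_right hb10
    have e2 : a.1 0 0 = 1 := by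
      rw [q1, q2, e1, zero_mul, sub_zero] at dA
      exact eq_one_of_sq dA
    exact SL_ext (by simpa using e2) (by simpa using q2) (by simpa using q1)
      (by simpa using e1.trans e2)

/-! ### The normaliser -/

/-- `γ` is an additive bijection, `δ` its inverse, and they normalise `{act A B}`. -/
structure Nm (γ δ : M2 F → M2 F) : Prop where
  add : ∀ X Y, γ (X + Y) = γ X + γ Y
  left : ∀ X, δ (γ X) = X
  right : ∀ X, γ (δ X) = X
  nor : ∀ A B : SL F, ∃ A' B' : SL F, ∀ X, γ (act A B X) = act A' B' (γ X)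
  nor' : ∀ A B : SL F, ∃ A' B' : SL F, ∀ X, δ (act A B X) = act A' B' (δ X)

/-- `γ` normalises both factors -/
def T1 (γ : M2 F → M2 F) : Prop :=
  (∀ A : SL F, ∃ A' : SL F, ∀ X, γ (act A 1 X) = act A' 1 (γ X)) ∧
    (∀ B : SL F, ∃ B' : SL F, ∀ X, γ (act 1 B X) = act 1 B' (γ X))

/-- `γ` interchanges the factors -/
def T2 (γ : M2 F → M2 F) : Prop :=
  (∀ A : SL F, ∃ B' : SL F, ∀ X, γ (act A 1 X) = act 1 B' (γ X)) ∧
    (∀ B : SL F, ∃ A' : SL F, ∀ X, γ (act 1 B X) = act A' 1 (γ X))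

namespace Nm

variable {γ δ : M2 F → M2 F}

theorem add' (h : Nm γ δ) (X Y : M2 F) : δ (X + Y) = δ X + δ Y := by
  have h1 : γ (δ X + δ Y) = X + Y := by rw [h.add, h.right, h.right]
  rw [← h1, h.left]

theorem symm (h : Nm γ δ) : Nm δ γ := ⟨h.add', h.right, h.left, h.nor', h.nor⟩

theorem inj (h : Nm γ δ) {X Y : M2 F} (he : γ X = γ Y) : X = Y := by
  rw [← h.left X, he, h.left]

theorem zero (h : Nm γ δ) : γ 0 = 0 := by
  have := h.add 0 0
  rw [add_zero] at this
  exact left_eq_add.1 this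

theorem comp {γ' δ' : M2 F → M2 F} (h : Nm γ δ) (h' : Nm γ' δ') :
    Nm (fun X => γ (γ' X)) (fun X => δ' (δ X)) where
  add X Y := by rw [h'.add, h.add]
  left X := by rw [h.left, h'.left]
  right X := by rw [h'.right, h.right]
  nor A B := by
    obtain ⟨A1, B1, h1⟩ := h'.nor A B
    obtain ⟨A2, B2, h2⟩ := h.nor A1 B1
    exact ⟨A2, B2, fun X => by rw [h1, h2]⟩
  nor' A B := by
    obtain ⟨A1, B1, h1⟩ := h.nor' A B
    obtain ⟨A2, B2, h2⟩ := h'.nor' A1 B1
    exact ⟨A2, B2, fun X => by rw [h1, h2]⟩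

theorem of_act (A B : SL F) : Nm (act A B) (act A⁻¹ B⁻¹) where
  add := act_add A B
  left := act_inv_act A B
  right := act_act_inv A B
  nor C D := ⟨A * C * A⁻¹, B * D * B⁻¹, fun X => by
    rw [act_act, act_act]; congr 1 <;> group⟩
  nor' C D := ⟨A⁻¹ * C * A, B⁻¹ * D * B, fun X => by
    rw [act_act, act_act]; congr 1 <;> group⟩

/-- **The dichotomy.** -/
theorem dich [CharP F 2] (h : Nm γ δ) {t : F} (ht0 : t ≠ 0) (ht1 : t ≠ 1) : T1 γ ∨ T2 γ := by
  choose f1 f2 hf using fun A => h.nor A 1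
  choose g1 g2 hg using fun B => h.nor 1 B
  -- the maps commute
  have hcomm : ∀ A B, f1 A * g1 B = g1 B * f1 A ∧ f2 A * g2 B = g2 B * f2 A := by
    intro A B
    apply act_unique
    intro X
    have h1 : γ (act A 1 (act 1 B (δ X))) = act (f1 A) (f2 A) (act (g1 B) (g2 B) X) := by
      rw [hf, hg, h.right]
    have h2 : γ (act 1 B (act A 1 (δ X))) = act (g1 B) (g2 B) (act (f1 A) (f2 A) X) := by
      rw [hg, hf, h.right]
    rw [← act_act, ← act_act, ← h1, ← h2, ← act_split, ← act_split']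
  have hsur : ∀ C D, ∃ A B, f1 A * g1 B = C ∧ f2 A * g2 B = D := by
    intro C D
    obtain ⟨A, B, hAB⟩ := h.nor' C D
    refine ⟨A, B, act_unique fun X => ?_⟩
    have h1 := hAB X
    have h2 : γ (act A B (δ X)) = act C D X := by rw [← h1, h.right]
    rw [← h2, act_split A B, hf, hg, h.right, act_act]
  have key1 : ∀ A B, f1 A = 1 ∨ g1 B = 1 := by
    intro A B
    apply comm_gen ht0 ht1
    intro C
    obtain ⟨A', B', hC, -⟩ := hsur C 1
    have c1 := (hcomm A B').1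
    have c2 := (hcomm A' B).1
    have c3 := (hcomm A B).1
    have e1 : C * f1 A * C⁻¹ = f1 A' * f1 A * (f1 A')⁻¹ := by
      rw [← hC]
      calc f1 A' * g1 B' * f1 A * (f1 A' * g1 B')⁻¹
          = f1 A' * (g1 B' * f1 A) * (g1 B')⁻¹ * (f1 A')⁻¹ := by group
        _ = f1 A' * (f1 A * g1 B') * (g1 B')⁻¹ * (f1 A')⁻¹ := by rw [c1]
        _ = _ := by group
    rw [e1]
    have e2 : (f1 A')⁻¹ * g1 B = g1 B * (f1 A')⁻¹ := by
      rw [inv_mul_eq_iff_eq_mul, ← mul_assoc, c2, mul_inv_cancel_right]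
    calc f1 A' * f1 A * (f1 A')⁻¹ * g1 B = f1 A' * f1 A * ((f1 A')⁻¹ * g1 B) := by group
      _ = f1 A' * (f1 A * g1 B) * (f1 A')⁻¹ := by rw [e2]; group
      _ = (f1 A' * g1 B) * f1 A * (f1 A')⁻¹ := by rw [c3]; group
      _ = g1 B * (f1 A' * f1 A * (f1 A')⁻¹) := by rw [c2]; group
  have key2 : ∀ A B, f2 A = 1 ∨ g2 B = 1 := by
    intro A B
    apply comm_gen ht0 ht1
    intro C
    obtain ⟨A', B', -, hC⟩ := hsur 1 C
    have c1 := (hcomm A B').2
    have c2 := (hcomm A' B).2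
    have c3 := (hcomm A B).2
    have e1 : C * f2 A * C⁻¹ = f2 A' * f2 A * (f2 A')⁻¹ := by
      rw [← hC]
      calc f2 A' * g2 B' * f2 A * (f2 A' * g2 B')⁻¹
          = f2 A' * (g2 B' * f2 A) * (g2 B')⁻¹ * (f2 A')⁻¹ := by group
        _ = f2 A' * (f2 A * g2 B') * (g2 B')⁻¹ * (f2 A')⁻¹ := by rw [c1]
        _ = _ := by group
    rw [e1]
    have e2 : (f2 A')⁻¹ * g2 B = g2 B * (f2 A')⁻¹ := by
      rw [inv_mul_eq_iff_eq_mul, ← mul_assoc, c2, mul_inv_cancel_right]
    calc f2 A' * f2 A * (f2 A')⁻¹ * g2 B = f2 A' * f2 A * ((f2 A')⁻¹ * g2 B) := by group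
      _ = f2 A' * (f2 A * g2 B) * (f2 A')⁻¹ := by rw [e2]; group
      _ = (f2 A' * g2 B) * f2 A * (f2 A')⁻¹ := by rw [c3]; group
      _ = g2 B * (f2 A' * f2 A * (f2 A')⁻¹) := by rw [c2]; group
  have hne : up (1 : F) ≠ 1 := by
    rw [← up_zero]
    exact fun h1 => one_ne_zero (up_inj h1)
  by_cases hA1 : ∀ A, f1 A = 1
  · -- `f1 = 1`
    by_cases hA2 : ∀ A, f2 A = 1
    · exfalso
      have : up (1 : F) = 1 ∧ (1 : SL F) = 1 := act_eq_one fun X => h.inj (by
        rw [hf, hA1, hA2, act_one])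
      exact hne this.1
    · push Not at hA2
      obtain ⟨A0, hA0⟩ := hA2
      have hB2 : ∀ B, g2 B = 1 := fun B => (key2 A0 B).resolve_left hA0
      right
      exact ⟨fun A => ⟨f2 A, fun X => by rw [hf, hA1]⟩, fun B => ⟨g1 B, fun X => by rw [hg, hB2]⟩⟩
  · push Not at hA1
    obtain ⟨A0, hA0⟩ := hA1
    have hB1 : ∀ B, g1 B = 1 := fun B => (key1 A0 B).resolve_left hA0
    by_cases hA2 : ∀ A, f2 A = 1
    · left
      exact ⟨fun A => ⟨f1 A, fun X => by rw [hf, hA2]⟩, fun B => ⟨g2 B, fun X => by rw [hg, hB1]⟩⟩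
    · push Not at hA2
      obtain ⟨A1, hA1⟩ := hA2
      have hB2 : ∀ B, g2 B = 1 := fun B => (key2 A1 B).resolve_left hA1
      exfalso
      have : (1 : SL F) = 1 ∧ up (1 : F) = 1 := act_eq_one fun X => h.inj (by
        rw [hg, hB1, hB2, act_one])
      exact hne this.2

end Nm

end

end Cfsg.Agent.Omega.NO1.Tens
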