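import Cfsg.Agent.Omega.NO1.Tens.Plug
import Cfsg.Agent.Omega.NO1.Tens.GinOne

/-!
# Type (γ) of the leaf N1 (helper914)

`Cx.conj_cE`, `Cx.swap_R`; the structures `All.NOne.Core` and `Gamma.Gin1` are in `GinOne.lean` (helper983).
-/

set_option autoImplicit false
set_option linter.unusedSectionVars false
set_option linter.unusedVariables false

namespace Cfsg.Agent.Omega.NO1.PlusQ

open Subgroup Cfsg Matrix
open Cfsg.Agent.Omega.NO1.Tens
open Cfsg.Agent.Omega.NO1.BetaPlus (Mv QQ Bp)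
open Cfsg.Agent.Omega.NO1.Beta.Meet (cj mem_cj)

universe u

variable {G : Type u} [Group G] {F : Type} [Field F] {N V : Subgroup G}

variable {D : PlusQ F N V} [CharP F 2] [Finite G] [Finite F]

theorem cE_eq_of {D : PlusQ F N V} {w : G} (hw : w ∈ V) {a : F} {b : F × F} {d : F} (h : D.e w = !![a, b.1; b.2, d]) :
    w = D.cE a b d := D.e_inj hw (D.cE_mem _ _ _) (by rw [h, D.e_cE])

namespace Cx

variable (h : Cx D)
include h

/-- `y ∈ Q` on `V` -/
theorem conj_cE {y : G} (hy : y ∈ QQ D.R0) (a : F) (b : F × F) (d : F) :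
    y * D.cE a b d * y⁻¹ = D.cE (a + (b.1 * D.be y + b.2 * D.al y) + D.al y * D.be y * d)
      (b + d • (D.al y, D.be y)) d := by
  refine cE_eq_of ((h.hN y (h.Q_N hy) _).1 (D.cE_mem _ _ _)) ?_
  rw [← act_e h.hN (h.Q_N hy) (D.cE_mem _ _ _), D.e_cE, h.act_y hy, act_up]
  apply ext2 <;> simp <;> ring

/-- a swap interchanges rows and columns -/
theorem swap_R {s : G} (hs : s ∈ N) (hT : T2 (D.act s)) : ∃ (σ τ : Option F → Option F),
    ∀ i j, cj s (D.R i j) = D.R (σ j) (τ i) := by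
  obtain ⟨t, ht0, ht1⟩ := h.three
  have hm := nm (D := D) h.hN hs
  choose A' hA' using hT.1
  choose B' hB' using hT.2
  obtain ⟨C, E, c, hc⟩ := exists_e0 (hm.det_eq_zero ht0 ht1 (det_e0 1))
  have hc0 : c ≠ 0 := by
    rintro rfl
    rw [e0_zero, act_zero] at hc
    exact e0_ne one_ne_zero (hm.inj (hc.trans hm.zero.symm))
  refine ⟨fun j => mob (B' (rep j) * C) none, fun i => mob (A' (rep i) * E) none, fun i j => ?_⟩
  obtain ⟨k, l, hkl⟩ := h.perm hs i j
  rw [hkl.cj_eq]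
  obtain ⟨T, hT1, e1⟩ := mob_spec (B' (rep j) * C) none
  obtain ⟨T', hT1', e1'⟩ := mob_spec (A' (rep i) * E) none
  rw [rep_none, mul_one] at e1 e1'
  have hw : D.v (Tens.act (rep i) (rep j) (e0 1)) ∈ D.R i j := ⟨D.v_mem _, 1, D.e_v _⟩
  have h1 := (hkl _).1 hw
  have h2 : s * D.v (Tens.act (rep i) (rep j) (e0 1)) * s⁻¹ ∈ D.R (mob (B' (rep j) * C) none) (mob (A' (rep i) * E) none) := by
    show _ ∈ D.RA (rep _) (rep _)
    rw [← RA_Bo _ _ hT1 hT1', ← e1, ← e1']
    refine ⟨(h.hN s hs _).1 (D.v_mem _), c, ?_⟩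
    show D.act s _ = _
    rw [act_split, hA', hB', hc, act_act, act_act]
    simp only [one_mul, mul_one]
  have h3 := R_disj (D := D) (i := k) (j := l) (k := mob (B' (rep j) * C) none) (l := mob (A' (rep i) * E) none) (by
    intro hbot
    have h4 : s * D.v (Tens.act (rep i) (rep j) (e0 1)) * s⁻¹ ∈ (⊥ : Subgroup G) := by
      rw [← hbot]; exact ⟨h1, h2⟩
    rw [mem_bot] at h4
    have h5 : D.v (Tens.act (rep i) (rep j) (e0 1)) = 1 := by
      have := congrArg (fun x => s⁻¹ * x * s) h4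
      simpa [mul_assoc] using this
    have h6 : Tens.act (rep i) (rep j) (e0 1) = (0 : M2 F) := by
      rw [← D.e_v (Tens.act (rep i) (rep j) (e0 1)), h5, D.e_one]
    exact e0_ne one_ne_zero (act_eq_zero h6))
  rw [h3.1, h3.2]

end Cx

end Cfsg.Agent.Omega.NO1.PlusQ
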