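import Cfsg.Agent.Omega.NO1.Tens.Point

/-!
# Type (γ) of the leaf N1: 2-elements of the normaliser that fix the point `0` (helper914)

* `Nm.mem_U` : a 2-element of type `T1` that fixes the point `0` and centralises the torus
  `T₁ = {act (tor l) (tor l⁻¹)}` modulo `U₀ = {act (up a) (up b)}` lies in `U₀`;
* `Nm.swap_*` : the same for type `T2` (`|F| = 4` and `γ` moves `V / R^⊥`).
-/

set_option autoImplicit false
set_option linter.unusedSectionVars false

namespace Cfsg.Agent.Omega.NO1.Tens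

open Matrix

variable {F : Type} [Field F] [CharP F 2]

theorem eq_one_of_pow {x : F} {k : ℕ} (h : x ^ 2 ^ k = 1) : x = 1 := by
  induction k with
  | zero => simpa using h
  | succ k ih => exact ih (eq_one_of_sq (by rw [← pow_two, ← pow_mul, ← pow_succ]; exact h))

theorem exists_sq [Finite F] {x : F} (hx : x ≠ 0) : ∃ l : Fˣ, (l : F) * l = x := by
  have h1 : Function.Injective (fun y : F => y * y) := by
    intro y z hyz
    have : (y + z) * (y + z) = 0 := by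
      have e : (y + z) * (y + z) = y * y + z * z + (y * z + y * z) := by ring
      rw [e, CharTwo.add_self_eq_zero, add_zero, show y * y = z * z from hyz,
        CharTwo.add_self_eq_zero]
    have h2 : y + z = 0 := by rcases mul_eq_zero.1 this with h | h <;> exact h
    exact CharTwo.add_eq_zero.1 h2
  obtain ⟨y, hy⟩ := (Finite.injective_iff_surjective.1 h1) x
  have hy0 : y ≠ 0 := by
    rintro rfl
    apply hx
    rw [← hy]
    exact zero_mul 0
  exact ⟨Units.mk0 y hy0, hy⟩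

theorem act_up_e3_left (a c : F) : act (up a) 1 (e3 c) = e3 c + e1 (a * c) := by
  rw [act_up_left]; apply ext2 <;> simp [e3, e1]

theorem act_up_e3_right (b c : F) : act 1 (up b) (e3 c) = e3 c + e2 (b * c) := by
  rw [act_up_right]; apply ext2 <;> simp [e3, e2]

theorem act_up_e2_left (a c : F) : act (up a) 1 (e2 c) = e2 c + e0 (a * c) := by
  rw [act_up_left]; apply ext2 <;> simp [e2, e0]

theorem act_up_e1_left (a c : F) : act (up a) 1 (e1 c) = e1 c := by
  rw [act_up_left]; apply ext2 <;> simp [e1]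

theorem act_up_e1_right (b c : F) : act 1 (up b) (e1 c) = e1 c + e0 (b * c) := by
  rw [act_up_right]; apply ext2 <;> simp [e1, e0]

theorem act_up_e3 (a b c : F) : act (up a) (up b) (e3 c) =
    e3 c + e1 (a * c) + e2 (b * c) + e0 (a * b * c) := by
  rw [act_up]; apply ext2 <;> simp [e3, e1, e2, e0] <;> ring

theorem act_tor_e1 (l : Fˣ) (c : F) : act (tor l) (tor l⁻¹) (e1 c) = e1 (l * l * c) := by
  rw [act_tor]; apply ext2 <;> simp [e1]

theorem act_tor_e2 (l : Fˣ) (c : F) : act (tor l) (tor l⁻¹) (e2 c) =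
    e2 ((l : F)⁻¹ * (l : F)⁻¹ * c) := by
  rw [act_tor]; apply ext2 <;> simp [e2]

theorem act_tor_e3 (l : Fˣ) (c : F) : act (tor l) (tor l⁻¹) (e3 c) = e3 c := by
  rw [act_tor]; apply ext2 <;> simp [e3]

theorem tor_up (l : Fˣ) (a : F) : tor l * up a = up (l * l * a) * tor l := by
  apply Subtype.ext
  rw [Matrix.SpecialLinearGroup.coe_mul, Matrix.SpecialLinearGroup.coe_mul, tor_val, up_val, up_val]
  apply ext2 <;> simp [Matrix.mul_apply, Fin.sum_univ_two]
  field_simp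

namespace Nm

variable {γ δ : M2 F → M2 F}

theorem ne_zero_of (h : Nm γ δ) {c d : F} (hc : c ≠ 0) (he : γ (e0 c) = e0 d) : d ≠ 0 := by
  rintro rfl
  rw [e0_zero, ← h.zero] at he
  exact e0_ne hc (h.inj he)

theorem un1_left (h : Nm γ δ) (hT : T1 γ) (h0 : ∀ x, ∃ y, γ (e0 x) = e0 y) (a : F) :
    ∃ a', ∀ X, γ (act (up a) 1 X) = act (up a') 1 (γ X) := by
  obtain ⟨d, he⟩ := h0 1
  have hd := h.ne_zero_of one_ne_zero he
  obtain ⟨A', hA'⟩ := hT.1 (up a)
  have h1 : A' = up (A'.1 0 1) := act_e0_left hd (by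
    rw [← he, ← hA', ← up_zero, act_up_e0])
  exact ⟨A'.1 0 1, fun X => by rw [← h1, hA']⟩

theorem un1_right (h : Nm γ δ) (hT : T1 γ) (h0 : ∀ x, ∃ y, γ (e0 x) = e0 y) (b : F) :
    ∃ b', ∀ X, γ (act 1 (up b) X) = act 1 (up b') (γ X) := by
  obtain ⟨d, he⟩ := h0 1
  have hd := h.ne_zero_of one_ne_zero he
  obtain ⟨B', hB'⟩ := hT.2 (up b)
  have h1 : B' = up (B'.1 0 1) := act_e0_right hd (by
    rw [← he, ← hB', ← up_zero, act_up_e0])
  exact ⟨B'.1 0 1, fun X => by rw [← h1, hB']⟩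

theorem un2_left (h : Nm γ δ) (hT : T2 γ) (h0 : ∀ x, ∃ y, γ (e0 x) = e0 y) (a : F) :
    ∃ a', ∀ X, γ (act (up a) 1 X) = act 1 (up a') (γ X) := by
  obtain ⟨d, he⟩ := h0 1
  have hd := h.ne_zero_of one_ne_zero he
  obtain ⟨A', hA'⟩ := hT.1 (up a)
  have h1 : A' = up (A'.1 0 1) := act_e0_right hd (by
    rw [← he, ← hA', ← up_zero, act_up_e0])
  exact ⟨A'.1 0 1, fun X => by rw [← h1, hA']⟩

theorem un2_right (h : Nm γ δ) (hT : T2 γ) (h0 : ∀ x, ∃ y, γ (e0 x) = e0 y) (b : F) :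
    ∃ b', ∀ X, γ (act 1 (up b) X) = act (up b') 1 (γ X) := by
  obtain ⟨d, he⟩ := h0 1
  have hd := h.ne_zero_of one_ne_zero he
  obtain ⟨B', hB'⟩ := hT.2 (up b)
  have h1 : B' = up (B'.1 0 1) := act_e0_left hd (by
    rw [← he, ← hB', ← up_zero, act_up_e0])
  exact ⟨B'.1 0 1, fun X => by rw [← h1, hB']⟩

theorem up_ne_one {a : F} (ha : a ≠ 0) : up a ≠ 1 := by
  rw [← up_zero]
  exact fun h => ha (up_inj h)

/-- Normal form, type `T1`. -/
theorem nf1 [Finite F] (h : Nm γ δ) (hT : T1 γ) (h0 : ∀ x, ∃ y, γ (e0 x) = e0 y)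
    (h3 : ∀ x, ∃ y, γ (e3 x) = e3 y)
    (ht : ∀ (l : Fˣ) (X : M2 F), γ (act (tor l) (tor l⁻¹) X) = act (tor l) (tor l⁻¹) (γ X)) :
    ∃ p q g : F, g ≠ 0 ∧ ∀ X, γ X =
      !![p * q * g * X 0 0, p * g * X 0 1; q * g * X 1 0, g * X 1 1] := by
  choose φ hφ using h.un1_left hT h0
  choose ψ hψ using h.un1_right hT h0
  choose G hG using h3
  have hP : ∀ a c, γ (e1 (a * c)) = e1 (φ a * G c) := by
    intro a c
    have h1 := hφ a (e3 c)
    rw [act_up_e3_left, h.add, hG, act_up_e3_left] at h1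
    exact add_left_cancel h1
  have hQ : ∀ b c, γ (e2 (b * c)) = e2 (ψ b * G c) := by
    intro b c
    have h1 := hψ b (e3 c)
    rw [act_up_e3_right, h.add, hG, act_up_e3_right] at h1
    exact add_left_cancel h1
  have hφ1 : φ 1 ≠ 0 := by
    intro h1
    refine up_ne_one (F := F) one_ne_zero (act_eq_one (A := up 1) (B := 1) fun X => h.inj ?_).1
    rw [hφ, h1, up_zero, act_one]
  have hG1 : G 1 ≠ 0 := by
    intro h1
    have h2 := hG 1
    rw [h1, e3_zero, ← h.zero] at h2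
    exact e3_ne one_ne_zero (h.inj h2)
  have hP1 : ∀ c, γ (e1 c) = e1 (φ 1 * G c) := fun c => by
    have := hP 1 c; rwa [one_mul] at this
  -- linearity
  have hlin : ∀ x c : F, x ≠ 0 → φ 1 * G (x * c) = x * (φ 1 * G c) := by
    intro x c hx
    obtain ⟨l, hl⟩ := exists_sq hx
    have h1 := ht l (e1 c)
    rw [act_tor_e1, hl, hP1, hP1, act_tor_e1, hl] at h1
    exact e1_inj h1
  have hGlin : ∀ c, G c = c * G 1 := by
    intro c
    by_cases hc : c = 0
    · rw [hc, zero_mul]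
      have h1 := hG 0
      rw [e3_zero, h.zero, ← e3_zero] at h1
      exact (e3_inj h1).symm
    · have h1 := hlin c 1 hc
      rw [mul_one] at h1
      refine mul_left_cancel₀ hφ1 ?_
      rw [h1]; ring
  refine ⟨φ 1, ψ 1, G 1, hG1, fun X => ?_⟩
  have h00 : ∀ c, γ (e0 c) = e0 (φ 1 * ψ 1 * G 1 * c) := by
    intro c
    have h1 := hφ 1 (e2 c)
    have h2 : γ (e2 c) = e2 (ψ 1 * G c) := by have := hQ 1 c; rwa [one_mul] at this
    rw [act_up_e2_left, h.add, h2, act_up_e2_left, one_mul] at h1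
    rw [add_left_cancel h1, hGlin c]
    congr 1; ring
  have h10 : ∀ c, γ (e2 c) = e2 (ψ 1 * G 1 * c) := by
    intro c
    have := hQ 1 c
    rw [one_mul, hGlin c] at this
    rw [this]; congr 1; ring
  have h01 : ∀ c, γ (e1 c) = e1 (φ 1 * G 1 * c) := by
    intro c
    rw [hP1, hGlin c]; congr 1; ring
  have h11 : ∀ c, γ (e3 c) = e3 (G 1 * c) := by
    intro c
    rw [hG, hGlin c, mul_comm]
  conv_lhs => rw [e_sum X]
  rw [h.add, h.add, h.add, h00, h01, h10, h11]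
  apply ext2 <;> simp [e0, e1, e2, e3]

/-- Normal form, type `T2`. -/
theorem nf2 [Finite F] (h : Nm γ δ) (hT : T2 γ) (h0 : ∀ x, ∃ y, γ (e0 x) = e0 y)
    (h3 : ∀ x, ∃ y, γ (e3 x) = e3 y)
    (ht : ∀ (l : Fˣ) (X : M2 F), γ (act (tor l) (tor l⁻¹) X) = act (tor l) (tor l⁻¹) (γ X)) :
    ∃ p g : F, g ≠ 0 ∧ p ≠ 0 ∧ (∀ c, γ (e3 c) = e3 (c⁻¹ * g)) ∧ (∀ c, γ (e1 c) = e2 (c⁻¹ * p)) ∧
      (∀ c, ∃ d, γ (e2 c) = e1 d) := by
  choose φ hφ using h.un2_left hT h0
  choose ψ hψ using h.un2_right hT h0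
  choose G hG using h3
  have hP : ∀ a c, γ (e1 (a * c)) = e2 (φ a * G c) := by
    intro a c
    have h1 := hφ a (e3 c)
    rw [act_up_e3_left, h.add, hG, act_up_e3_right] at h1
    exact add_left_cancel h1
  have hQ : ∀ b c, γ (e2 (b * c)) = e1 (ψ b * G c) := by
    intro b c
    have h1 := hψ b (e3 c)
    rw [act_up_e3_right, h.add, hG, act_up_e3_left] at h1
    exact add_left_cancel h1
  have hφ1 : φ 1 ≠ 0 := by
    intro h1
    refine up_ne_one (F := F) one_ne_zero (act_eq_one (A := up 1) (B := 1) fun X => h.inj ?_).1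
    rw [hφ, h1, up_zero, act_one]
  have hG1 : G 1 ≠ 0 := by
    intro h1
    have h2 := hG 1
    rw [h1, e3_zero, ← h.zero] at h2
    exact e3_ne one_ne_zero (h.inj h2)
  have hP1 : ∀ c, γ (e1 c) = e2 (φ 1 * G c) := fun c => by
    have := hP 1 c; rwa [one_mul] at this
  have hlin : ∀ x c : F, x ≠ 0 → φ 1 * G (x * c) = x⁻¹ * (φ 1 * G c) := by
    intro x c hx
    obtain ⟨l, hl⟩ := exists_sq hx
    have h1 := ht l (e1 c)
    rw [act_tor_e1, hl, hP1, hP1, act_tor_e2] at h1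
    rw [e2_inj h1, ← mul_inv, hl]
  have hGlin : ∀ c, G c = c⁻¹ * G 1 := by
    intro c
    by_cases hc : c = 0
    · rw [hc, _root_.inv_zero, zero_mul]
      have h1 := hG 0
      rw [e3_zero, h.zero, ← e3_zero] at h1
      exact (e3_inj h1).symm
    · have h1 := hlin c 1 hc
      rw [mul_one] at h1
      refine mul_left_cancel₀ hφ1 ?_
      rw [h1]; ring
  refine ⟨φ 1 * G 1, G 1, hG1, mul_ne_zero hφ1 hG1, fun c => ?_, fun c => ?_, fun c => ?_⟩
  · rw [hG, hGlin c]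
  · rw [hP1, hGlin c]; congr 1; ring
  · have := hQ 1 c
    rw [one_mul] at this
    exact ⟨_, this⟩

/-- Correction of `γ` by an element of `U₀`. -/
theorem adjust (h : Nm γ δ) {t : F} (ht0 : t ≠ 0) (ht1 : t ≠ 1) (h0 : ∀ x, ∃ y, γ (e0 x) = e0 y)
    (htor : ∀ l : Fˣ, ∃ a b, ∀ X, γ (act (tor l) (tor l⁻¹) X) =
      act (up a * tor l) (up b * tor l⁻¹) (γ X)) :
    ∃ a b, (∀ x, ∃ y, act (up a) (up b) (γ (e0 x)) = e0 y) ∧
      (∀ x, ∃ y, act (up a) (up b) (γ (e3 x)) = e3 y) ∧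
      (∀ (l : Fˣ) (X : M2 F), act (up a) (up b) (γ (act (tor l) (tor l⁻¹) X)) =
        act (tor l) (tor l⁻¹) (act (up a) (up b) (γ X))) := by
  obtain ⟨a, b, hab⟩ := h.opp ht0 ht1 h0
  have h3 : ∀ x, ∃ y, act (up a) (up b) (γ (e3 x)) = e3 y := by
    intro x
    obtain ⟨y, hy⟩ := hab x
    exact ⟨y, by rw [hy, act_up_up]⟩
  refine ⟨a, b, ?_, h3, ?_⟩
  · intro x
    obtain ⟨y, hy⟩ := h0 x
    exact ⟨y, by rw [hy, act_up_e0]⟩
  · intro l X
    obtain ⟨a', b', h1⟩ := htor l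
    -- `act u ∘ γ ∘ act t = act (up a'') (up b'') ∘ act t ∘ act u ∘ γ`
    have h2 : ∀ X, act (up a) (up b) (γ (act (tor l) (tor l⁻¹) X)) =
        act (up (a + a' + l * l * a)) (up (b + b' + (l⁻¹ : Fˣ) * (l⁻¹ : Fˣ) * b))
          (act (tor l) (tor l⁻¹) (act (up a) (up b) (γ X))) := by
      intro X
      rw [h1, act_act, act_act, act_act]
      congr 1
      · rw [mul_assoc (up (a + a' + l * l * a)), tor_up, up_add, up_add]
        calc up a * (up a' * tor l) = up a * up a' * (1 * tor l) := by group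
          _ = up a * up a' * (up (l * l * a) * up (l * l * a) * tor l) := by rw [up_up]
          _ = _ := by group
      · rw [mul_assoc (up (b + b' + (l⁻¹ : Fˣ) * (l⁻¹ : Fˣ) * b)), tor_up, up_add, up_add]
        calc up b * (up b' * tor l⁻¹) = up b * up b' * (1 * tor l⁻¹) := by group
          _ = up b * up b' * (up ((l⁻¹ : Fˣ) * (l⁻¹ : Fˣ) * b) * up ((l⁻¹ : Fˣ) * (l⁻¹ : Fˣ) * b) *
              tor l⁻¹) := by rw [up_up]
          _ = _ := by group
    -- evaluate at `E₂₂`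
    obtain ⟨d, hd⟩ := h3 1
    have hd0 : d ≠ 0 := by
      rintro rfl
      rw [e3_zero] at hd
      have := act_eq_zero hd
      rw [← h.zero] at this
      exact e3_ne one_ne_zero (h.inj this)
    have h4 := h2 (e3 1)
    rw [act_tor_e3, hd, act_tor_e3, act_up_e3] at h4
    have e01 := congrFun (congrFun h4 0) 1
    have e10 := congrFun (congrFun h4 1) 0
    simp [e0, e1, e2, e3, hd0] at e01 e10
    rw [h2]
    have z1 : a + a' + l * l * a = 0 := e01
    have z2 : b + b' + (l⁻¹ : Fˣ) * (l⁻¹ : Fˣ) * b = 0 := by simpa using e10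
    rw [z1, z2, up_zero, act_one]

theorem iter11 {f : M2 F → M2 F} {g : F} (hf : ∀ X, f X 1 1 = g * X 1 1) (n : ℕ) (X : M2 F) :
    (f^[n] X) 1 1 = g ^ n * X 1 1 := by
  induction n generalizing X with
  | zero => simp
  | succ n ih => rw [Function.iterate_succ_apply, ih, hf, pow_succ]; ring

theorem iter01 {f : M2 F → M2 F} {g p : F} (hf : ∀ X, f X 1 1 = g * X 1 1)
    (hp : ∀ X, X 1 1 = 0 → f X 0 1 = p * X 0 1) (n : ℕ) (X : M2 F) (hX : X 1 1 = 0) :
    (f^[n] X) 0 1 = p ^ n * X 0 1 := by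
  induction n generalizing X with
  | zero => simp
  | succ n ih =>
    rw [Function.iterate_succ_apply, ih (f X) (by rw [hf, hX, mul_zero]), hp X hX, pow_succ]; ring

theorem iter10 {f : M2 F → M2 F} {g p : F} (hf : ∀ X, f X 1 1 = g * X 1 1)
    (hp : ∀ X, X 1 1 = 0 → f X 1 0 = p * X 1 0) (n : ℕ) (X : M2 F) (hX : X 1 1 = 0) :
    (f^[n] X) 1 0 = p ^ n * X 1 0 := by
  induction n generalizing X with
  | zero => simp
  | succ n ih =>
    rw [Function.iterate_succ_apply, ih (f X) (by rw [hf, hX, mul_zero]), hp X hX, pow_succ]; ring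

/-- **2-elements of type `T1` in the stabiliser of `0` which centralise `T₁` modulo `U₀`.** -/
theorem mem_U [Finite F] (h : Nm γ δ) {t : F} (ht0 : t ≠ 0) (ht1 : t ≠ 1) (hT : T1 γ)
    (h0 : ∀ x, ∃ y, γ (e0 x) = e0 y) {k : ℕ} (hk : ∀ X, γ^[2 ^ k] X = X)
    (htor : ∀ l : Fˣ, ∃ a b, ∀ X, γ (act (tor l) (tor l⁻¹) X) =
      act (up a * tor l) (up b * tor l⁻¹) (γ X)) : ∃ a b, ∀ X, γ X = act (up a) (up b) X := by
  obtain ⟨a, b, g0, g3, gt⟩ := h.adjust ht0 ht1 h0 htor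
  have hg : Nm (fun X => act (up a) (up b) (γ X)) (fun X => δ (act (up a) (up b) X)) := by
    have hw := of_act (F := F) (up a) (up b)
    rw [up_inv, up_inv] at hw
    exact hw.comp h
  have hgT : T1 (fun X => act (up a) (up b) (γ X)) := by
    constructor
    · intro A
      obtain ⟨A', hA'⟩ := hT.1 A
      refine ⟨up a * A' * (up a)⁻¹, fun X => ?_⟩
      show act (up a) (up b) (γ (act A 1 X)) = _
      rw [hA', act_act, act_act]; congr 1 <;> group
    · intro B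
      obtain ⟨B', hB'⟩ := hT.2 B
      refine ⟨up b * B' * (up b)⁻¹, fun X => ?_⟩
      show act (up a) (up b) (γ (act 1 B X)) = _
      rw [hB', act_act, act_act]; congr 1 <;> group
  obtain ⟨p, q, g, hg0, hX⟩ := hg.nf1 hgT g0 g3 gt
  have hγ : ∀ X, γ X = act (up a) (up b)
      !![p * q * g * X 0 0, p * g * X 0 1; q * g * X 1 0, g * X 1 1] := by
    intro X
    rw [← hX X]
    show _ = act _ _ (act _ _ (γ X))
    rw [act_up_up]
  have f11 : ∀ X, γ X 1 1 = g * X 1 1 := fun X => by rw [hγ, act_up]; simp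
  have f01 : ∀ X : M2 F, X 1 1 = 0 → γ X 0 1 = p * g * X 0 1 := fun X hX => by
    rw [hγ, act_up]; simp [hX]
  have f10 : ∀ X : M2 F, X 1 1 = 0 → γ X 1 0 = q * g * X 1 0 := fun X hX => by
    rw [hγ, act_up]; simp [hX]
  have g1 : g = 1 := by
    have h1 := iter11 f11 (2 ^ k) (e3 1)
    rw [hk] at h1
    simp [e3] at h1
    exact eq_one_of_pow h1.symm
  have p1 : p * g = 1 := by
    have h1 := iter01 f11 f01 (2 ^ k) (e1 1) (by simp [e1])
    rw [hk] at h1
    simp only [e1, Matrix.of_apply, Matrix.cons_val', Matrix.cons_val_zero, Matrix.cons_val_one,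
      Matrix.cons_val_fin_one, mul_one] at h1
    exact eq_one_of_pow h1.symm
  have q1 : q * g = 1 := by
    have h1 := iter10 f11 f10 (2 ^ k) (e2 1) (by simp [e2])
    rw [hk] at h1
    simp only [e2, Matrix.of_apply, Matrix.cons_val', Matrix.cons_val_zero, Matrix.cons_val_one,
      Matrix.cons_val_fin_one, mul_one] at h1
    exact eq_one_of_pow h1.symm
  refine ⟨a, b, fun X => ?_⟩
  rw [hγ]
  congr 1
  have e1' : p * q * g = 1 := by
    have : p * q * g = (p * g) * (q * g) / g := by field_simp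
    rw [this, p1, q1, g1]; simp
  rw [e1', p1, q1, g1]
  apply ext2 <;> simp

section swap

variable [Finite F] (h : Nm γ δ) {t : F} (ht0 : t ≠ 0) (ht1 : t ≠ 1) (hT : T2 γ)
  (h0 : ∀ x, ∃ y, γ (e0 x) = e0 y)
  (htor : ∀ l : Fˣ, ∃ a b, ∀ X, γ (act (tor l) (tor l⁻¹) X) =
    act (up a * tor l) (up b * tor l⁻¹) (γ X))
include h ht0 ht1 hT h0 htor

theorem swap_nf : ∃ a b p g : F, g ≠ 0 ∧ p ≠ 0 ∧
    (∀ c, γ (e3 c) = act (up a) (up b) (e3 (c⁻¹ * g))) ∧
    (∀ c, γ (e1 c) = act (up a) (up b) (e2 (c⁻¹ * p))) ∧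
    (∀ c, ∃ d, γ (e2 c) = act (up a) (up b) (e1 d)) := by
  obtain ⟨a, b, g0, g3, gt⟩ := h.adjust ht0 ht1 h0 htor
  have hg : Nm (fun X => act (up a) (up b) (γ X)) (fun X => δ (act (up a) (up b) X)) := by
    have hw := of_act (F := F) (up a) (up b)
    rw [up_inv, up_inv] at hw
    exact hw.comp h
  have hgT : T2 (fun X => act (up a) (up b) (γ X)) := by
    constructor
    · intro A
      obtain ⟨A', hA'⟩ := hT.1 A
      refine ⟨up b * A' * (up b)⁻¹, fun X => ?_⟩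
      show act (up a) (up b) (γ (act A 1 X)) = _
      rw [hA', act_act, act_act]; congr 1 <;> group
    · intro B
      obtain ⟨B', hB'⟩ := hT.2 B
      refine ⟨up a * B' * (up a)⁻¹, fun X => ?_⟩
      show act (up a) (up b) (γ (act 1 B X)) = _
      rw [hB', act_act, act_act]; congr 1 <;> group
  obtain ⟨p, g, hg0, hp0, x3, x1, x2⟩ := hg.nf2 hgT g0 g3 gt
  refine ⟨a, b, p, g, hg0, hp0, fun c => ?_, fun c => ?_, fun c => ?_⟩
  · rw [← x3 c]
    show _ = act _ _ (act _ _ (γ _))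
    rw [act_up_up]
  · rw [← x1 c]
    show _ = act _ _ (act _ _ (γ _))
    rw [act_up_up]
  · obtain ⟨d, hd⟩ := x2 c
    refine ⟨d, ?_⟩
    rw [← hd]
    show _ = act _ _ (act _ _ (γ _))
    rw [act_up_up]

/-- A swap moves `V / R^⊥`. -/
theorem swap_moves : ∃ c : F, c + (γ (e3 c)) 1 1 ≠ 0 := by
  obtain ⟨a, b, p, g, hg0, hp0, x3, x1, x2⟩ := h.swap_nf ht0 ht1 hT h0 htor
  by_contra hcon
  push Not at hcon
  have h1 : ∀ c, (γ (e3 c)) 1 1 = c⁻¹ * g := fun c => by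
    rw [x3, act_up]; simp [e3]
  have h2 := hcon 1
  rw [h1, inv_one, one_mul] at h2
  have h3 := hcon t
  rw [h1, ← CharTwo.add_eq_zero.1 h2, mul_one] at h3
  have h4 := CharTwo.add_eq_zero.1 h3
  apply ht1
  apply eq_one_of_sq
  nth_rewrite 1 [h4]
  exact inv_mul_cancel₀ ht0

/-- A swap exists only for `|F| = 4`. -/
theorem swap_four {x : F} (hx0 : x ≠ 0) (hx1 : x ≠ 1) : x * x + x + 1 = 0 := by
  obtain ⟨a, b, p, g, hg0, hp0, x3, x1, x2⟩ := h.swap_nf ht0 ht1 hT h0 htor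
  have h1 : ∀ c, (γ (e3 c)) 1 1 = c⁻¹ * g := fun c => by
    rw [x3, act_up]; simp [e3]
  have hx2 : x + 1 ≠ 0 := fun h2 => hx1 (CharTwo.add_eq_zero.1 h2)
  have h2 : (x + 1)⁻¹ * g = x⁻¹ * g + 1⁻¹ * g := by
    rw [← h1, ← h1, ← h1, e3_add, h.add]
    rfl
  rw [← add_mul] at h2
  have h3 := mul_right_cancel₀ hg0 h2
  rw [inv_one] at h3
  have h4 : x = (x + 1) + x * (x + 1) := by
    calc x = x * ((x + 1) * (x + 1)⁻¹) := by rw [mul_inv_cancel₀ hx2, mul_one]
      _ = x * ((x + 1) * (x⁻¹ + 1)) := by rw [h3]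
      _ = (x * x⁻¹) * (x + 1) + x * (x + 1) := by ring
      _ = _ := by rw [mul_inv_cancel₀ hx0, one_mul]
  have h5 : x * x + x + 1 = 0 := by
    have e : x * x + x + 1 = ((x + 1) + x * (x + 1)) - x := by ring
    rw [e, ← h4, sub_self]
  exact h5

/-- If `E` is `U₀`-invariant and contains `[V,γ]`, then `E` contains `R^⊥` and an element outside. -/
theorem swap_E (E : AddSubgroup (M2 F)) (hU : ∀ a b X, X ∈ E → act (up a) (up b) X ∈ E)
    (hE : ∀ X, X + γ X ∈ E) :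
    (∀ c, e0 c ∈ E) ∧ (∀ c, e1 c ∈ E) ∧ (∀ c, e2 c ∈ E) ∧ ∃ X ∈ E, X 1 1 ≠ 0 := by
  obtain ⟨c0, hc0⟩ := h.swap_moves ht0 ht1 hT h0 htor
  obtain ⟨a, b, p, g, hg0, hp0, x3, x1, x2⟩ := h.swap_nf ht0 ht1 hT h0 htor
  have k0 : ∀ c, e0 c ∈ E := by
    intro c
    -- `X = e1 1`
    have h1 := hE (e1 1)
    rw [x1, inv_one, one_mul] at h1
    have h2 := hU (c / p) 0 _ h1
    have h3 := E.sub_mem h2 h1
    have h4 : act (up (c / p)) (up 0) (e1 1 + act (up a) (up b) (e2 p)) -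
        (e1 1 + act (up a) (up b) (e2 p)) = e0 c := by
      rw [act_up, act_up]
      apply ext2 <;> simp [e0, e1, e2, hp0]
    rwa [h4] at h3
  have hY := hE (e3 c0)
  set Y := e3 c0 + γ (e3 c0) with hYd
  have hY11 : Y 1 1 ≠ 0 := by
    have : Y 1 1 = c0 + (γ (e3 c0)) 1 1 := by rw [hYd]; simp [e3]
    rwa [this]
  refine ⟨k0, ?_, ?_, Y, hY, hY11⟩
  · intro c
    have h2 := hU (c / Y 1 1) 0 _ hY
    have h3 := E.sub_mem h2 hY
    have h4 : act (up (c / Y 1 1)) (up 0) Y - Y = e1 c + e0 (c / Y 1 1 * Y 1 0) := by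
      rw [act_up]
      apply ext2 <;> simp [e0, e1, hY11]
    rw [h4] at h3
    have h5 := E.sub_mem h3 (k0 (c / Y 1 1 * Y 1 0))
    rwa [add_sub_cancel_right] at h5
  · intro c
    have h2 := hU 0 (c / Y 1 1) _ hY
    have h3 := E.sub_mem h2 hY
    have h4 : act (up 0) (up (c / Y 1 1)) Y - Y = e2 c + e0 (c / Y 1 1 * Y 0 1) := by
      rw [act_up]
      apply ext2 <;> simp [e0, e2, hY11]
    rw [h4] at h3
    have h5 := E.sub_mem h3 (k0 (c / Y 1 1 * Y 0 1))
    rwa [add_sub_cancel_right] at h5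

end swap

end Nm

end Cfsg.Agent.Omega.NO1.Tens
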