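import Cfsg.Agent.Omega.NO1.Tens.Elem

/-!
# Type (γ) of the leaf N1: further facts on `M₂(F)` (helper914)

* `two_L` : a 2-element `act A B` that fixes the point `0` is `act (up a) (up b)`;
* `conn` : opposite points;
* `alt` : additive maps `b` with `[b(u),u] = 1`;
* `irr` : `T' × T''`- and swap-invariant subgroups of `U₀`.
-/

set_option autoImplicit false
set_option linter.unusedSectionVars false

namespace Cfsg.Agent.Omega.NO1.Tens

open Matrix

variable {F : Type} [Field F] [CharP F 2]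

theorem act_iter (A B : SL F) (n : ℕ) (X : M2 F) : (act A B)^[n] X = act (A ^ n) (B ^ n) X := by
  induction n generalizing X with
  | zero => simp
  | succ n ih => rw [Function.iterate_succ_apply, ih, act_act, pow_succ, pow_succ]

theorem pow_tri {A : SL F} (h : A.1 1 0 = 0) (n : ℕ) :
    (A ^ n).1 0 0 = A.1 0 0 ^ n ∧ (A ^ n).1 1 0 = 0 := by
  induction n with
  | zero => simp
  | succ n ih =>
    have e : (A ^ (n + 1)).1 = (A ^ n).1 * A.1 := by
      rw [pow_succ, Matrix.SpecialLinearGroup.coe_mul]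
    rw [e, Matrix.mul_apply, Matrix.mul_apply, Fin.sum_univ_two, Fin.sum_univ_two, ih.1, ih.2, h,
      pow_succ]
    simp

theorem eq_up_of_pow {A : SL F} (h : A.1 1 0 = 0) {k : ℕ} (hk : A ^ 2 ^ k = 1) :
    A = up (A.1 0 1) := by
  have h1 := (pow_tri h (2 ^ k)).1
  rw [hk] at h1
  have h2 : A.1 0 0 = 1 := eq_one_of_pow (k := k) (by rw [← h1]; simp)
  have h3 := SL_det A
  rw [h2, h, mul_zero, sub_zero, one_mul] at h3
  apply SL_ext
  · simpa [up] using h2
  · simp [up]
  · simpa [up] using h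
  · simpa [up] using h3

/-- 2-elements of the stabiliser of the point `0` in `{act A B}`. -/
theorem two_L {A B : SL F} {c d : F} (hc : c ≠ 0) (h0 : act A B (e0 c) = e0 d) {k : ℕ}
    (hk : ∀ X, (act A B)^[2 ^ k] X = X) : A = up (A.1 0 1) ∧ B = up (B.1 0 1) := by
  have hd : d ≠ 0 := by
    rintro rfl
    rw [e0_zero] at h0
    exact e0_ne hc (act_eq_zero h0)
  have h1 := h0
  rw [act_e0] at h1
  have h00 := congrFun (congrFun h1 0) 0
  have h01 := congrFun (congrFun h1 0) 1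
  have h10 := congrFun (congrFun h1 1) 0
  simp only [e0, Matrix.of_apply, Matrix.cons_val', Matrix.cons_val_zero, Matrix.cons_val_one,
      Matrix.cons_val_fin_one] at h00 h01 h10
  have hA : A.1 0 0 ≠ 0 := fun h => hd (by rw [← h00, h]; ring)
  have hB : B.1 0 0 ≠ 0 := fun h => hd (by rw [← h00, h]; ring)
  have hB1 : B.1 1 0 = 0 := (mul_eq_zero.1 h01).resolve_left (mul_ne_zero hA hc)
  have hA1 : A.1 1 0 = 0 := by
    have := (mul_eq_zero.1 h10).resolve_right hB
    exact (mul_eq_zero.1 this).resolve_right hc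
  have h3 := act_eq_one (A := A ^ 2 ^ k) (B := B ^ 2 ^ k) (fun X => by rw [← act_iter, hk])
  exact ⟨eq_up_of_pow hA1 h3.1, eq_up_of_pow hB1 h3.2⟩

theorem conn_one (A : SL F) : ∃ (a s : F) (C : SL F), s ≠ 0 ∧ C.1 0 0 = s * a ∧ C.1 1 0 = s ∧
    C.1 0 1 = A.1 0 0 ∧ C.1 1 1 = A.1 1 0 := by
  have h : ∃ a : F, a * A.1 1 0 - A.1 0 0 ≠ 0 := by
    by_cases h0 : A.1 0 0 = 0
    · refine ⟨1, ?_⟩
      rw [h0, one_mul, sub_zero]
      intro h1
      have := SL_det A
      rw [h0, h1] at this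
      simp at this
    · exact ⟨0, by rw [zero_mul, zero_sub]; exact neg_ne_zero.2 h0⟩
  obtain ⟨a, ha⟩ := h
  refine ⟨a, (a * A.1 1 0 - A.1 0 0)⁻¹, ⟨!![(a * A.1 1 0 - A.1 0 0)⁻¹ * a, A.1 0 0;
    (a * A.1 1 0 - A.1 0 0)⁻¹, A.1 1 0], ?_⟩, inv_ne_zero ha, ?_, ?_, ?_, ?_⟩
  · rw [Matrix.det_fin_two]
    simp only [Matrix.of_apply, Matrix.cons_val', Matrix.cons_val_zero, Matrix.cons_val_one,
      Matrix.cons_val_fin_one]
    have : (a * A.1 1 0 - A.1 0 0)⁻¹ * a * A.1 1 0 - A.1 0 0 * (a * A.1 1 0 - A.1 0 0)⁻¹ =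
      (a * A.1 1 0 - A.1 0 0)⁻¹ * (a * A.1 1 0 - A.1 0 0) := by ring
    rw [this, inv_mul_cancel₀ ha]
  · rfl
  · rfl
  · rfl
  · rfl

/-- For every point there is a point opposite to it and to `0`. -/
theorem conn (A B : SL F) : ∃ (a b s : F) (C D : SL F), s ≠ 0 ∧
    (∀ c, act C D (e0 c) = act (up a) (up b) (e3 (s * c))) ∧
    (∀ c, act C D (e3 c) = act A B (e0 c)) := by
  obtain ⟨a, s, C, hs, c1, c2, c3, c4⟩ := conn_one A
  obtain ⟨b, s', D, hs', d1, d2, d3, d4⟩ := conn_one B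
  refine ⟨a, b, s * s', C, D, mul_ne_zero hs hs', fun c => ?_, fun c => ?_⟩
  · rw [act_e0, act_e3, c1, c2, d1, d2, up_val, up_val]
    apply ext2 <;> simp <;> ring
  · rw [act_e3, act_e0, c3, c4, d3, d4]

/-- Additive maps `U₀ → R^⊥/R` with `[b(u),u] = 1`. -/
theorem alt {f g : F → F → F} (hf : ∀ a b a' b', f (a + a') (b + b') = f a b + f a' b')
    (hg : ∀ a b a' b', g (a + a') (b + b') = g a b + g a' b')
    (h : ∀ a b, a * g a b + b * f a b = 0) :
    ∃ l, ∀ a b, f a b = l * a ∧ g a b = l * b := by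
  have f0 : f 0 0 = 0 := by
    have := hf 0 0 0 0
    rw [add_zero] at this
    exact left_eq_add.1 this
  have g0 : g 0 0 = 0 := by
    have := hg 0 0 0 0
    rw [add_zero] at this
    exact left_eq_add.1 this
  have fb : ∀ b, f 0 b = 0 := by
    intro b
    by_cases hb : b = 0
    · rw [hb, f0]
    · have h1 := h 0 b
      rw [zero_mul, zero_add] at h1
      exact (mul_eq_zero.1 h1).resolve_left hb
  have ga : ∀ a, g a 0 = 0 := by
    intro a
    by_cases ha : a = 0
    · rw [ha, g0]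
    · have h1 := h a 0
      rw [zero_mul, add_zero] at h1
      exact (mul_eq_zero.1 h1).resolve_left ha
  have fs : ∀ a b, f a b = f a 0 := fun a b => by
    have := hf a 0 0 b
    rw [add_zero, zero_add, fb, add_zero] at this
    exact this
  have gs : ∀ a b, g a b = g 0 b := fun a b => by
    have := hg a 0 0 b
    rw [add_zero, zero_add, ga, zero_add] at this
    exact this
  have key : ∀ a b, a * g 0 b + b * f a 0 = 0 := fun a b => by
    have := h a b
    rwa [gs, fs] at this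
  refine ⟨g 0 1, fun a b => ?_⟩
  have h1 := key a 1
  rw [one_mul] at h1
  have hfa : f a 0 = g 0 1 * a := by
    have := CharTwo.add_eq_zero.1 h1
    rw [← this]; ring
  refine ⟨by rw [fs, hfa], ?_⟩
  have h2 := key 1 b
  rw [one_mul] at h2
  have h3 : f 1 0 = g 0 1 := by
    have := key 1 1
    rw [one_mul, one_mul] at this
    exact (CharTwo.add_eq_zero.1 this).symm
  rw [gs, CharTwo.add_eq_zero.1 h2, h3]; ring

/-- The torus is irreducible on each factor; a swap-invariant subgroup `≠ 1` of `U₀` is `U₀`. -/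
theorem irr [Finite F] {t : F} (ht0 : t ≠ 0) (ht1 : t ≠ 1) {W : F → F → Prop}
    (hadd : ∀ a b a' b', W a b → W a' b' → W (a + a') (b + b'))
    (htor : ∀ (l m : Fˣ) (a b : F), W a b → W (l * l * a) (m * m * b))
    {a0 b0 a1 b1 : F} (h0 : W a0 b0) (ha0 : a0 ≠ 0) (h1 : W a1 b1) (hb1 : b1 ≠ 0) (a b : F) :
    W a b := by
  -- `(a,b) ∈ W` implies `(x a, y b) ∈ W` for `x, y ≠ 0`
  have hs : ∀ (x y : F) (a b : F), x ≠ 0 → y ≠ 0 → W a b → W (x * a) (y * b) := by
    intro x y a b hx hy hab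
    obtain ⟨l, hl⟩ := exists_sq hx
    obtain ⟨m, hm⟩ := exists_sq hy
    have := htor l m a b hab
    rwa [hl, hm] at this
  have ht : t + 1 ≠ 0 := fun h => ht1 (CharTwo.add_eq_zero.1 h)
  have e0 : W ((t + 1) * a0) 0 := by
    have h2 := hadd _ _ _ _ (hs t 1 a0 b0 ht0 one_ne_zero h0) h0
    have e1 : t * a0 + a0 = (t + 1) * a0 := by ring
    rw [e1, one_mul, CharTwo.add_self_eq_zero] at h2
    exact h2
  have e1 : W 0 ((t + 1) * b1) := by
    have h2 := hadd _ _ _ _ (hs 1 t a1 b1 one_ne_zero ht0 h1) h1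
    have e1 : t * b1 + b1 = (t + 1) * b1 := by ring
    rw [e1, one_mul, CharTwo.add_self_eq_zero] at h2
    exact h2
  have ez : W 0 0 := by
    have h2 := hadd _ _ _ _ e0 e0
    rwa [CharTwo.add_self_eq_zero, add_zero] at h2
  have ea : W a 0 := by
    by_cases ha : a = 0
    · rw [ha]; exact ez
    · have := hs (a / ((t + 1) * a0)) 1 _ _ (div_ne_zero ha (mul_ne_zero ht ha0)) one_ne_zero e0
      rwa [div_mul_cancel₀ _ (mul_ne_zero ht ha0), mul_zero] at this
  have eb : W 0 b := by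
    by_cases hb : b = 0
    · rw [hb]; exact ez
    · have := hs 1 (b / ((t + 1) * b1)) _ _ one_ne_zero (div_ne_zero hb (mul_ne_zero ht hb1)) e1
      rwa [div_mul_cancel₀ _ (mul_ne_zero ht hb1), mul_zero] at this
  have := hadd _ _ _ _ ea eb
  rwa [add_zero, zero_add] at this

/-- the torus acts on `U₀` -/
theorem tor_act_up (l m : Fˣ) (a b : F) (X : M2 F) :
    act (tor l) (tor m) (act (up a) (up b) X) =
      act (up (l * l * a)) (up (m * m * b)) (act (tor l) (tor m) X) := by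
  rw [act_act, act_act, tor_up, tor_up]

theorem act_tor_e0 (l m : Fˣ) (c : F) : act (tor l) (tor m) (e0 c) = e0 (l * m * c) := by
  rw [act_tor]; apply ext2 <;> simp [e0]

theorem act_tor_e3' (l m : Fˣ) (c : F) :
    act (tor l) (tor m) (e3 c) = e3 ((l : F)⁻¹ * (m : F)⁻¹ * c) := by
  rw [act_tor]; apply ext2 <;> simp [e3]

end Cfsg.Agent.Omega.NO1.Tens
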