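import Cfsg.Agent.Omega.NO1.Types
import Cfsg.Agent.Omega.NO1.Tens.Misc
import Cfsg.Agent.Omega.NO1.BetaPlus.Abs

/-!
# Type (γ) of the leaf N1: from `PlusQ F N V` to the matrices (helper914)

`D.v X ∈ V` has matrix `X`; `D.act g X = e (g v(X) g⁻¹)` for `g ∈ N`; `D.R0`, `D.R3` : the points `F E₁₁`, `F E₂₂`;
`D.conj m` : the coordinates conjugated by `m ∈ N`.
-/

set_option autoImplicit false
set_option linter.unusedSectionVars false

namespace Cfsg.Agent.Omega.NO1.PlusQ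

open Subgroup Cfsg Matrix
open Cfsg.Agent.Omega.NO1.Tens
open Cfsg.Agent.Omega.NO1.BetaPlus (Mv QQ)

universe u

variable {G : Type u} [Group G] {F : Type} [Field F] {N V : Subgroup G}

variable (D : PlusQ F N V)

theorem e_one : D.e 1 = 0 := by
  have := D.mul 1 (one_mem _) 1 (one_mem _)
  rw [one_mul] at this
  exact left_eq_add.1 this

theorem e_inj {x y : G} (hx : x ∈ V) (hy : y ∈ V) (h : D.e x = D.e y) : x = y := by
  have h1 := D.mul (x * y⁻¹) (mul_mem hx (inv_mem hy)) y hy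
  rw [inv_mul_cancel_right, h] at h1
  have h2 := D.ker _ (mul_mem hx (inv_mem hy)) (right_eq_add.1 h1)
  exact mul_inv_eq_one.1 h2

theorem e_inv {x : G} (hx : x ∈ V) : D.e x⁻¹ = - D.e x := by
  have h1 := D.mul x hx x⁻¹ (inv_mem hx)
  rw [mul_inv_cancel, D.e_one] at h1
  exact (neg_eq_of_add_eq_zero_right h1.symm).symm

/-- the element of `V` with matrix `X` -/
noncomputable def v (X : M2 F) : G := (D.surj X).choose

theorem v_mem (X : M2 F) : D.v X ∈ V := (D.surj X).choose_spec.1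

@[simp] theorem e_v (X : M2 F) : D.e (D.v X) = X := (D.surj X).choose_spec.2

theorem v_e {w : G} (hw : w ∈ V) : D.v (D.e w) = w := D.e_inj (D.v_mem _) hw (D.e_v _)

theorem v_add (X Y : M2 F) : D.v (X + Y) = D.v X * D.v Y :=
  D.e_inj (D.v_mem _) (mul_mem (D.v_mem _) (D.v_mem _)) (by
    rw [D.mul _ (D.v_mem _) _ (D.v_mem _), D.e_v, D.e_v, D.e_v])

theorem v_zero : D.v 0 = 1 := D.e_inj (D.v_mem _) (one_mem _) (by rw [D.e_v, D.e_one])

theorem v_inj {X Y : M2 F} (h : D.v X = D.v Y) : X = Y := by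
  rw [← D.e_v X, h, D.e_v]

/-- the action of `g ∈ N` on the matrices -/
noncomputable def act (g : G) (X : M2 F) : M2 F := D.e (g * D.v X * g⁻¹)

variable {D}

section act

variable (hN : ∀ m ∈ N, Mv m V V)
include hN

theorem v_act {g : G} (hg : g ∈ N) (X : M2 F) : D.v (D.act g X) = g * D.v X * g⁻¹ :=
  D.v_e ((hN g hg _).1 (D.v_mem X))

theorem act_e {g : G} (hg : g ∈ N) {w : G} (hw : w ∈ V) : D.act g (D.e w) = D.e (g * w * g⁻¹) := by
  have _ := hN g hg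
  rw [act, D.v_e hw]

theorem act_mul {g h : G} (hg : g ∈ N) (hh : h ∈ N) (X : M2 F) :
    D.act (g * h) X = D.act g (D.act h X) := by
  have _ := hg
  have e : g * h * D.v X * (g * h)⁻¹ = g * (h * D.v X * h⁻¹) * g⁻¹ := by group
  rw [act, act, v_act hN hh, e]

theorem act_inv_act {g : G} (hg : g ∈ N) (X : M2 F) : D.act g⁻¹ (D.act g X) = X := by
  rw [← act_mul hN (inv_mem hg) hg, inv_mul_cancel, act]
  have e : 1 * D.v X * (1 : G)⁻¹ = D.v X := by group
  rw [e, D.e_v]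

theorem act_act_inv {g : G} (hg : g ∈ N) (X : M2 F) : D.act g (D.act g⁻¹ X) = X := by
  have := act_inv_act hN (inv_mem hg) (D := D) X
  rwa [inv_inv] at this

theorem act_add {g : G} (hg : g ∈ N) (X Y : M2 F) : D.act g (X + Y) = D.act g X + D.act g Y := by
  have e : g * (D.v X * D.v Y) * g⁻¹ = (g * D.v X * g⁻¹) * (g * D.v Y * g⁻¹) := by group
  rw [act, D.v_add, e, D.mul _ ((hN g hg _).1 (D.v_mem X)) _ ((hN g hg _).1 (D.v_mem Y))]
  rfl

theorem act_pow {g : G} (hg : g ∈ N) (n : ℕ) (X : M2 F) : (D.act g)^[n] X = D.act (g ^ n) X := by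
  induction n generalizing X with
  | zero =>
    rw [Function.iterate_zero, id, pow_zero, act]
    have e : 1 * D.v X * (1 : G)⁻¹ = D.v X := by group
    rw [e, D.e_v]
  | succ n ih => rw [Function.iterate_succ_apply, ih, pow_succ, act_mul hN (pow_mem hg n) hg]

theorem lift_act (A B : SL F) : ∃ h ∈ N, ∀ X, D.act h X = Tens.act A B X := by
  have _ := hN
  obtain ⟨h, hh, h1⟩ := D.lift A B
  exact ⟨h, hh, fun X => by rw [act, h1 _ (D.v_mem X), D.e_v]; rfl⟩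

theorem nm {g : G} (hg : g ∈ N) : Nm (D.act g) (D.act g⁻¹) := by
  have key : ∀ g ∈ N, ∀ A B : SL F, ∃ A' B' : SL F, ∀ X,
      D.act g (Tens.act A B X) = Tens.act A' B' (D.act g X) := by
    intro g hg A B
    obtain ⟨h, hh, h1⟩ := lift_act hN (D := D) A B
    obtain ⟨A', B', h2⟩ := D.norm g hg h hh A B (fun v hv => by
      have := h1 (D.e v)
      rw [act_e hN hh hv] at this
      exact this)
    refine ⟨A', B', fun X => ?_⟩
    have h3 := h2 _ (D.v_mem (D.act g X))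
    rw [D.e_v] at h3
    rw [← h1, ← act_mul hN hg hh]
    have h4 : D.act (g * h) X = D.act (g * h * g⁻¹) (D.act g X) := by
      rw [← act_mul hN (mul_mem (mul_mem hg hh) (inv_mem hg)) hg]
      congr 1; group
    rw [h4]
    exact h3
  exact ⟨act_add hN hg, act_inv_act hN hg, act_act_inv hN hg, key g hg, key g⁻¹ (inv_mem hg)⟩

theorem act_one_iff {g : G} (hg : g ∈ N) : (∀ X, D.act g X = X) ↔ g ∈ centralizer (V : Set G) := by
  rw [mem_centralizer_iff]
  constructor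
  · intro h w hw
    have h1 := h (D.e w)
    rw [act_e hN hg hw] at h1
    have h2 := D.e_inj ((hN g hg _).1 hw) hw h1
    calc w * g = (g * w * g⁻¹) * g := by rw [h2]
      _ = g * w := by group
  · intro h X
    have h1 := h (D.v X) (D.v_mem X)
    rw [act, ← h1, mul_inv_cancel_right, D.e_v]

end act

/-! ### The two base points -/

variable (D)

/-- the point `0 = F E₁₁` -/
def R0 : Subgroup G where
  carrier := {w | w ∈ V ∧ ∃ c, D.e w = e0 c}
  one_mem' := ⟨one_mem _, 0, by rw [D.e_one, e0_zero]⟩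
  mul_mem' := by
    rintro x y ⟨hx, c, hc⟩ ⟨hy, d, hd⟩
    exact ⟨mul_mem hx hy, c + d, by rw [D.mul x hx y hy, hc, hd, e0_add]⟩
  inv_mem' := by
    rintro x ⟨hx, c, hc⟩
    refine ⟨inv_mem hx, -c, ?_⟩
    rw [D.e_inv hx, hc]
    apply ext2 <;> simp [e0]

/-- the point `∞ = F E₂₂` -/
def R3 : Subgroup G where
  carrier := {w | w ∈ V ∧ ∃ c, D.e w = e3 c}
  one_mem' := ⟨one_mem _, 0, by rw [D.e_one, e3_zero]⟩
  mul_mem' := by
    rintro x y ⟨hx, c, hc⟩ ⟨hy, d, hd⟩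
    exact ⟨mul_mem hx hy, c + d, by rw [D.mul x hx y hy, hc, hd, e3_add]⟩
  inv_mem' := by
    rintro x ⟨hx, c, hc⟩
    refine ⟨inv_mem hx, -c, ?_⟩
    rw [D.e_inv hx, hc]
    apply ext2 <;> simp [e3]

variable {D}

theorem mem_R0 {w : G} : w ∈ D.R0 ↔ w ∈ V ∧ ∃ c, D.e w = e0 c := Iff.rfl

theorem mem_R3 {w : G} : w ∈ D.R3 ↔ w ∈ V ∧ ∃ c, D.e w = e3 c := Iff.rfl

theorem v_e0 (c : F) : D.v (e0 c) ∈ D.R0 := ⟨D.v_mem _, c, D.e_v _⟩

theorem v_e3 (c : F) : D.v (e3 c) ∈ D.R3 := ⟨D.v_mem _, c, D.e_v _⟩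

theorem R0_le : D.R0 ≤ V := fun _ hw => hw.1

theorem R3_le : D.R3 ≤ V := fun _ hw => hw.1

theorem card_R0 : Nat.card D.R0 = Nat.card F := by
  refine Nat.card_congr (Equiv.ofBijective (fun w : D.R0 => D.e w 0 0) ⟨?_, ?_⟩)
  · rintro ⟨x, hx, c, hc⟩ ⟨y, hy, d, hd⟩ hxy
    apply Subtype.ext
    refine D.e_inj hx hy ?_
    have h1 : D.e x 0 0 = D.e y 0 0 := hxy
    rw [hc, hd] at h1 ⊢
    simp [e0] at h1
    rw [h1]
  · intro c
    exact ⟨⟨D.v (e0 c), v_e0 c⟩, by simp [e0]⟩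

theorem _root_.Cfsg.Agent.Omega.NO1.BetaPlus.Mv.of_le [Finite G] {g : G} {A B : Subgroup G}
    (h : ∀ a ∈ A, g * a * g⁻¹ ∈ B) (hc : Nat.card B ≤ Nat.card A) : Mv g A B := by
  have h1 : A.map (MulAut.conj g).toMonoidHom ≤ B := by
    rintro _ ⟨a, ha, rfl⟩
    exact h a ha
  have h2 : Nat.card (A.map (MulAut.conj g).toMonoidHom) = Nat.card A :=
    Nat.card_congr (A.equivMapOfInjective _ (MulAut.conj g).injective).toEquiv.symm
  have h3 : A.map (MulAut.conj g).toMonoidHom = B := eq_of_le_of_card_ge h1 (by rw [h2]; exact hc)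
  intro x
  refine ⟨fun hx => h x hx, fun hx => ?_⟩
  rw [← h3] at hx
  obtain ⟨a, ha, hax⟩ := hx
  have : g * a * g⁻¹ = g * x * g⁻¹ := hax
  have h4 : a = x := by
    have := mul_right_cancel this
    exact mul_left_cancel this
  rwa [← h4]

section

variable [Finite G] (hN : ∀ m ∈ N, Mv m V V)
include hN

/-- `g` normalises `R0` iff it fixes the point `0` -/
theorem fix_iff {g : G} (hg : g ∈ N) : Mv g D.R0 D.R0 ↔ ∀ x, ∃ y, D.act g (e0 x) = e0 y := by
  constructor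
  · intro h x
    obtain ⟨-, y, hy⟩ := (h _).1 (v_e0 x)
    exact ⟨y, hy⟩
  · intro h
    refine Mv.of_le ?_ le_rfl
    rintro w ⟨hw, c, hc⟩
    refine ⟨(hN g hg w).1 hw, ?_⟩
    obtain ⟨y, hy⟩ := h c
    exact ⟨y, by rw [← hy, ← hc, act_e hN hg hw]⟩

end

/-- The coordinates conjugated by `m ∈ N`. -/
noncomputable def conj (D : PlusQ F N V) (hN : ∀ m ∈ N, Mv m V V) (m : G) (hm : m ∈ N) : PlusQ F N V where
  e x := D.e (m⁻¹ * x * m)
  mul v hv w hw := by
    have h1 : m⁻¹ * v * m ∈ V := by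
      have := ((hN m hm).inv v).1 hv; rwa [inv_inv] at this
    have h2 : m⁻¹ * w * m ∈ V := by
      have := ((hN m hm).inv w).1 hw; rwa [inv_inv] at this
    rw [← D.mul _ h1 _ h2]
    congr 1; group
  surj X := ⟨m * D.v X * m⁻¹, (hN m hm _).1 (D.v_mem X), by
    have e : m⁻¹ * (m * D.v X * m⁻¹) * m = D.v X := by group
    rw [e, D.e_v]⟩
  ker v hv h := by
    have h1 : m⁻¹ * v * m ∈ V := by
      have := ((hN m hm).inv v).1 hv; rwa [inv_inv] at this
    have h2 := D.ker _ h1 h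
    have e : v = m * (m⁻¹ * v * m) * m⁻¹ := by group
    rw [e, h2]; group
  lift A B := by
    obtain ⟨g, hg, h⟩ := D.lift A B
    refine ⟨m * g * m⁻¹, mul_mem (mul_mem hm hg) (inv_mem hm), fun v hv => ?_⟩
    have h1 : m⁻¹ * v * m ∈ V := by
      have := ((hN m hm).inv v).1 hv; rwa [inv_inv] at this
    rw [← h _ h1]
    congr 1; group
  norm g hg h hh A B hAB := by
    have key : ∀ v ∈ V, D.e ((m⁻¹ * h * m) * v * (m⁻¹ * h * m)⁻¹) = A.1 * D.e v * B.1.transpose := by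
      intro v hv
      have h1 := hAB (m * v * m⁻¹) ((hN m hm _).1 hv)
      have e1 : m⁻¹ * (h * (m * v * m⁻¹) * h⁻¹) * m = (m⁻¹ * h * m) * v * (m⁻¹ * h * m)⁻¹ := by group
      have e2 : m⁻¹ * (m * v * m⁻¹) * m = v := by group
      rw [e1, e2] at h1
      exact h1
    obtain ⟨A', B', h2⟩ := D.norm (m⁻¹ * g * m) (mul_mem (mul_mem (inv_mem hm) hg) hm) (m⁻¹ * h * m)
      (mul_mem (mul_mem (inv_mem hm) hh) hm) A B key
    refine ⟨A', B', fun v hv => ?_⟩
    have h1 : m⁻¹ * v * m ∈ V := by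
      have := ((hN m hm).inv v).1 hv; rwa [inv_inv] at this
    rw [← h2 _ h1]
    congr 1; group
  swap := by
    obtain ⟨s, hs, h⟩ := D.swap
    refine ⟨m * s * m⁻¹, mul_mem (mul_mem hm hs) (inv_mem hm), fun g hg A hA => ?_⟩
    have key : ∀ v ∈ V, D.e ((m⁻¹ * g * m) * v * (m⁻¹ * g * m)⁻¹) = A.1 * D.e v := by
      intro v hv
      have h1 := hA (m * v * m⁻¹) ((hN m hm _).1 hv)
      have e1 : m⁻¹ * (g * (m * v * m⁻¹) * g⁻¹) * m = (m⁻¹ * g * m) * v * (m⁻¹ * g * m)⁻¹ := by group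
      have e2 : m⁻¹ * (m * v * m⁻¹) * m = v := by group
      rw [e1, e2] at h1
      exact h1
    obtain ⟨B, h2⟩ := h (m⁻¹ * g * m) (mul_mem (mul_mem (inv_mem hm) hg) hm) A key
    refine ⟨B, fun v hv => ?_⟩
    have h1 : m⁻¹ * v * m ∈ V := by
      have := ((hN m hm).inv v).1 hv; rwa [inv_inv] at this
    rw [← h2 _ h1]
    congr 1; group

theorem conj_e (hN : ∀ m ∈ N, Mv m V V) {m : G} (hm : m ∈ N) (x : G) :
    (D.conj hN m hm).e x = D.e (m⁻¹ * x * m) := rfl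

theorem conj_v (hN : ∀ m ∈ N, Mv m V V) {m : G} (hm : m ∈ N) (X : M2 F) :
    (D.conj hN m hm).v X = m * D.v X * m⁻¹ := by
  refine (D.conj hN m hm).e_inj (v_mem _ _) ((hN m hm _).1 (D.v_mem X)) ?_
  rw [e_v, conj_e]
  have e : m⁻¹ * (m * D.v X * m⁻¹) * m = D.v X := by group
  rw [e, D.e_v]

theorem conj_R0 (hN : ∀ m ∈ N, Mv m V V) {m : G} (hm : m ∈ N) : Mv m D.R0 (D.conj hN m hm).R0 := by
  intro x
  rw [mem_R0, mem_R0, conj_e]
  have e : m⁻¹ * (m * x * m⁻¹) * m = x := by group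
  rw [e, hN m hm x]

theorem conj_R3 (hN : ∀ m ∈ N, Mv m V V) {m : G} (hm : m ∈ N) : Mv m D.R3 (D.conj hN m hm).R3 := by
  intro x
  rw [mem_R3, mem_R3, conj_e]
  have e : m⁻¹ * (m * x * m⁻¹) * m = x := by group
  rw [e, hN m hm x]

end Cfsg.Agent.Omega.NO1.PlusQ
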