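import Cfsg.Agent.Omega.NO1.Tens.Loc
import Cfsg.Agent.Omega.NO1.BetaPlus.Four

/-!
# Type (γ) of the leaf N1: the structure `Bp` of THEOREM BETA (helper914)
-/

set_option autoImplicit false
set_option linter.unusedSectionVars false

namespace Cfsg.Agent.Omega.NO1.PlusQ

open Subgroup Cfsg Matrix
open Cfsg.Agent.Omega.NO1.Tens
open Cfsg.Agent.Omega.NO1.BetaPlus (Mv QQ Bp)
open Cfsg.Agent.ZN (o2)

universe u

variable {G : Type u} [Group G] {F : Type} [Field F] {N V : Subgroup G}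

variable {D : PlusQ F N V} [CharP F 2]

/-- `g` moves the points as `(A, B)` -/
theorem mv_RA (hN : ∀ m ∈ N, Mv m V V) {g : G} (hg : g ∈ N) {A B : SL F}
    (h : ∀ X, D.act g X = Tens.act A B X) (C E : SL F) : Mv g (D.RA C E) (D.RA (A * C) (B * E)) := by
  intro w
  rw [mem_RA, mem_RA, ← hN g hg w]
  refine and_congr_right fun hw => exists_congr fun c => ?_
  rw [← act_e hN hg hw, h, ← act_act]
  constructor
  · intro h1; rw [h1]
  · intro h1; exact act_inj h1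

theorem not_Bo_of_ne {i k : Option F} (hik : i ≠ k) {A T T' : SL F} (hA : A = rep i * T) (hT : Bo T)
    (hT' : Bo T') : ¬ Bo (A⁻¹ * (rep k * T')) := by
  intro hB
  apply hik
  apply rep_inj
  have h1 := (hT.mul hB).mul hT'.inv
  have e : T * (A⁻¹ * (rep k * T')) * T'⁻¹ = (rep i)⁻¹ * rep k := by rw [hA]; group
  rwa [e] at h1

theorem not_Bo_dn {a : F} (ha : a ≠ 0) : ¬ Bo (wy⁻¹ * (up a * wy) : SL F) := by
  intro h
  apply ha
  rw [wy_inv] at h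
  have e : (wy * (up a * wy) : SL F).1 = wy.1 * ((up a).1 * wy.1) := rfl
  rw [Bo, e, wy_val, up_val] at h
  simp only [Matrix.mul_apply, Fin.sum_univ_two] at h
  simpa using h

namespace Cx

theorem conj (h : Cx D) {m : G} (hm : m ∈ N) [Finite G] : Cx (D.conj h.hN m hm) := by
  have hR := conj_R0 (D := D) h.hN hm
  have hQ := hR.QQ
  refine ⟨h.hN, fun hle => h.V_Q fun v hv => ?_, fun x hx => ?_, fun x hx => ?_, h.three⟩
  · exact (hQ v).2 (hle ((h.hN m hm v).1 hv))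
  · have h1 := (hQ.inv.cen x).1 hx
    exact (hQ.inv x).2 (h.char2 h1)
  · have h1 := h.Q_N ((hQ.inv x).1 hx)
    exact ((Mv.of_mem hm).inv x).2 h1

variable [Finite G]

/-- two opposite points -/
theorem two (h : Cx D) {i k j l : Option F} (hik : i ≠ k) (hjl : j ≠ l) :
    ∃ (D' : PlusQ F N V) (m : G) (A B T T' S S' : SL F), Cx D' ∧ D'.R0 = D.R i j ∧ D'.R3 = D.R k l ∧
      (∀ C E, D'.RA C E = D.RA (A * C) (B * E)) ∧ Bo T ∧ Bo T' ∧ Bo S ∧ Bo S' ∧ A = rep i * T ∧ B = rep j * T' ∧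
      A * wy = rep k * S ∧ B * wy = rep l * S' ∧ m ∈ N ∧ (∀ X, D.act m X = Tens.act A B X) ∧
      (∀ w ∈ V, D'.e w = Tens.act A⁻¹ B⁻¹ (D.e w)) ∧
      ∀ g ∈ N, ∀ X, D'.act g X = Tens.act A⁻¹ B⁻¹ (D.act g (Tens.act A B X)) := by
  obtain ⟨A, T, S, hT, hS, eA, eA'⟩ := exists_pair' hik
  obtain ⟨B, T', S', hT', hS', eB, eB'⟩ := exists_pair' hjl
  obtain ⟨m, hm, hmA⟩ := lift_act (D := D) h.hN A B
  have key := conj_RA h.hN hm hmA
  refine ⟨D.conj h.hN m hm, m, A, B, T, T', S, S', h.conj hm, ?_, ?_, key, hT, hT', hS, hS', eA, eB, eA', eB',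
    hm, hmA, fun w hw => conj_e_eq h.hN hm hmA hw, fun g hg X => conj_act h.hN hm hmA hg X⟩
  · rw [← RA_one, key, mul_one, mul_one, eA, eB, RA_Bo _ _ hT hT']; rfl
  · rw [← RA_wy, key, eA', eB', RA_Bo _ _ hS hS']; rfl

theorem exists_ne' (i k : Option F) (h : Cx D) : ∃ c : Option F, i ≠ c ∧ c ≠ k := by
  obtain ⟨t, ht0, ht1⟩ := h.three
  match i, k with
  | none, none => exact ⟨some 0, by simp, by simp⟩
  | none, some b =>
    by_cases hb : b = 0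
    · exact ⟨some 1, by simp, by simp [hb]⟩
    · exact ⟨some 0, by simp, by simpa using fun h => hb h.symm⟩
  | some a, none =>
    by_cases ha : a = 0
    · exact ⟨some 1, by simp [ha], by simp⟩
    · exact ⟨some 0, by simpa using ha, by simp⟩
  | some a, some b => exact ⟨none, by simp, by simp⟩

/-- single points -/
theorem one (h : Cx D) (i j : Option F) : ∃ (D' : PlusQ F N V) (k l : Option F), i ≠ k ∧ j ≠ l ∧ Cx D' ∧
    D'.R0 = D.R i j ∧ D'.R3 = D.R k l := by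
  obtain ⟨k, hk, -⟩ := exists_ne' i i h
  obtain ⟨l, hl, -⟩ := exists_ne' j j h
  obtain ⟨D', m, A, B, T, T', S, S', h1, h2, h3, -⟩ := h.two hk hl
  exact ⟨D', k, l, hk, hl, h1, h2, h3⟩

theorem perm (h : Cx D) {g : G} (hg : g ∈ N) (i j : Option F) : ∃ k l, Mv g (D.R i j) (D.R k l) := by
  obtain ⟨t, ht0, ht1⟩ := h.three
  obtain ⟨a, ha, haA⟩ := lift_act (D := D) h.hN (rep i) (rep j)
  have hag : g * a ∈ N := mul_mem hg ha
  obtain ⟨A, B, c, hc⟩ := exists_e0 ((nm (D := D) h.hN hag).det_eq_zero ht0 ht1 (det_e0 1))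
  obtain ⟨b, hb, hbA⟩ := lift_act (D := D) h.hN A B
  have hmem : b⁻¹ * (g * a) ∈ N := mul_mem (inv_mem hb) hag
  have h0 : D.act (b⁻¹ * (g * a)) (e0 1) = e0 c := by
    rw [act_mul h.hN (inv_mem hb) hag, hc, act_inv_of h.hN hb hbA, Tens.act_inv_act]
  have h1 := (fix_iff h.hN hmem).2 ((nm (D := D) h.hN hmem).fix0 ht0 ht1 one_ne_zero h0)
  have h2 := mv_RA h.hN ha haA 1 1
  have h3 := mv_RA h.hN hb hbA 1 1
  rw [mul_one, mul_one, RA_one] at h2 h3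
  have h4 := (h3.mul h1).mul h2.inv
  have e : b * (b⁻¹ * (g * a)) * a⁻¹ = g := by group
  rw [e] at h4
  obtain ⟨k, l, -, -, -, -, -, -, e2⟩ := exists_R (D := D) A B
  rw [e2] at h4
  exact ⟨k, l, h4⟩

variable [Finite F]

theorem mv_R3 (h : Cx D) {y : G} (hy : y ∈ QQ D.R0) :
    Mv y D.R3 (D.RA (up (D.al y) * wy) (up (D.be y) * wy)) := by
  rw [← RA_wy]
  exact mv_RA h.hN (h.Q_N hy) (h.act_y hy) _ _

theorem tran (h : Cx D) {i j i1 j1 i2 j2 : Option F} (h1 : i ≠ i1) (h2 : j ≠ j1) (h3 : i ≠ i2) (h4 : j ≠ j2) :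
    ∃ y ∈ QQ (D.R i j), Mv y (D.R i1 j1) (D.R i2 j2) := by
  obtain ⟨D', m, A, B, T, T', S, S', hD, eR0, eR3, hRA, hT, hT', hS, hS', eA, eB, eA', eB', -⟩ := h.two h1 h2
  obtain ⟨a, U, hU, eU⟩ := big (not_Bo_of_ne h3 eA hT Bo.one)
  obtain ⟨b, U', hU', eU'⟩ := big (not_Bo_of_ne h4 eB hT' Bo.one)
  obtain ⟨y, hy, hya, hyb⟩ := hD.al_surj a b
  refine ⟨y, by rwa [← eR0], ?_⟩
  have h5 := hD.mv_R3 hy
  rw [hya, hyb, eR3, ← RA_Bo _ _ hU hU', ← eU, ← eU', hRA] at h5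
  rw [mul_inv_cancel_left, mul_inv_cancel_left, mul_one, mul_one] at h5
  exact h5

/-- the points moved by `y ∈ Q` with both coordinates `≠ 0` -/
theorem half_mv (h : Cx D) {i j k l : Option F} {A B S S' : SL F} (hS : Bo S) (hS' : Bo S') (eA' : A * wy = rep k * S)
    (eB' : B * wy = rep l * S') {D' : PlusQ F N V} (hD : Cx D') (eR3 : D'.R3 = D.R k l)
    (hRA : ∀ C E, D'.RA C E = D.RA (A * C) (B * E)) {y : G} (hy : y ∈ QQ D'.R0) (ha : D'.al y ≠ 0)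
    (hb : D'.be y ≠ 0) : ∃ k' l', k ≠ k' ∧ l ≠ l' ∧ Mv y (D.R k l) (D.R k' l') := by
  have _ := h
  have h5 := hD.mv_R3 hy
  rw [eR3, hRA] at h5
  obtain ⟨k', l', U, U', hU, hU', e1, e2, e3⟩ := exists_R (D := D) (A * (up (D'.al y) * wy)) (B * (up (D'.be y) * wy))
  rw [e3] at h5
  refine ⟨k', l', ?_, ?_, h5⟩
  · rintro rfl
    apply not_Bo_dn ha
    have h6 : wy⁻¹ * (up (D'.al y) * wy) = S⁻¹ * U := by
      have h7 : A = rep k * S * wy⁻¹ := by rw [← eA', mul_inv_cancel_right]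
      rw [h7] at e1
      have h8 : rep k * (S * (wy⁻¹ * (up (D'.al y) * wy))) = rep k * U := by
        rw [← e1]; group
      have h9 := mul_left_cancel h8
      rw [← h9, inv_mul_cancel_left]
    rw [h6]
    exact hS.inv.mul hU
  · rintro rfl
    apply not_Bo_dn hb
    have h6 : wy⁻¹ * (up (D'.be y) * wy) = S'⁻¹ * U' := by
      have h7 : B = rep l * S' * wy⁻¹ := by rw [← eB', mul_inv_cancel_right]
      rw [h7] at e2
      have h8 : rep l * (S' * (wy⁻¹ * (up (D'.be y) * wy))) = rep l * U' := by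
        rw [← e2]; group
      have h9 := mul_left_cancel h8
      rw [← h9, inv_mul_cancel_left]
    rw [h6]
    exact hS'.inv.mul hU'

end Cx

/-- opposite points -/
def Op (p q : Option F × Option F) : Prop := p.1 ≠ q.1 ∧ p.2 ≠ q.2

/-- **The structure `Bp`.** -/
theorem bp [Finite G] [Finite F] (h : Cx D) (meet : ∀ W : Subgroup G, IsPGroup 2 W → W ≤ N →
    (∀ m ∈ N, ∀ y ∈ W, m * y * m⁻¹ ∈ W) → W ⊓ V = ⊥ → W = ⊥) :
    Bp F N V (fun p : Option F × Option F => D.R p.1 p.2) Op where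
  comm a ha b hb := D.comm ha hb
  sq a ha := D.sq ha
  M_V := h.hN
  R_le p := RA_le _ _
  RQ p r hr y hy := by
    obtain ⟨D', k, l, hk, hl, hD, e0, e3⟩ := h.one p.1 p.2
    rw [← e0] at hr hy
    exact hD.RQ hr hy
  ne p := by
    obtain ⟨D', k, l, hk, hl, hD, e0, e3⟩ := h.one p.1 p.2
    intro h1
    have h2 : Nat.card D'.R0 = 1 := by rw [e0, h1]; exact Subgroup.card_bot
    rw [card_R0] at h2
    have := (Nat.card_eq_one_iff_unique.1 h2).1
    exact one_ne_zero (Subsingleton.elim (1 : F) 0)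
  cardR p := by
    obtain ⟨D', k, l, hk, hl, hD, e0, e3⟩ := h.one p.1 p.2
    rw [← card_R0 (D := D'), e0]
  three := h.three
  disj p q hpq := by
    obtain ⟨D', m, A, B, T, T', S, S', hD, eR0, eR3, -⟩ := h.two hpq.1 hpq.2
    rw [← eR0, ← eR3]; exact R0_inf_R3
  symm p q hpq := ⟨hpq.1.symm, hpq.2.symm⟩
  conn p q := by
    obtain ⟨c, h1, h2⟩ := Cx.exists_ne' p.1 q.1 h
    obtain ⟨d, h3, h4⟩ := Cx.exists_ne' p.2 q.2 h
    exact ⟨(c, d), ⟨h1, h3⟩, h2, h4⟩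
  perm m hm p := by
    obtain ⟨k, l, h1⟩ := h.perm hm p.1 p.2
    exact ⟨(k, l), h1⟩
  tran p q r hpq hpr := h.tran hpq.1 hpq.2 hpr.1 hpr.2
  Q_M p := by
    obtain ⟨D', k, l, hk, hl, hD, e0, e3⟩ := h.one p.1 p.2
    rw [← e0]; exact hD.Q_N
  V_Q p := by
    obtain ⟨D', k, l, hk, hl, hD, e0, e3⟩ := h.one p.1 p.2
    rw [← e0]; exact hD.V_Q
  char2 p := by
    obtain ⟨D', k, l, hk, hl, hD, e0, e3⟩ := h.one p.1 p.2
    rw [← e0]; exact hD.char2
  EQ p e he y hy := by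
    obtain ⟨D', k, l, hk, hl, hD, e0, e3⟩ := h.one p.1 p.2
    rw [← e0] at he hy ⊢; exact hD.EQ he hy
  EQs p y hy hyV r hr := by
    obtain ⟨D', k, l, hk, hl, hD, e0, e3⟩ := h.one p.1 p.2
    rw [← e0] at hy hr ⊢; exact hD.EQs hy hyV hr
  cenR p v hv hc := by
    obtain ⟨D', k, l, hk, hl, hD, e0, e3⟩ := h.one p.1 p.2
    rw [← e0] at hc ⊢; exact hD.cenR hv hc
  cardE p := by
    obtain ⟨D', k, l, hk, hl, hD, e0, e3⟩ := h.one p.1 p.2
    rw [← e0]; exact hD.cardE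
  irr p W hW hn hne y hy := by
    obtain ⟨D', k, l, hk, hl, hD, e0, e3⟩ := h.one p.1 p.2
    rw [← e0] at hW hn hy; exact hD.irr hW hn hne hy
  meet := meet
  alt p q hpq b hb hadd hcomm hC := by
    obtain ⟨D', m, A, B, T, T', S, S', hD, eR0, eR3, -⟩ := h.two hpq.1 hpq.2
    rw [← eR0] at hb hadd hcomm hC ⊢
    rw [← eR3]
    exact hD.alt b hb hadd hcomm hC
  half p q hpq := by
    obtain ⟨D', m, A, B, T, T', S, S', hD, eR0, eR3, hRA, hT, hT', hS, hS', eA, eB, eA', eB', -⟩ := h.two hpq.1 hpq.2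
    rw [← eR0]
    refine ⟨D'.al, D'.be, fun y hy y' hy' => hD.al_mul hy hy', fun y hy => hD.mem_C_iff hy, hD.al_surj,
      fun y hy ha hb => ?_, ?_⟩
    · obtain ⟨k', l', h1, h2, h3⟩ := h.half_mv (i := p.1) (j := p.2) hS hS' eA' eB' hD eR3 hRA hy ha hb
      exact ⟨(k', l'), ⟨h1, h2⟩, h3⟩
    · obtain ⟨s, hs, hsR, hsR3, -, -, hsy⟩ := hD.swap
      refine ⟨s, hs, hsR, by rw [← eR3]; exact hsR3, fun y hy => ?_⟩
      obtain ⟨a, b, h1, h2, h3, h4⟩ := hsy y hy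
      rw [h3, h4]
      exact ⟨h2, h1⟩

end Cfsg.Agent.Omega.NO1.PlusQ
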