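import Cfsg.Agent.Omega.NO1.Tens.RA
import Cfsg.Agent.Omega.NO1.Beta.Inst

/-!
# Type (γ) of the leaf N1: the facts of THEOREM BETA at the base point (helper914)
-/

set_option autoImplicit false
set_option linter.unusedSectionVars false

namespace Cfsg.Agent.Omega.NO1.PlusQ

open Subgroup Cfsg Matrix
open Cfsg.Agent.Omega.NO1.Tens
open Cfsg.Agent.Omega.NO1.BetaPlus (Mv QQ)
open Cfsg.Agent.ZN (o2)

universe u

variable {G : Type u} [Group G] {F : Type} [Field F] {N V : Subgroup G}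

/-- the first coordinate of `y ∈ Q` -/
noncomputable def al (D : PlusQ F N V) (y : G) : F := D.act y (e3 1) 0 1

/-- the second coordinate of `y ∈ Q` -/
noncomputable def be (D : PlusQ F N V) (y : G) : F := D.act y (e3 1) 1 0

variable {D : PlusQ F N V} [CharP F 2]

theorem al_be {y : G} {a b : F} (h : ∀ X, D.act y X = Tens.act (up a) (up b) X) : D.al y = a ∧ D.be y = b := by
  constructor
  · rw [al, h, act_up]; simp [e3]
  · rw [be, h, act_up]; simp [e3]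

theorem R0_inf_R3 : D.R0 ⊓ D.R3 = ⊥ := by
  rw [eq_bot_iff]
  rintro w ⟨⟨hw, c, hc⟩, -, d, hd⟩
  rw [mem_bot]
  refine D.ker w hw ?_
  rw [hc] at hd
  have := congrArg (fun X : M2 F => X 0 0) hd
  simp [e0, e3] at this
  rw [hc, this, e0_zero]

namespace Cx

variable [Finite G] (h : Cx D)
include h

variable [Finite F]

theorem act_y {y : G} (hy : y ∈ QQ D.R0) (X : M2 F) : D.act y X = Tens.act (up (D.al y)) (up (D.be y)) X := by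
  obtain ⟨a, b, hab⟩ := h.U hy
  obtain ⟨e1, e2⟩ := al_be hab
  rw [e1, e2, hab]

theorem al_mul {y y' : G} (hy : y ∈ QQ D.R0) (hy' : y' ∈ QQ D.R0) :
    D.al (y * y') = D.al y + D.al y' ∧ D.be (y * y') = D.be y + D.be y' := by
  refine al_be (D := D) fun X => ?_
  rw [act_mul h.hN (h.Q_N hy) (h.Q_N hy'), h.act_y hy, h.act_y hy', act_act, up_add, up_add]

theorem al_inv {y : G} (hy : y ∈ QQ D.R0) : D.al y⁻¹ = D.al y ∧ D.be y⁻¹ = D.be y := by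
  refine al_be (D := D) fun X => ?_
  apply (nm (D := D) h.hN (h.Q_N hy)).inj
  rw [act_act_inv h.hN (h.Q_N hy), h.act_y hy, act_up_up]

theorem mem_C_iff {y : G} (hy : y ∈ QQ D.R0) : y ∈ centralizer (V : Set G) ↔ D.al y = 0 ∧ D.be y = 0 := by
  rw [← act_one_iff (D := D) h.hN (h.Q_N hy)]
  constructor
  · intro h1
    exact al_be (D := D) fun X => by rw [h1, up_zero, act_one]
  · rintro ⟨e1, e2⟩ X
    rw [h.act_y hy, e1, e2, up_zero, act_one]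

theorem al_surj (a b : F) : ∃ y ∈ QQ D.R0, D.al y = a ∧ D.be y = b := by
  obtain ⟨y, hy, hyA⟩ := h.U_surj a b
  exact ⟨y, hy, al_be hyA⟩

theorem RQ {r : G} (hr : r ∈ D.R0) {y : G} (hy : y ∈ QQ D.R0) : r * y = y * r := by
  obtain ⟨hrV, c, hc⟩ := hr
  have h1 : y * r * y⁻¹ = r := by
    refine D.e_inj ((h.hN y (h.Q_N hy) r).1 hrV) hrV ?_
    rw [← act_e h.hN (h.Q_N hy) hrV, hc, h.act_y hy, act_up_e0]
  calc r * y = (y * r * y⁻¹) * y := by rw [h1]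
    _ = y * r := by group

/-- `[v, y]` in coordinates -/
theorem e_com' {v y : G} (hv : v ∈ V) (hy : y ∈ QQ D.R0) :
    D.e (v⁻¹ * y⁻¹ * v * y) = Tens.act (up (D.al y)) (up (D.be y)) (D.e v) - D.e v := by
  have h1 : y⁻¹ * v * y⁻¹⁻¹ ∈ V := (h.hN _ (inv_mem (h.Q_N hy)) v).1 hv
  have e : v⁻¹ * y⁻¹ * v * y = v⁻¹ * (y⁻¹ * v * y⁻¹⁻¹) := by group
  rw [e, D.mul _ (inv_mem hv) _ h1, D.e_inv hv, ← act_e h.hN (inv_mem (h.Q_N hy)) hv,
    h.act_y (inv_mem hy), (h.al_inv hy).1, (h.al_inv hy).2]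
  abel

theorem com_V {v y : G} (hv : v ∈ V) (hy : y ∈ QQ D.R0) : v⁻¹ * y⁻¹ * v * y ∈ V := by
  have h1 : y⁻¹ * v * y⁻¹⁻¹ ∈ V := (h.hN _ (inv_mem (h.Q_N hy)) v).1 hv
  have e : v⁻¹ * y⁻¹ * v * y = v⁻¹ * (y⁻¹ * v * y⁻¹⁻¹) := by group
  rw [e]; exact mul_mem (inv_mem hv) h1

theorem com_perp (a b : F) {X : M2 F} (hX : X 1 1 = 0) :
    Tens.act (up a) (up b) X - X = e0 (a * X 1 0 + b * X 0 1) := by
  have _ := h
  rw [act_up]
  apply ext2 <;> simp [e0, hX]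
  ring

theorem EQ {e : G} (he : e ∈ V ⊓ QQ D.R0) {y : G} (hy : y ∈ QQ D.R0) : e⁻¹ * y⁻¹ * e * y ∈ D.R0 := by
  exact ⟨h.com_V he.1 hy, D.al y * D.e e 1 0 + D.be y * D.e e 0 1, by
    rw [h.e_com' he.1 hy, h.com_perp _ _ ((h.mem_E he.1).1 he.2)]⟩

theorem EQs {y : G} (hy : y ∈ QQ D.R0) (hyV : y ∉ centralizer (V : Set G)) {r : G} (hr : r ∈ D.R0) :
    ∃ e ∈ V ⊓ QQ D.R0, e⁻¹ * y⁻¹ * e * y = r := by
  rw [h.mem_C_iff hy, not_and_or] at hyV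
  obtain ⟨hrV, c, hc⟩ := hr
  rcases hyV with h0 | h0
  · refine ⟨D.v (e2 (c / D.al y)), ⟨D.v_mem _, h.e2_mem _⟩, ?_⟩
    refine D.e_inj (h.com_V (D.v_mem _) hy) hrV ?_
    rw [h.e_com' (D.v_mem _) hy, D.e_v, h.com_perp _ _ (by simp [e2]), hc]
    congr 1
    simp [e2]
    rw [mul_div_cancel₀ _ h0]
  · refine ⟨D.v (e1 (c / D.be y)), ⟨D.v_mem _, h.e1_mem _⟩, ?_⟩
    refine D.e_inj (h.com_V (D.v_mem _) hy) hrV ?_
    rw [h.e_com' (D.v_mem _) hy, D.e_v, h.com_perp _ _ (by simp [e1]), hc]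
    congr 1
    simp [e1]
    rw [mul_div_cancel₀ _ h0]

theorem cenR {v : G} (hv : v ∈ V) (hc : ∀ y ∈ QQ D.R0, v * y = y * v) : v ∈ D.R0 := by
  refine ⟨hv, ?_⟩
  have key : ∀ a b, Tens.act (up a) (up b) (D.e v) = D.e v := by
    intro a b
    obtain ⟨y, hy, hyA⟩ := h.U_surj a b
    rw [← hyA, act_e h.hN (h.Q_N hy) hv, ← hc y hy, mul_inv_cancel_right]
  refine ⟨D.e v 0 0, eq_e0_of_fixed ?_ ?_⟩
  · have := key 1 0; rwa [up_zero] at this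
  · have := key 0 1; rwa [up_zero] at this

theorem cardQ : (centralizer (V : Set G)).relIndex (QQ D.R0) = Nat.card (F × F) :=
  Beta.Inst.relIndex_eq_card (fun y => (D.al y, D.be y))
    (fun x hx y hy => by
      obtain ⟨e1, e2⟩ := h.al_mul hx hy
      exact Prod.ext e1 e2)
    (fun a => by
      obtain ⟨y, hy, e1, e2⟩ := h.al_surj a.1 a.2
      exact ⟨y, hy, Prod.ext e1 e2⟩)
    (fun x hx => by
      rw [h.mem_C_iff hx, Prod.mk_eq_zero])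

theorem cardE' : D.R0.relIndex (V ⊓ QQ D.R0) = Nat.card (F × F) :=
  Beta.Inst.relIndex_eq_card (fun y => (D.e y 0 1, D.e y 1 0))
    (fun x hx y hy => by
      rw [D.mul x hx.1 y hy.1]; rfl)
    (fun a => ⟨D.v (e1 a.1 + e2 a.2), ⟨D.v_mem _, by
      rw [D.v_add]; exact mul_mem (h.e1_mem _) (h.e2_mem _)⟩, by simp [e1, e2]⟩)
    (fun x hx => by
      rw [Prod.mk_eq_zero, mem_R0]
      have h11 := (h.mem_E hx.1).1 hx.2
      constructor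
      · rintro ⟨h1, h2⟩
        exact ⟨hx.1, D.e x 0 0, by apply ext2 <;> simp [e0, h1, h2, h11]⟩
      · rintro ⟨-, c, hc⟩
        rw [hc]; simp [e0])

theorem cardE : (centralizer (V : Set G)).relIndex (QQ D.R0) = D.R0.relIndex (V ⊓ QQ D.R0) := by
  rw [h.cardQ, h.cardE']

theorem VE : V ≤ (V ⊓ QQ D.R0) ⊔ D.R3 := by
  intro v hv
  have e' : v = D.v (D.e v - e3 (D.e v 1 1)) * D.v (e3 (D.e v 1 1)) := by
    rw [← D.v_add, sub_add_cancel, D.v_e hv]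
  rw [e']
  refine mul_mem (mem_sup_left (mem_inf.2 ⟨D.v_mem _, (h.mem_E (D.v_mem _)).2 ?_⟩)) (mem_sup_right (v_e3 _))
  rw [D.e_v]
  simp [e3]

/-- the swap at the two base points -/
theorem swap : ∃ s ∈ N, Mv s D.R0 D.R0 ∧ Mv s D.R3 D.R3 ∧ T2 (D.act s) ∧ (∀ x, ∃ y, D.act s (e0 x) = e0 y) ∧
    ∀ y ∈ QQ D.R0, ∃ a b, (a = 0 ↔ D.al y = 0) ∧ (b = 0 ↔ D.be y = 0) ∧
      D.al (s * y * s⁻¹) = b ∧ D.be (s * y * s⁻¹) = a := by
  obtain ⟨t, ht0, ht1⟩ := h.three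
  obtain ⟨s, hs, hsT, hs0, hs3⟩ := exists_swap (D := D) h.hN ht0 ht1
  have hms := nm (D := D) h.hN hs
  refine ⟨s, hs, (fix_iff h.hN hs).2 hs0, ?_, hsT, hs0, ?_⟩
  · refine Mv.of_le ?_ le_rfl
    rintro w ⟨hw, c, hc⟩
    obtain ⟨y, hy⟩ := hs3 c
    exact ⟨(h.hN s hs w).1 hw, y, by rw [← hy, ← hc, act_e h.hN hs hw]⟩
  · intro y hy
    obtain ⟨a1, ha1⟩ := hms.un2_left hsT hs0 (D.al y)
    obtain ⟨b1, hb1⟩ := hms.un2_right hsT hs0 (D.be y)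
    have hysA : ∀ X, D.act (s * y * s⁻¹) X = Tens.act (up b1) (up a1) X := by
      intro X
      rw [act_mul h.hN (mul_mem hs (h.Q_N hy)) (inv_mem hs), act_mul h.hN hs (h.Q_N hy), h.act_y hy, act_split,
        ha1, hb1, hms.right, act_act, one_mul, mul_one]
    refine ⟨a1, b1, ⟨fun h1 => ?_, fun h1 => ?_⟩, ⟨fun h1 => ?_, fun h1 => ?_⟩, al_be hysA⟩
    · rw [h1, up_zero] at ha1
      have h2 : ∀ X, Tens.act (up (D.al y)) 1 X = X := fun X => hms.inj (by rw [ha1, act_one])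
      have h3 := (act_eq_one h2).1
      rw [← up_zero] at h3
      exact up_inj h3
    · rw [h1, up_zero] at ha1
      have h2 : ∀ X, Tens.act 1 (up a1) X = X := fun X => by
        have := ha1 (D.act s⁻¹ X)
        rw [act_one, hms.right] at this
        exact this.symm
      have h3 := (act_eq_one h2).2
      rw [← up_zero] at h3
      exact up_inj h3
    · rw [h1, up_zero] at hb1
      have h2 : ∀ X, Tens.act 1 (up (D.be y)) X = X := fun X => hms.inj (by rw [hb1, act_one])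
      have h3 := (act_eq_one h2).2
      rw [← up_zero] at h3
      exact up_inj h3
    · rw [h1, up_zero] at hb1
      have h2 : ∀ X, Tens.act (up b1) 1 X = X := fun X => by
        have := hb1 (D.act s⁻¹ X)
        rw [act_one, hms.right] at this
        exact this.symm
      have h3 := (act_eq_one h2).1
      rw [← up_zero] at h3
      exact up_inj h3

theorem irr {W : Subgroup G} (hW : W ≤ QQ D.R0)
    (hn : ∀ m ∈ N, Mv m D.R0 D.R0 → ∀ y ∈ W, m * y * m⁻¹ ∈ W) (hne : ¬ W ≤ centralizer (V : Set G))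
    {y : G} (hy : y ∈ QQ D.R0) : ∃ n ∈ W, y⁻¹ * n ∈ centralizer (V : Set G) := by
  obtain ⟨t, ht0, ht1⟩ := h.three
  obtain ⟨y0, hy0, hy0C⟩ := SetLike.not_le_iff_exists.1 hne
  have hy0Q := hW hy0
  rw [h.mem_C_iff hy0Q, not_and_or] at hy0C
  obtain ⟨s, hs, hsR, hsR3, hsT, hs0, hsy⟩ := h.swap
  obtain ⟨a1, b1, ha1, hb1, e1, e2⟩ := hsy y0 hy0Q
  have hadd : ∀ a b a' b' : F, (∃ y ∈ W, D.al y = a ∧ D.be y = b) → (∃ y ∈ W, D.al y = a' ∧ D.be y = b') →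
      ∃ y ∈ W, D.al y = a + a' ∧ D.be y = b + b' := by
    rintro a b a' b' ⟨y, hy, rfl, rfl⟩ ⟨z, hz, rfl, rfl⟩
    exact ⟨y * z, mul_mem hy hz, h.al_mul (hW hy) (hW hz)⟩
  have htor : ∀ (l m : Fˣ) (a b : F), (∃ y ∈ W, D.al y = a ∧ D.be y = b) →
      ∃ y ∈ W, D.al y = l * l * a ∧ D.be y = m * m * b := by
    rintro l m a b ⟨y, hy, rfl, rfl⟩
    obtain ⟨t, ht, htA⟩ := lift_act (D := D) h.hN (tor l) (tor m)
    have ht0' : ∀ x, ∃ z, D.act t (e0 x) = e0 z := fun x => ⟨l * m * x, by rw [htA, act_tor_e0]⟩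
    refine ⟨t * y * t⁻¹, hn t ht ((fix_iff h.hN ht).2 ht0') y hy, al_be fun X => ?_⟩
    rw [act_mul h.hN (mul_mem ht (h.Q_N (hW hy))) (inv_mem ht), act_mul h.hN ht (h.Q_N (hW hy)), h.act_y (hW hy),
      htA, tor_act_up]
    congr 1
    rw [← htA, act_act_inv h.hN ht]
  have hysW : s * y0 * s⁻¹ ∈ W := hn s hs hsR y0 hy0
  have key : ∃ n ∈ W, D.al n = D.al y ∧ D.be n = D.be y := by
    rcases hy0C with h0 | h0
    · exact Tens.irr ht0 ht1 (W := fun a b => ∃ y ∈ W, D.al y = a ∧ D.be y = b) hadd htor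
        (a0 := D.al y0) (b0 := D.be y0) (a1 := b1) (b1 := a1) ⟨y0, hy0, rfl, rfl⟩ h0
        ⟨_, hysW, e1, e2⟩ (fun h1 => h0 (ha1.1 h1)) _ _
    · exact Tens.irr ht0 ht1 (W := fun a b => ∃ y ∈ W, D.al y = a ∧ D.be y = b) hadd htor
        (a0 := b1) (b0 := a1) (a1 := D.al y0) (b1 := D.be y0) ⟨_, hysW, e1, e2⟩ (fun h1 => h0 (hb1.1 h1))
        ⟨y0, hy0, rfl, rfl⟩ h0 _ _
  obtain ⟨n, hn', en1, en2⟩ := key
  refine ⟨n, hn', ?_⟩
  rw [h.mem_C_iff (mul_mem (inv_mem hy) (hW hn')), (h.al_mul (inv_mem hy) (hW hn')).1,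
    (h.al_mul (inv_mem hy) (hW hn')).2, (h.al_inv hy).1, (h.al_inv hy).2, en1, en2]
  exact ⟨CharTwo.add_self_eq_zero _, CharTwo.add_self_eq_zero _⟩

theorem mod_R {v w : G} (hv : v ∈ V ⊓ QQ D.R0) (hw : w ∈ V ⊓ QQ D.R0) :
    v * w⁻¹ ∈ D.R0 ↔ D.e v 0 1 = D.e w 0 1 ∧ D.e v 1 0 = D.e w 1 0 := by
  have h1 := (h.mem_E hv.1).1 hv.2
  have h2 := (h.mem_E hw.1).1 hw.2
  rw [mem_R0, D.mul _ hv.1 _ (inv_mem hw.1), D.e_inv hw.1]
  constructor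
  · rintro ⟨-, c, hc⟩
    have e1 := congrArg (fun X : M2 F => X 0 1) hc
    have e2 := congrArg (fun X : M2 F => X 1 0) hc
    simp [e0] at e1 e2
    exact ⟨by linear_combination e1, by linear_combination e2⟩
  · rintro ⟨e1, e2⟩
    refine ⟨mul_mem hv.1 (inv_mem hw.1), D.e v 0 0 - D.e w 0 0, ?_⟩
    apply ext2 <;> simp [e0, e1, e2, h1, h2]
    ring

theorem alt (b : G → G) (hb : ∀ y ∈ QQ D.R0, b y ∈ V ⊓ QQ D.R0)
    (hadd : ∀ y ∈ QQ D.R0, ∀ y' ∈ QQ D.R0, b (y * y') * (b y * b y')⁻¹ ∈ D.R0)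
    (hcomm : ∀ y ∈ QQ D.R0, b y * y = y * b y)
    (hC : ∀ y ∈ QQ D.R0, y ∈ centralizer (V : Set G) → b y ∈ D.R0) :
    ∃ r ∈ D.R3, ∀ y ∈ QQ D.R0, b y * (y⁻¹ * r⁻¹ * y * r)⁻¹ ∈ D.R0 := by
  have hadd' : ∀ y ∈ QQ D.R0, ∀ y' ∈ QQ D.R0, D.e (b (y * y')) 0 1 = D.e (b y) 0 1 + D.e (b y') 0 1 ∧
      D.e (b (y * y')) 1 0 = D.e (b y) 1 0 + D.e (b y') 1 0 := by
    intro y hy y' hy'
    have h1 := (h.mod_R (hb _ (mul_mem hy hy')) (mul_mem (hb y hy) (hb y' hy'))).1 (hadd y hy y' hy')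
    rw [D.mul _ (hb y hy).1 _ (hb y' hy').1] at h1
    exact h1
  have hC' : ∀ y ∈ QQ D.R0, y ∈ centralizer (V : Set G) → D.e (b y) 0 1 = 0 ∧ D.e (b y) 1 0 = 0 := by
    intro y hy hyC
    obtain ⟨-, c, hc⟩ := hC y hy hyC
    rw [hc]; simp [e0]
  -- well defined
  have hwd : ∀ y ∈ QQ D.R0, ∀ y' ∈ QQ D.R0, D.al y = D.al y' → D.be y = D.be y' →
      D.e (b y) 0 1 = D.e (b y') 0 1 ∧ D.e (b y) 1 0 = D.e (b y') 1 0 := by
    intro y hy y' hy' e1 e2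
    have h1 : y * y'⁻¹ ∈ centralizer (V : Set G) := by
      rw [h.mem_C_iff (mul_mem hy (inv_mem hy')), (h.al_mul hy (inv_mem hy')).1,
        (h.al_mul hy (inv_mem hy')).2, (h.al_inv hy').1, (h.al_inv hy').2, e1, e2]
      exact ⟨CharTwo.add_self_eq_zero _, CharTwo.add_self_eq_zero _⟩
    have h2 := hadd' (y * y'⁻¹) (mul_mem hy (inv_mem hy')) y' hy'
    rw [inv_mul_cancel_right] at h2
    obtain ⟨h3, h4⟩ := hC' _ (mul_mem hy (inv_mem hy')) h1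
    rw [h3, h4, zero_add, zero_add] at h2
    exact h2
  choose Y hYQ hY using h.al_surj
  have key : ∀ y ∈ QQ D.R0, D.e (b y) 0 1 = D.e (b (Y (D.al y) (D.be y))) 0 1 ∧
      D.e (b y) 1 0 = D.e (b (Y (D.al y) (D.be y))) 1 0 :=
    fun y hy => hwd y hy _ (hYQ _ _) (hY _ _).1.symm (hY _ _).2.symm
  have hfg : ∀ a b' a' b'', D.e (b (Y (a + a') (b' + b''))) 0 1 = D.e (b (Y a b')) 0 1 + D.e (b (Y a' b'')) 0 1 ∧
      D.e (b (Y (a + a') (b' + b''))) 1 0 = D.e (b (Y a b')) 1 0 + D.e (b (Y a' b'')) 1 0 := by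
    intro a b' a' b''
    obtain ⟨h1, h2⟩ := hadd' _ (hYQ a b') _ (hYQ a' b'')
    obtain ⟨h3, h4⟩ := h.al_mul (hYQ a b') (hYQ a' b'')
    rw [(hY a b').1, (hY a' b'').1] at h3
    rw [(hY a b').2, (hY a' b'').2] at h4
    obtain ⟨h5, h6⟩ := key _ (mul_mem (hYQ a b') (hYQ a' b''))
    rw [h3, h4] at h5 h6
    rw [← h5, ← h6]
    exact ⟨h1, h2⟩
  obtain ⟨l, hl⟩ := Tens.alt (f := fun a b' => D.e (b (Y a b')) 0 1) (g := fun a b' => D.e (b (Y a b')) 1 0)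
    (fun a b' a' b'' => (hfg a b' a' b'').1) (fun a b' a' b'' => (hfg a b' a' b'').2) (by
      intro a b'
      have h1 := hcomm _ (hYQ a b')
      have h2 : D.e ((b (Y a b'))⁻¹ * (Y a b')⁻¹ * b (Y a b') * (Y a b')) = 0 := by
        have e : (b (Y a b'))⁻¹ * (Y a b')⁻¹ * b (Y a b') * (Y a b') = 1 := by
          rw [mul_assoc _ (b (Y a b')), h1]; group
        rw [e, D.e_one]
      rw [h.e_com' (hb _ (hYQ a b')).1 (hYQ a b'), h.com_perp _ _ ((h.mem_E (hb _ (hYQ a b')).1).1 (hb _ (hYQ a b')).2),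
        (hY a b').1, (hY a b').2] at h2
      exact e0_inj (h2.trans e0_zero.symm))
  refine ⟨D.v (e3 l), v_e3 l, fun y hy => ?_⟩
  have hr : y⁻¹ * (D.v (e3 l))⁻¹ * y * D.v (e3 l) ∈ V := by
    have h1 : y⁻¹ * (D.v (e3 l))⁻¹ * y⁻¹⁻¹ ∈ V := (h.hN _ (inv_mem (h.Q_N hy)) _).1 (inv_mem (D.v_mem _))
    rw [inv_inv] at h1
    exact mul_mem h1 (D.v_mem _)
  have hre : D.e (y⁻¹ * (D.v (e3 l))⁻¹ * y * D.v (e3 l)) =
      e3 l - Tens.act (up (D.al y)) (up (D.be y)) (e3 l) := by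
    have h1 : y⁻¹ * (D.v (e3 l))⁻¹ * y⁻¹⁻¹ ∈ V := (h.hN _ (inv_mem (h.Q_N hy)) _).1 (inv_mem (D.v_mem _))
    have e : y⁻¹ * (D.v (e3 l))⁻¹ * y * D.v (e3 l) = (y⁻¹ * (D.v (e3 l))⁻¹ * y⁻¹⁻¹) * D.v (e3 l) := by group
    rw [e, D.mul _ h1 _ (D.v_mem _), ← act_e h.hN (inv_mem (h.Q_N hy)) (inv_mem (D.v_mem _)),
      h.act_y (inv_mem hy), (h.al_inv hy).1, (h.al_inv hy).2, D.e_inv (D.v_mem _), D.e_v]
    simp [Tens.act]
    abel
  have hrQ : y⁻¹ * (D.v (e3 l))⁻¹ * y * D.v (e3 l) ∈ QQ D.R0 := by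
    rw [h.mem_E hr, hre, act_up]; simp [e3]
  rw [h.mod_R (hb y hy) ⟨hr, hrQ⟩, hre, act_up]
  obtain ⟨h1, h2⟩ := key y hy
  obtain ⟨h3, h4⟩ := hl (D.al y) (D.be y)
  rw [h1, h2, h3, h4]
  simp [e3]
  constructor
  · rw [CharTwo.neg_eq, mul_comm]
  · rw [CharTwo.neg_eq, mul_comm]

end Cx

end Cfsg.Agent.Omega.NO1.PlusQ
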