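import Cfsg.Agent.Omega.NO1.Tens.Proj

/-!
# The action of `SL₂(F)` on `Option F` (helper914)

`ua i a = rep i * up a * (rep i)⁻¹` : the root element at the point `i`; `mob C : Option F → Option F`.
-/

set_option autoImplicit false

namespace Cfsg.Agent.Omega.NO1.Tens

open Matrix

variable {F : Type} [Field F] [CharP F 2]

/-- the root element at `i` -/
def ua (i : Option F) (a : F) : SL F := rep i * up a * (rep i)⁻¹

theorem ua_zero (i : Option F) : ua i 0 = 1 := by
  rw [ua, up_zero, mul_one, mul_inv_cancel]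

theorem ua_mul (i : Option F) (a b : F) : ua i a * ua i b = ua i (a + b) := by
  rw [ua, ua, ua, up_add]; group

theorem ua_sq (i : Option F) (a : F) : ua i a * ua i a = 1 := by
  rw [ua_mul, CharTwo.add_self_eq_zero, ua_zero]

theorem ua_inv (i : Option F) (a : F) : (ua i a)⁻¹ = ua i a := inv_eq_of_mul_eq_one_left (ua_sq i a)

/-- conjugation of `up a` by an upper triangular matrix -/
theorem conj_up_Bo {T : SL F} (hT : Bo T) (a : F) : T * up a * T⁻¹ = up (T.1 0 0 * T.1 0 0 * a) := by
  rw [mul_inv_eq_iff_eq_mul]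
  have h1 : T.1 1 0 = 0 := hT
  have h2 := hT.diag
  have e1 : (T * up a).1 = T.1 * (up a).1 := rfl
  have e2 : (up (T.1 0 0 * T.1 0 0 * a) * T).1 = (up (T.1 0 0 * T.1 0 0 * a)).1 * T.1 := rfl
  apply SL_ext <;> rw [e1, e2, up_val, up_val] <;> simp only [Matrix.mul_apply, Fin.sum_univ_two] <;>
    simp [h1]
  linear_combination (- T.1 0 0 * a) * h2

/-- conjugates of root elements are root elements -/
theorem conj_up_eq {A T : SL F} {i : Option F} (hT : Bo T) (e : A = rep i * T) (a : F) :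
    A * up a * A⁻¹ = ua i (T.1 0 0 * T.1 0 0 * a) := by
  rw [ua, ← conj_up_Bo hT, e]; group

/-- the action on the points -/
noncomputable def mob (C : SL F) (k : Option F) : Option F := (exists_rep (C * rep k)).choose

theorem mob_spec (C : SL F) (k : Option F) : ∃ T, Bo T ∧ C * rep k = rep (mob C k) * T :=
  (exists_rep (C * rep k)).choose_spec

theorem mob_eq {C T : SL F} {k l : Option F} (hT : Bo T) (h : C * rep k = rep l * T) : mob C k = l := by
  obtain ⟨T', hT', h'⟩ := mob_spec C k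
  exact rep_unique hT' hT (h'.symm.trans h)

theorem mob_one (k : Option F) : mob (1 : SL F) k = k := mob_eq Bo.one (by rw [one_mul, mul_one])

theorem mob_mul (C E : SL F) (k : Option F) : mob (C * E) k = mob C (mob E k) := by
  obtain ⟨T, hT, h1⟩ := mob_spec E k
  obtain ⟨T', hT', h2⟩ := mob_spec C (mob E k)
  refine mob_eq (hT'.mul hT) ?_
  rw [mul_assoc, h1, ← mul_assoc, h2, mul_assoc]

theorem mob_inj (C : SL F) : Function.Injective (mob C) := by
  intro k l h
  have h1 : mob (C⁻¹ * C) k = mob (C⁻¹ * C) l := by rw [mob_mul, mob_mul, h]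
  rwa [inv_mul_cancel, mob_one, mob_one] at h1

theorem mob_ua_self (i : Option F) (a : F) : mob (ua i a) i = i :=
  mob_eq (Bo.up a) (by rw [ua, inv_mul_cancel_right])

/-- `ua i a` has no other fixed point -/
theorem ua_fix {i k : Option F} (h : k ≠ i) {a : F} (he : mob (ua i a) k = k) : a = 0 := by
  obtain ⟨b, T, hT, e⟩ := exists_pair h.symm
  obtain ⟨T', hT', e'⟩ := mob_spec (ua i a) k
  rw [he] at e'
  by_contra ha
  have e1 : rep k = rep i * up b * wy * T⁻¹ := by rw [e, mul_inv_cancel_right]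
  rw [e1, ua] at e'
  have e2 : rep i * (up b * (wy * (wy⁻¹ * (up a * wy)))) = rep i * (up b * (wy * (T⁻¹ * T' * T))) := by
    have e3 : rep i * up a * (rep i)⁻¹ * (rep i * up b * wy * T⁻¹) * T =
        rep i * up b * wy * T⁻¹ * T' * T := by rw [e']
    have e4 : rep i * up a * (rep i)⁻¹ * (rep i * up b * wy * T⁻¹) * T = rep i * (up a * up b) * wy := by group
    rw [e4, ← up_add, add_comm, up_add] at e3
    calc _ = rep i * (up b * up a) * wy := by group
      _ = _ := e3
      _ = _ := by group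
  have e3 := mul_left_cancel (mul_left_cancel (mul_left_cancel e2))
  have h4 : Bo (wy⁻¹ * (up a * wy) : SL F) := by
    rw [e3]; exact (hT.inv.mul hT').mul hT
  apply ha
  rw [wy_inv] at h4
  have e : (wy * (up a * wy) : SL F).1 = wy.1 * ((up a).1 * wy.1) := rfl
  rw [Bo, e, wy_val, up_val] at h4
  simp only [Matrix.mul_apply, Fin.sum_univ_two] at h4
  simpa using h4

/-- `ua i` is transitive on the other points -/
theorem ua_tran {i k l : Option F} (hk : k ≠ i) (hl : l ≠ i) : ∃ a, mob (ua i a) k = l := by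
  obtain ⟨b, T, hT, e⟩ := exists_pair hk.symm
  obtain ⟨c, T', hT', e'⟩ := exists_pair hl.symm
  refine ⟨b + c, mob_eq (hT'.mul hT.inv) ?_⟩
  have e1 : rep k = rep i * up b * wy * T⁻¹ := by rw [e, mul_inv_cancel_right]
  have e2 : rep l * (T' * T⁻¹) = rep i * up c * wy * T⁻¹ := by rw [e', mul_assoc]
  rw [e2, e1, ua]
  have e3 : rep i * up (b + c) * (rep i)⁻¹ * (rep i * up b * wy * T⁻¹) = rep i * (up (b + c) * up b) * wy * T⁻¹ := by
    group
  rw [e3, ← up_add]
  congr 4
  have := CharTwo.add_self_eq_zero b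
  linear_combination this

/-- `dn a` is a conjugate of `up a` -/
theorem dn_eq (a : F) : dn a = wy * up a * wy⁻¹ := by
  rw [wy_inv]
  have e : (wy * up a * wy : SL F).1 = wy.1 * (up a).1 * wy.1 := rfl
  apply SL_ext <;> rw [e, wy_val, up_val, dn_val] <;> simp only [Matrix.mul_apply, Fin.sum_univ_two] <;> simp

theorem wy_conj_up (a : F) : wy⁻¹ * up a * wy = dn a := by
  rw [dn_eq, wy_inv]

theorem wy_conj_dn (a : F) : wy⁻¹ * dn a * wy = up a := by
  rw [dn_eq]; group

/-- the torus is generated by root elements -/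
theorem tor_eq (l : Fˣ) : up (l : F) * dn ((l⁻¹ : Fˣ) : F) * up (l : F) * (up 1 * dn 1 * up 1) = tor l := by
  have e : (up (l : F) * dn ((l⁻¹ : Fˣ) : F) * up (l : F) * (up 1 * dn 1 * up 1)).1 =
    (up (l : F)).1 * (dn ((l⁻¹ : Fˣ) : F)).1 * (up (l : F)).1 * ((up 1).1 * (dn 1).1 * (up 1).1) := rfl
  have h2 : (1 : F) + 1 = 0 := CharTwo.add_self_eq_zero 1
  have hl : (l : F) * (l : F)⁻¹ = 1 := mul_inv_cancel₀ l.ne_zero
  have hl' : (l : F)⁻¹ * (l : F) = 1 := inv_mul_cancel₀ l.ne_zero
  apply SL_ext <;> rw [e, up_val, up_val, dn_val, dn_val, tor_val] <;>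
    simp only [Matrix.mul_apply, Fin.sum_univ_two] <;> simp [h2, hl, hl']

end Cfsg.Agent.Omega.NO1.Tens
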