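import Cfsg.Agent.Omega.NO1.Tens.Inst
import Cfsg.Agent.Omega.NO1.Tens.Mob
import Cfsg.Agent.Omega.NO1.BetaPlus.Meet

/-!
# Type (γ) of the leaf N1: `Q_p ∩ Q_q ≤ V` for opposite points (helper914)
-/

set_option autoImplicit false
set_option linter.unusedSectionVars false

namespace Cfsg.Agent.Omega.NO1.BetaPlus.Mv

open Subgroup
open Cfsg.Agent.Omega.NO1.Beta.Meet (cj mem_cj)

theorem cj_eq {G : Type*} [Group G] {g : G} {A B : Subgroup G} (h : Mv g A B) : cj g A = B := by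
  ext x
  rw [mem_cj, h]
  have e : g * (g⁻¹ * x * g) * g⁻¹ = x := by group
  rw [e]

theorem of_cj {G : Type*} [Group G] {g : G} {A B : Subgroup G} (h : cj g A = B) : Mv g A B := by
  intro x
  rw [← h, mem_cj]
  have e : g⁻¹ * (g * x * g⁻¹) * g = x := by group
  rw [e]

end Cfsg.Agent.Omega.NO1.BetaPlus.Mv

namespace Cfsg.Agent.Omega.NO1.PlusQ

open Subgroup Cfsg Matrix
open Cfsg.Agent.Omega.NO1.Tens
open Cfsg.Agent.Omega.NO1.BetaPlus (Mv QQ Bp Mo ToO)
open Cfsg.Agent.Omega.NO1.Beta.Meet (cj mem_cj)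
open Cfsg.Agent.ZN (o2)

universe u

variable {G : Type u} [Group G] {F : Type} [Field F] {N V : Subgroup G}

variable {D : PlusQ F N V} [CharP F 2] [Finite G]

theorem mv_mob (hN : ∀ m ∈ N, Mv m V V) {g : G} (hg : g ∈ N) {A B : SL F}
    (h : ∀ X, D.act g X = Tens.act A B X) (k l : Option F) : Mv g (D.R k l) (D.R (mob A k) (mob B l)) := by
  obtain ⟨T, hT, e⟩ := mob_spec A k
  obtain ⟨T', hT', e'⟩ := mob_spec B l
  have h1 := mv_RA hN hg h (rep k) (rep l)
  rw [e, e', RA_Bo _ _ hT hT'] at h1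
  exact h1

/-- the points are different -/
theorem R_disj {i j k l : Option F} (h : D.R i j ⊓ D.R k l ≠ ⊥) : i = k ∧ j = l := by
  obtain ⟨⟨w, hwm⟩, hw1⟩ := ne_bot_iff_exists_ne_one.1 h
  have hw1' : w ≠ 1 := fun e => hw1 (Subtype.ext e)
  obtain ⟨⟨hw, c, hc⟩, -, d, hd⟩ := hwm
  have hc0 : c ≠ 0 := by
    rintro rfl
    rw [e0_zero, act_zero] at hc
    exact hw1' (D.ker w hw hc)
  have h1 : Tens.act ((rep k)⁻¹ * rep i) ((rep l)⁻¹ * rep j) (e0 c) = e0 d := by
    rw [← act_act, ← hc, hd, Tens.act_inv_act]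
  rw [act_e0] at h1
  set P := (rep k)⁻¹ * rep i with hP
  set P' := (rep l)⁻¹ * rep j with hP'
  have h01 := congrArg (fun X : M2 F => X 0 1) h1
  have h10 := congrArg (fun X : M2 F => X 1 0) h1
  have h11 := congrArg (fun X : M2 F => X 1 1) h1
  simp [e0] at h01 h10 h11
  have d1 := SL_det P
  have d2 := SL_det P'
  have hB : Bo P := by
    by_contra hB
    have hB' : P.1 1 0 ≠ 0 := hB
    have e1 : P'.1 0 0 = 0 := by
      rcases h10 with h | h
      · rcases h with h | h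
        · exact absurd h hB'
        · exact absurd h hc0
      · exact h
    have e2 : P'.1 1 0 = 0 := by
      rcases h11 with h | h
      · rcases h with h | h
        · exact absurd h hB'
        · exact absurd h hc0
      · exact h
    rw [e1, e2] at d2
    simp at d2
  have hB2 : Bo P' := by
    have hB' : P.1 1 0 = 0 := hB
    show P'.1 1 0 = 0
    rcases h01 with h | h
    · rcases h with h | h
      · rw [h, hB'] at d1
        simp at d1
      · exact absurd h hc0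
    · exact h
  exact ⟨(rep_inj hB).symm, (rep_inj hB2).symm⟩

theorem R_ne_bot (i j : Option F) : D.R i j ≠ ⊥ := by
  intro h
  have h1 : D.v (Tens.act (rep i) (rep j) (e0 1)) ∈ D.R i j := ⟨D.v_mem _, 1, D.e_v _⟩
  rw [h, mem_bot] at h1
  have h2 : Tens.act (rep i) (rep j) (e0 1) = 0 := by
    rw [← D.e_v (Tens.act (rep i) (rep j) (e0 1)), h1, D.e_one]
  exact e0_ne one_ne_zero (act_eq_zero h2)

theorem R_inj {i j k l : Option F} (h : D.R i j = D.R k l) : i = k ∧ j = l :=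
  R_disj (D := D) (by rw [h, inf_idem]; exact R_ne_bot k l)

namespace Cx

variable [Finite F] (h : Cx D)
include h

/-- the action of `Q (i,j)` -/
theorem QU {i j : Option F} {y : G} (hy : y ∈ QQ (D.R i j)) :
    y ∈ N ∧ ∃ a b, ∀ X, D.act y X = Tens.act (ua i a) (ua j b) X := by
  obtain ⟨m, hm, hmA⟩ := lift_act (D := D) h.hN (rep i) (rep j)
  have hD := h.conj hm
  have e0 : (D.conj h.hN m hm).R0 = D.R i j := by
    rw [← RA_one, conj_RA h.hN hm hmA, mul_one, mul_one]; rfl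
  rw [← e0] at hy
  obtain ⟨a, b, hab⟩ := hD.U hy
  have hyN := hD.Q_N hy
  refine ⟨hyN, a, b, fun X => ?_⟩
  have h1 := hab (Tens.act (rep i)⁻¹ (rep j)⁻¹ X)
  rw [conj_act h.hN hm hmA hyN, Tens.act_act_inv] at h1
  have h2 := congrArg (Tens.act (rep i) (rep j)) h1
  rw [Tens.act_act_inv, act_act, act_act] at h2
  exact h2

theorem QU_surj (i j : Option F) (a b : F) :
    ∃ y ∈ QQ (D.R i j), ∀ X, D.act y X = Tens.act (ua i a) (ua j b) X := by
  obtain ⟨m, hm, hmA⟩ := lift_act (D := D) h.hN (rep i) (rep j)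
  have hD := h.conj hm
  have e0 : (D.conj h.hN m hm).R0 = D.R i j := by
    rw [← RA_one, conj_RA h.hN hm hmA, mul_one, mul_one]; rfl
  obtain ⟨y, hy, hab⟩ := hD.U_surj a b
  have hyN := hD.Q_N hy
  refine ⟨y, by rwa [← e0], fun X => ?_⟩
  have h1 := hab (Tens.act (rep i)⁻¹ (rep j)⁻¹ X)
  rw [conj_act h.hN hm hmA hyN, Tens.act_act_inv] at h1
  have h2 := congrArg (Tens.act (rep i) (rep j)) h1
  rw [Tens.act_act_inv, act_act, act_act] at h2
  exact h2

/-- the elements of `Q ∞` -/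
theorem dn_surj (a b : F) : ∃ y ∈ QQ D.R3, ∀ X, D.act y X = Tens.act (dn a) (dn b) X := by
  obtain ⟨y, hy, hab⟩ := h.QU_surj (some 0) (some 0) a b
  rw [R_zero] at hy
  refine ⟨y, hy, fun X => ?_⟩
  rw [hab, ua, ua, rep_zero, dn_eq, dn_eq]

/-- **The structure `Mo`.** -/
theorem mo (meet : ∀ W : Subgroup G, IsPGroup 2 W → W ≤ N →
    (∀ m ∈ N, ∀ y ∈ W, m * y * m⁻¹ ∈ W) → W ⊓ V = ⊥ → W = ⊥) :
    Mo V (fun p : Option F × Option F => D.R p.1 p.2) (fun p => QQ (D.R p.1 p.2)) Op := by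
  have B := bp h meet
  have hmove : ∀ {k l : Option F × Option F}, Op k l → ∀ {y}, y ∈ QQ (D.R k.1 k.2) →
      ∃ m : Option F × Option F, Op k m ∧ Mv y (D.R l.1 l.2) (D.R m.1 m.2) := by
    intro k l hkl y hy
    obtain ⟨hyN, a, b, hab⟩ := h.QU hy
    refine ⟨(mob (ua k.1 a) l.1, mob (ua k.2 b) l.2), ⟨fun e => hkl.1 ?_, fun e => hkl.2 ?_⟩,
      mv_mob h.hN hyN hab _ _⟩
    · simp only at e
      exact mob_inj (ua k.1 a) (by rw [mob_ua_self]; exact e)
    · simp only at e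
      exact mob_inj (ua k.2 b) (by rw [mob_ua_self]; exact e)
  refine
    { comm := B.comm
      R_le := B.R_le
      R_Q := B.R_Q
      RQ := B.RQ
      QQ := fun p y hy z hz => ?_
      Qsq := fun p y hy => (B.result p).2.2.2.1 y hy
      cen := fun p y hy hc => ?_
      Q_V := fun p y hy => (B.Q_V p hy).mem_nor
      nor := fun p c hc => (Mv.of_nor hc).QQ.cj_eq
      symm := fun {p q} hpq => B.symm p q hpq
      conn := B.conn
      fixj := fun p q hpq y hy hc => ?_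
      move := fun {k l} hkl {y} hy => ?_
      Q_of_R := fun {k l m y} hy hc => (Mv.of_cj hc).QQ.cj_eq
      tran := fun p q r hpq hpr => ?_
      RQj := fun p q hpq => ?_
      VE := fun p q hpq => ?_ }
  · have := (B.result p).2.2.1 y⁻¹ (inv_mem hy) z⁻¹ (inv_mem hz)
    rwa [inv_inv, inv_inv] at this
  · rw [← (B.result p).2.1]
    exact ⟨hy, mem_centralizer_iff.2 fun z hz => (hc z hz).symm⟩
  · obtain ⟨hyN, a, b, hab⟩ := h.QU hy
    have h1 := mv_mob h.hN hyN hab q.1 q.2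
    have h2 := R_inj (h1.cj_eq.symm.trans hc)
    have ha := ua_fix hpq.1.symm h2.1
    have hb := ua_fix hpq.2.symm h2.2
    rw [← act_one_iff (D := D) h.hN hyN]
    intro X
    rw [hab, ha, hb, ua_zero, ua_zero, act_one]
  · obtain ⟨m, h1, h2⟩ := hmove hkl hy
    exact ⟨m, h1, h2.cj_eq, h2.QQ.cj_eq⟩
  · obtain ⟨y, hy, h1⟩ := B.tran p q r hpq hpr
    exact ⟨y, hy, h1.cj_eq⟩
  · obtain ⟨D', m, A, B', T, T', S, S', hD, eR0, eR3, -⟩ := h.two hpq.1.symm hpq.2.symm
    show D.R p.1 p.2 ⊓ QQ (D.R q.1 q.2) = ⊥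
    rw [← eR0, ← eR3, eq_bot_iff]
    rintro w ⟨⟨hw, c, hc⟩, hwQ⟩
    rw [mem_bot]
    refine D'.ker w hw ?_
    have h1 := (hD.mem_E hw).1 hwQ
    rw [hc] at h1
    simp [e3] at h1
    rw [hc, h1, e3_zero]
  · obtain ⟨D', m, A, B', T, T', S, S', hD, eR0, eR3, -⟩ := h.two hpq.1 hpq.2
    show V ≤ (V ⊓ QQ (D.R p.1 p.2)) ⊔ D.R q.1 q.2
    rw [← eR0, ← eR3]
    exact hD.VE

/-- **The torus** at the two base points. -/
theorem too : ∃ y y' z z', ToO V (fun p : Option F × Option F => D.R p.1 p.2)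
    (fun p => QQ (D.R p.1 p.2)) Op (none, none) (some 0, some 0) y y' z z' := by
  obtain ⟨t, ht0, ht1⟩ := h.three
  set l : Fˣ := Units.mk0 t ht0 with hl
  have hlt : (l : F) = t := rfl
  obtain ⟨y, hy, hyA⟩ := h.U_surj (l : F) ((l⁻¹ : Fˣ) : F)
  obtain ⟨z, hz, hzA⟩ := h.U_surj 1 1
  obtain ⟨y', hy', hyA'⟩ := h.dn_surj ((l⁻¹ : Fˣ) : F) (l : F)
  obtain ⟨z', hz', hzA'⟩ := h.dn_surj 1 1
  have hyN := h.Q_N hy
  have hzN := h.Q_N hz
  have hQ3 : QQ D.R3 ≤ N := by
    intro x hx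
    rw [← R_zero] at hx
    exact (h.QU hx).1
  have hyN' := hQ3 hy'
  have hzN' := hQ3 hz'
  -- the torus element
  set w := (y * y' * y) * (z * z' * z) with hw
  have hwN : w ∈ N := mul_mem (mul_mem (mul_mem hyN hyN') hyN) (mul_mem (mul_mem hzN hzN') hzN)
  have htor := tor_eq l
  have htor' := tor_eq l⁻¹
  rw [inv_inv] at htor'
  have hwA : ∀ X, D.act w X = Tens.act (tor l) (tor l⁻¹) X := by
    intro X
    rw [hw, act_mul h.hN (mul_mem (mul_mem hyN hyN') hyN) (mul_mem (mul_mem hzN hzN') hzN),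
      act_mul h.hN (mul_mem hyN hyN') hyN, act_mul h.hN hyN hyN',
      act_mul h.hN (mul_mem hzN hzN') hzN, act_mul h.hN hzN hzN', hyA, hyA', hyA, hzA, hzA', hzA]
    simp only [act_act]
    rw [← htor, ← htor']
    congr 1 <;> group
  have hm0 : ∀ (a b : F), a ≠ 0 → b ≠ 0 → a * b = 1 → D.RA (up a * wy) (up b * wy) = D.RA (dn b) (dn a) := by
    intro a b ha hb hab
    have e1 : up a * wy = dn b * ((dn b)⁻¹ * (up a * wy)) := by group
    have e2 : up b * wy = dn a * ((dn a)⁻¹ * (up b * wy)) := by group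
    have key : ∀ a b : F, a * b = 1 → Bo ((dn b)⁻¹ * (up a * wy) : SL F) := by
      intro a b hab
      have e3 : (dn b : SL F)⁻¹ = dn b := by
        rw [dn_eq, _root_.mul_inv_rev, _root_.mul_inv_rev, inv_inv, up_inv]; group
      rw [e3]
      have e4 : (dn b * (up a * wy) : SL F).1 = (dn b).1 * ((up a).1 * wy.1) := rfl
      rw [Bo, e4, dn_val, up_val, wy_val]
      simp only [Matrix.mul_apply, Fin.sum_univ_two]
      simp
      rw [mul_comm, hab]
      exact CharTwo.add_self_eq_zero 1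
    rw [e1, e2, RA_Bo _ _ (key a b hab) (key b a (by rw [mul_comm]; exact hab))]
  have hmd : ∀ {x : G} {a b : F}, x ∈ N → (∀ X, D.act x X = Tens.act (dn a) (dn b) X) →
      Mv x D.R0 (D.RA (dn a) (dn b)) := by
    intro x a b hx hxA
    have := mv_RA h.hN hx hxA 1 1
    rwa [RA_one, mul_one, mul_one] at this
  have hmu : ∀ {x : G} {a b : F}, x ∈ N → (∀ X, D.act x X = Tens.act (up a) (up b) X) →
      Mv x D.R3 (D.RA (up a * wy) (up b * wy)) := by
    intro x a b hx hxA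
    have := mv_RA h.hN hx hxA wy wy
    rwa [RA_wy] at this
  have hl0 : ((l⁻¹ : Fˣ) : F) ≠ 0 := l⁻¹.ne_zero
  have hll : (l : F) * ((l⁻¹ : Fˣ) : F) = 1 := by simp
  have hlne : (l : F) ≠ ((l⁻¹ : Fˣ) : F) := by
    intro e
    rw [← e] at hll
    exact ht1 (eq_one_of_sq hll)
  refine ⟨y, y', z, z', ?_⟩
  refine ⟨by rw [R_none]; exact hy, by rw [R_none]; exact hz, by rw [R_zero]; exact hy',
    by rw [R_zero]; exact hz', ?_, ?_, ?_, ?_, ?_, ?_⟩
  · show cj y (D.R (some 0) (some 0)) = cj y' (D.R none none)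
    rw [R_zero, R_none, (hmu hyN hyA).cj_eq, (hmd hyN' hyA').cj_eq]
    exact hm0 _ _ l.ne_zero hl0 hll
  · show cj z (D.R (some 0) (some 0)) = cj z' (D.R none none)
    rw [R_zero, R_none, (hmu hzN hzA).cj_eq, (hmd hzN' hzA').cj_eq]
    exact hm0 _ _ one_ne_zero one_ne_zero (mul_one 1)
  · -- `z⁻¹ y` moves `∞` to an opposite point
    have hzy : z⁻¹ * y ∈ QQ D.R0 := mul_mem (inv_mem hz) hy
    have ha : D.al (z⁻¹ * y) ≠ 0 := by
      rw [(h.al_mul (inv_mem hz) hy).1, (h.al_inv hz).1, (al_be hzA).1, (al_be hyA).1]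
      intro e
      exact ht1 (CharTwo.add_eq_zero.1 e).symm
    have hb : D.be (z⁻¹ * y) ≠ 0 := by
      rw [(h.al_mul (inv_mem hz) hy).2, (h.al_inv hz).2, (al_be hzA).2, (al_be hyA).2]
      intro e
      have e1 := CharTwo.add_eq_zero.1 e
      rw [← e1, mul_one] at hll
      exact ht1 hll
    obtain ⟨k', l', h1, h2, h3⟩ := h.half_mv (D' := D) (i := none) (j := none) (k := some 0) (l := some 0)
      (A := 1) (B := 1) (S := 1) (S' := 1) Bo.one Bo.one (by rw [rep_zero, one_mul, mul_one])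
      (by rw [rep_zero, one_mul, mul_one]) h R_zero.symm (fun C E => by rw [one_mul, one_mul]) hzy ha hb
    exact ⟨(k', l'), ⟨h1, h2⟩, h3.cj_eq⟩
  · show ∀ r ∈ D.R none none, w * r = r * w
    rw [R_none]
    rintro r ⟨hr, c, hc⟩
    have h1 : w * r * w⁻¹ = r := by
      refine D.e_inj ((h.hN w hwN r).1 hr) hr ?_
      rw [← act_e h.hN hwN hr, hc, hwA, act_tor_e0]
      simp
    calc w * r = (w * r * w⁻¹) * w := by group
      _ = r * w := by rw [h1]
  · show ∀ e ∈ V ⊓ QQ (D.R none none), e⁻¹ * (w * e * w⁻¹) ∈ D.R none none → e ∈ D.R none none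
    rw [R_none]
    rintro e ⟨heV, heQ⟩ ⟨-, c, hc⟩
    have hwe : w * e * w⁻¹ ∈ V := (h.hN w hwN e).1 heV
    rw [D.mul _ (inv_mem heV) _ hwe, D.e_inv heV, ← act_e h.hN hwN heV, hwA, act_tor] at hc
    have h01 := congrArg (fun X : M2 F => X 0 1) hc
    have h10 := congrArg (fun X : M2 F => X 1 0) hc
    simp [e0] at h01 h10
    have h11 := (h.mem_E heV).1 heQ
    have e1 : D.e e 0 1 = 0 := by
      have : ((l : F) * l + 1) * D.e e 0 1 = 0 := by
        have e2 : -D.e e 0 1 = D.e e 0 1 := CharTwo.neg_eq _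
        rw [e2] at h01
        linear_combination h01
      rcases mul_eq_zero.1 this with h2 | h2
      · exact absurd (eq_one_of_sq (CharTwo.add_eq_zero.1 h2)) ht1
      · exact h2
    have e2 : D.e e 1 0 = 0 := by
      have hl1 : (l : F)⁻¹ * (l : F)⁻¹ = 1 → False := by
        intro h2
        have h3 : (l : F)⁻¹ = 1 := eq_one_of_sq h2
        exact ht1 (inv_eq_one.1 h3)
      have : ((l : F)⁻¹ * (l : F)⁻¹ + 1) * D.e e 1 0 = 0 := by
        have e2 : -D.e e 1 0 = D.e e 1 0 := CharTwo.neg_eq _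
        rw [e2] at h10
        linear_combination h10
      rcases mul_eq_zero.1 this with h2 | h2
      · exact absurd (CharTwo.add_eq_zero.1 h2) hl1
      · exact h2
    exact ⟨heV, D.e e 0 0, by apply ext2 <;> simp [e0, e1, e2, h11]⟩
  · show ∀ u ∈ QQ (D.R none none), u⁻¹ * (w * u * w⁻¹) ∈ centralizer (V : Set G) → u ∈ centralizer (V : Set G)
    rw [R_none]
    intro u hu huC
    have hwR : Mv w D.R0 D.R0 := (fix_iff h.hN hwN).2 fun x => ⟨_, by rw [hwA, act_tor_e0]⟩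
    have hwu : w * u * w⁻¹ ∈ QQ D.R0 := (hwR.QQ u).1 hu
    obtain ⟨e1, e2⟩ := al_be (D := D) (y := w * u * w⁻¹) (a := l * l * D.al u)
      (b := (l⁻¹ : Fˣ) * (l⁻¹ : Fˣ) * D.be u) fun X => by
        rw [act_mul h.hN (mul_mem hwN (h.Q_N hu)) (inv_mem hwN), act_mul h.hN hwN (h.Q_N hu), h.act_y hu,
          hwA, tor_act_up]
        congr 1
        rw [← hwA, act_act_inv h.hN hwN]
    rw [h.mem_C_iff (mul_mem (inv_mem hu) hwu), (h.al_mul (inv_mem hu) hwu).1, (h.al_mul (inv_mem hu) hwu).2,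
      (h.al_inv hu).1, (h.al_inv hu).2, e1, e2] at huC
    rw [h.mem_C_iff hu]
    constructor
    · have : ((l : F) * l + 1) * D.al u = 0 := by linear_combination huC.1
      rcases mul_eq_zero.1 this with h2 | h2
      · exact absurd (eq_one_of_sq (CharTwo.add_eq_zero.1 h2)) ht1
      · exact h2
    · have : (((l⁻¹ : Fˣ) : F) * ((l⁻¹ : Fˣ) : F) + 1) * D.be u = 0 := by linear_combination huC.2
      rcases mul_eq_zero.1 this with h2 | h2
      · exfalso
        have h3 := eq_one_of_sq (CharTwo.add_eq_zero.1 h2)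
        rw [h3, mul_one] at hll
        exact ht1 hll
      · exact h2

/-- **`Q_p ∩ Q_q ≤ V`** for opposite points -/
theorem meet_le (meet : ∀ W : Subgroup G, IsPGroup 2 W → W ≤ N →
    (∀ m ∈ N, ∀ y ∈ W, m * y * m⁻¹ ∈ W) → W ⊓ V = ⊥ → W = ⊥) {i j k l : Option F} (h1 : i ≠ k) (h2 : j ≠ l) :
    QQ (D.R i j) ⊓ QQ (D.R k l) ≤ V := by
  -- move the pair to the base points
  obtain ⟨D', m, A, B, T, T', S, S', hD, eR0, eR3, -⟩ := h.two h1 h2
  obtain ⟨y, y', z, z', ht⟩ := hD.too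
  have h3 := (hD.mo meet).meet_le (i := (none, none)) (j := (some 0, some 0)) ⟨by simp, by simp⟩ ht
  simp only [R_none, R_zero] at h3
  rwa [eR0, eR3] at h3

end Cx

end Cfsg.Agent.Omega.NO1.PlusQ
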