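import Cfsg.Agent.Omega.NO1.Tens.Grid

/-!
# Type (γ) of the leaf N1: `T1`, `T2` and products (helper914)
-/

set_option autoImplicit false
set_option linter.unusedSectionVars false

namespace Cfsg.Agent.Omega.NO1.Tens

variable {F : Type} [Field F] {γ δ : M2 F → M2 F}

theorem T11 (h : T1 γ) (h' : T1 δ) : T1 (fun X => γ (δ X)) := by
  constructor
  · intro A
    obtain ⟨A', h1⟩ := h'.1 A
    obtain ⟨A'', h2⟩ := h.1 A'
    exact ⟨A'', fun X => by beta_reduce; rw [h1, h2]⟩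
  · intro A
    obtain ⟨A', h1⟩ := h'.2 A
    obtain ⟨A'', h2⟩ := h.2 A'
    exact ⟨A'', fun X => by beta_reduce; rw [h1, h2]⟩

theorem T12 (h : T1 γ) (h' : T2 δ) : T2 (fun X => γ (δ X)) := by
  constructor
  · intro A
    obtain ⟨A', h1⟩ := h'.1 A
    obtain ⟨A'', h2⟩ := h.2 A'
    exact ⟨A'', fun X => by beta_reduce; rw [h1, h2]⟩
  · intro A
    obtain ⟨A', h1⟩ := h'.2 A
    obtain ⟨A'', h2⟩ := h.1 A'
    exact ⟨A'', fun X => by beta_reduce; rw [h1, h2]⟩

theorem T21 (h : T2 γ) (h' : T1 δ) : T2 (fun X => γ (δ X)) := by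
  constructor
  · intro A
    obtain ⟨A', h1⟩ := h'.1 A
    obtain ⟨A'', h2⟩ := h.1 A'
    exact ⟨A'', fun X => by beta_reduce; rw [h1, h2]⟩
  · intro A
    obtain ⟨A', h1⟩ := h'.2 A
    obtain ⟨A'', h2⟩ := h.2 A'
    exact ⟨A'', fun X => by beta_reduce; rw [h1, h2]⟩

theorem T22 (h : T2 γ) (h' : T2 δ) : T1 (fun X => γ (δ X)) := by
  constructor
  · intro A
    obtain ⟨A', h1⟩ := h'.1 A
    obtain ⟨A'', h2⟩ := h.2 A'
    exact ⟨A'', fun X => by beta_reduce; rw [h1, h2]⟩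
  · intro A
    obtain ⟨A', h1⟩ := h'.2 A
    obtain ⟨A'', h2⟩ := h.1 A'
    exact ⟨A'', fun X => by beta_reduce; rw [h1, h2]⟩

theorem T2_iter (h : T2 γ) (k : ℕ) : T2 (γ^[2 * k + 1]) := by
  induction k with
  | zero => simpa using h
  | succ k ih =>
    have e : γ^[2 * (k + 1) + 1] = fun X => γ^[2 * k + 1] (γ (γ X)) := by
      have e1 : 2 * (k + 1) + 1 = (2 * k + 1) + 1 + 1 := by ring
      rw [e1, Function.iterate_succ, Function.iterate_succ]; rfl
    rw [e]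
    exact T21 ih (T22 h h)

end Cfsg.Agent.Omega.NO1.Tens

namespace Cfsg.Agent.Omega.NO1.PlusQ

open Subgroup Cfsg Matrix
open Cfsg.Agent.Omega.NO1.Tens
open Cfsg.Agent.Omega.NO1.BetaPlus (Mv QQ)

universe u

variable {G : Type u} [Group G] {F : Type} [Field F] {N V : Subgroup G} {D : PlusQ F N V} [CharP F 2]

section

variable (hN : ∀ m ∈ N, Mv m V V) {t : F} (ht0 : t ≠ 0) (ht1 : t ≠ 1)
include hN

theorem act_one_eq (X : M2 F) : D.act 1 X = X := by
  have _ := hN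
  rw [act]
  have e : 1 * D.v X * (1 : G)⁻¹ = D.v X := by group
  rw [e, D.e_v]

theorem act_conj {g s : G} (hg : g ∈ N) (hs : s ∈ N) : D.act (g * s * g⁻¹) = fun X =>
    D.act g (D.act s (D.act g⁻¹ X)) := by
  funext X
  rw [act_mul hN (mul_mem hg hs) (inv_mem hg), act_mul hN hg hs]

include ht0 ht1

/-- conjugates of `T2`-elements -/
theorem T2_conj {g s : G} (hg : g ∈ N) (hs : s ∈ N) (h : T2 (D.act s)) : T2 (D.act (g * s * g⁻¹)) := by
  rw [act_conj hN hg hs]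
  have hm := nm (D := D) hN hg
  rcases hm.dich ht0 ht1 with hT | hT
  · exact T12 hT (T21 h (hm.T1_symm hT))
  · exact T21 hT (T22 h (hm.T2_symm hT))

/-- `U₀` is normalised by the stabiliser of the point `0` -/
theorem U_conj {g x : G} (hg : g ∈ N) (hx : x ∈ N) (h0 : ∀ x, ∃ y, D.act g (e0 x) = e0 y) {a b : F}
    (h : ∀ X, D.act x X = Tens.act (up a) (up b) X) :
    ∃ a' b', ∀ X, D.act (g * x * g⁻¹) X = Tens.act (up a') (up b') X := by
  have hm := nm (D := D) hN hg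
  rcases hm.dich ht0 ht1 with hT | hT
  · obtain ⟨a', h1⟩ := hm.un1_left hT h0 a
    obtain ⟨b', h2⟩ := hm.un1_right hT h0 b
    refine ⟨a', b', fun X => ?_⟩
    rw [act_conj hN hg hx]
    show D.act g (D.act x (D.act g⁻¹ X)) = _
    rw [h, act_split, h1, h2, hm.right, ← act_split]
  · obtain ⟨a', h1⟩ := hm.un2_left hT h0 a
    obtain ⟨b', h2⟩ := hm.un2_right hT h0 b
    refine ⟨b', a', fun X => ?_⟩
    rw [act_conj hN hg hx]
    show D.act g (D.act x (D.act g⁻¹ X)) = _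
    rw [h, act_split, h1, h2, hm.right, ← act_split']

end

end Cfsg.Agent.Omega.NO1.PlusQ
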