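import Cfsg.Agent.Omega.NO1.Tens.Basic

/-!
# Type (γ) of the leaf N1: points of `M₂(F)` and elements of the normaliser that fix them (helper914)

`e0 c = c E₁₁` (the point `0`), `e3 c = c E₂₂` (the point `∞`).
-/

set_option autoImplicit false
set_option linter.unusedSectionVars false

namespace Cfsg.Agent.Omega.NO1.Tens

open Matrix

variable {F : Type} [Field F]

/-! ### Rank one -/

theorem act_up_left (a : F) (X : M2 F) : act (up a) 1 X =
    !![X 0 0 + a * X 1 0, X 0 1 + a * X 1 1; X 1 0, X 1 1] := by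
  rw [← up_zero, act_up]
  apply ext2 <;> simp

theorem act_up_right (b : F) (X : M2 F) : act 1 (up b) X =
    !![X 0 0 + b * X 0 1, X 0 1; X 1 0 + b * X 1 1, X 1 1] := by
  rw [← up_zero, act_up]
  apply ext2 <;> simp

theorem act_dn_e0 (s t c : F) : act (dn s) (dn t) (e0 c) = !![c, c * t; s * c, s * c * t] := by
  apply ext2 <;> rw [act_apply, dn_val, dn_val] <;> simp [e0]

theorem act_e0 (A B : SL F) (c : F) : act A B (e0 c) =
    !![A.1 0 0 * c * B.1 0 0, A.1 0 0 * c * B.1 1 0; A.1 1 0 * c * B.1 0 0, A.1 1 0 * c * B.1 1 0] := by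
  apply ext2 <;> rw [act_apply] <;> simp [e0]

theorem act_e3 (A B : SL F) (c : F) : act A B (e3 c) =
    !![A.1 0 1 * c * B.1 0 1, A.1 0 1 * c * B.1 1 1; A.1 1 1 * c * B.1 0 1, A.1 1 1 * c * B.1 1 1] := by
  apply ext2 <;> rw [act_apply] <;> simp [e3]

section char2

variable [CharP F 2]

/-- `[[0,1],[1,0]]` -/
def wy : SL F := ⟨!![0, 1; 1, 0], by
  rw [Matrix.det_fin_two]
  simp
  exact CharTwo.neg_eq 1⟩

theorem wy_val : (wy : SL F).1 = !![0, 1; 1, 0] := rfl

theorem wy_mul : (wy : SL F) * wy = 1 := by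
  apply Subtype.ext
  rw [Matrix.SpecialLinearGroup.coe_mul, wy_val, Matrix.SpecialLinearGroup.coe_one]
  apply ext2 <;> simp [Matrix.mul_apply, Fin.sum_univ_two]

theorem act_wy_wy (X : M2 F) : act wy wy (act wy wy X) = X := by
  rw [act_act, wy_mul, act_one]

theorem act_wy_e0 (c : F) : act wy wy (e0 c) = e3 c := by
  rw [act_e0, wy_val]
  apply ext2 <;> simp [e3]

theorem act_wy_e3 (c : F) : act wy wy (e3 c) = e0 c := by
  rw [← act_wy_e0, act_wy_wy]

theorem up_up (a : F) : up a * up a = 1 := by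
  rw [← up_add, CharTwo.add_self_eq_zero, up_zero]

theorem up_inv (a : F) : (up a)⁻¹ = up a := inv_eq_of_mul_eq_one_left (up_up a)

theorem act_up_up (a b : F) (X : M2 F) : act (up a) (up b) (act (up a) (up b) X) = X := by
  rw [act_act, up_up, up_up, act_one]

theorem exists_e0 {X : M2 F} (h : X.det = 0) : ∃ A B : SL F, ∃ c, X = act A B (e0 c) := by
  rw [Matrix.det_fin_two] at h
  have h' : X 0 0 * X 1 1 = X 0 1 * X 1 0 := sub_eq_zero.1 h
  by_cases h00 : X 0 0 = 0
  · rw [h00, zero_mul] at h'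
    by_cases h01 : X 0 1 = 0
    · by_cases h10 : X 1 0 = 0
      · refine ⟨wy, wy, X 1 1, ?_⟩
        rw [act_wy_e0]
        apply ext2 <;> simp [e3, h00, h01, h10]
      · refine ⟨wy, dn (X 1 1 / X 1 0), X 1 0, ?_⟩
        rw [act_e0, wy_val, dn_val]
        apply ext2
        · simp [h00]
        · simp [h01]
        · simp
        · simp only [Matrix.of_apply, Matrix.cons_val', Matrix.cons_val_zero, Matrix.cons_val_one,
            Matrix.cons_val_fin_one]
          field_simp
    · have h10 : X 1 0 = 0 := (mul_eq_zero.1 h'.symm).resolve_left h01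
      refine ⟨dn (X 1 1 / X 0 1), wy, X 0 1, ?_⟩
      rw [act_e0, wy_val, dn_val]
      apply ext2
      · simp [h00]
      · simp
      · simp [h10]
      · simp only [Matrix.of_apply, Matrix.cons_val', Matrix.cons_val_zero, Matrix.cons_val_one,
          Matrix.cons_val_fin_one]
        field_simp
  · refine ⟨dn (X 1 0 / X 0 0), dn (X 0 1 / X 0 0), X 0 0, ?_⟩
    rw [act_dn_e0]
    apply ext2
    · simp
    · simp only [Matrix.of_apply, Matrix.cons_val', Matrix.cons_val_zero, Matrix.cons_val_one,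
        Matrix.cons_val_fin_one]
      field_simp
    · simp only [Matrix.of_apply, Matrix.cons_val', Matrix.cons_val_zero, Matrix.cons_val_one,
        Matrix.cons_val_fin_one]
      field_simp
    · simp only [Matrix.of_apply, Matrix.cons_val', Matrix.cons_val_zero, Matrix.cons_val_one,
        Matrix.cons_val_fin_one]
      field_simp
      rw [mul_comm (X 1 0), ← h', mul_comm]

theorem det_e0 (c : F) : (e0 c).det = 0 := by
  rw [Matrix.det_fin_two]; simp [e0]

theorem det_e3 (c : F) : (e3 c).det = 0 := by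
  rw [Matrix.det_fin_two]; simp [e3]

theorem up_one_ne : up (1 : F) ≠ 1 := by
  rw [← up_zero]
  exact fun h1 => one_ne_zero (up_inj h1)

theorem det_left {X : M2 F} (h : X.det = 0) : ∃ A : SL F, A ≠ 1 ∧ act A 1 X = X := by
  obtain ⟨A, B, c, rfl⟩ := exists_e0 h
  refine ⟨A * up 1 * A⁻¹, fun h1 => up_one_ne (F := F) ?_, ?_⟩
  · have : up (1 : F) = A⁻¹ * (A * up 1 * A⁻¹) * A := by group
    rw [this, h1]; group
  · rw [act_act, one_mul]
    have e : A * up 1 * A⁻¹ * A = A * up 1 := by group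
    rw [e]
    have : act (A * up 1) B (e0 c) = act A B (act (up 1) 1 (e0 c)) := by
      rw [act_act, mul_one]
    rw [this, ← up_zero, act_up_e0]

theorem det_right {X : M2 F} (h : X.det = 0) : ∃ B : SL F, B ≠ 1 ∧ act 1 B X = X := by
  obtain ⟨A, B, c, rfl⟩ := exists_e0 h
  refine ⟨B * up 1 * B⁻¹, fun h1 => up_one_ne (F := F) ?_, ?_⟩
  · have : up (1 : F) = B⁻¹ * (B * up 1 * B⁻¹) * B := by group
    rw [this, h1]; group
  · rw [act_act, one_mul]
    have e : B * up 1 * B⁻¹ * B = B * up 1 := by group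
    rw [e]
    have : act A (B * up 1) (e0 c) = act A B (act 1 (up 1) (e0 c)) := by
      rw [act_act, mul_one]
    rw [this, ← up_zero, act_up_e0]

theorem det_ne_left {X : M2 F} (h : X.det ≠ 0) {A : SL F} (hA : act A 1 X = X) : A = 1 := by
  have hu : IsUnit X.det := isUnit_iff_ne_zero.2 h
  have h1 : A.1 * X = X := by simpa [act] using hA
  refine (act_eq_one (A := A) (B := 1) fun Y => ?_).1
  have h2 : A.1 * Y = Y := by
    calc A.1 * Y = (A.1 * X) * (X⁻¹ * Y) := by
          rw [Matrix.mul_assoc, ← Matrix.mul_assoc X, Matrix.mul_nonsing_inv X hu, Matrix.one_mul]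
      _ = Y := by rw [h1, ← Matrix.mul_assoc, Matrix.mul_nonsing_inv X hu, Matrix.one_mul]
  simpa [act] using h2

theorem det_ne_right {X : M2 F} (h : X.det ≠ 0) {B : SL F} (hB : act 1 B X = X) : B = 1 := by
  have h1 : X.transpose.det ≠ 0 := by rwa [Matrix.det_transpose]
  refine det_ne_left h1 ?_
  rw [act_transpose, hB]

/-- The stabiliser of `c E₁₁` in the right factor. -/
theorem act_e0_right {B : SL F} {c : F} (hc : c ≠ 0) (h : act 1 B (e0 c) = e0 c) :
    B = up (B.1 0 1) := by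
  refine act_e0_left (c := c) hc ?_
  have h1 : (e0 c : M2 F) = (e0 c).transpose := by apply ext2 <;> simp [e0]
  rw [h1, act_transpose, h, ← h1]

/-- `X` is in the point `0` iff it is fixed by all `act (up a) (up b)`. -/
theorem eq_e0_of_fixed {X : M2 F} (h1 : act (up 1) 1 X = X) (h2 : act 1 (up 1) X = X) :
    X = e0 (X 0 0) := by
  rw [act_up_left] at h1
  rw [act_up_right] at h2
  have a1 := congrFun (congrFun h1 0) 0
  have a2 := congrFun (congrFun h1 0) 1
  have a3 := congrFun (congrFun h2 0) 0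
  simp at a1 a2 a3
  apply ext2 <;> simp [e0, a1, a2, a3]

end char2

/-! ### Elements of the normaliser -/

namespace Nm

variable [CharP F 2] {γ δ : M2 F → M2 F}

theorem T1_symm (h : Nm γ δ) (hT : T1 γ) : T1 δ := by
  constructor
  · intro A
    obtain ⟨A', B', h1⟩ := h.nor' A 1
    obtain ⟨A1, hA1⟩ := hT.1 A'
    obtain ⟨B1, hB1⟩ := hT.2 B'
    have h2 : ∀ X, act A 1 X = act A1 B1 X := by
      intro X
      have h3 := h1 X
      have h4 : γ (act A' B' (δ X)) = act A 1 X := by rw [← h3, h.right]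
      rw [← h4, act_split, hA1, hB1, h.right, ← act_split]
    have h5 := (act_unique h2).2
    have h6 : B' = 1 := by
      refine (act_eq_one (A := 1) (B := B') fun X => h.inj ?_).2
      rw [hB1, ← h5, act_one]
    exact ⟨A', fun X => by rw [h1, h6]⟩
  · intro B
    obtain ⟨A', B', h1⟩ := h.nor' 1 B
    obtain ⟨A1, hA1⟩ := hT.1 A'
    obtain ⟨B1, hB1⟩ := hT.2 B'
    have h2 : ∀ X, act 1 B X = act A1 B1 X := by
      intro X
      have h3 := h1 X
      have h4 : γ (act A' B' (δ X)) = act 1 B X := by rw [← h3, h.right]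
      rw [← h4, act_split, hA1, hB1, h.right, ← act_split]
    have h5 := (act_unique h2).1
    have h6 : A' = 1 := by
      refine (act_eq_one (A := A') (B := 1) fun X => h.inj ?_).1
      rw [hA1, ← h5, act_one]
    exact ⟨B', fun X => by rw [h1, h6]⟩

theorem T2_symm (h : Nm γ δ) (hT : T2 γ) : T2 δ := by
  constructor
  · intro A
    obtain ⟨A', B', h1⟩ := h.nor' A 1
    obtain ⟨A1, hA1⟩ := hT.1 A'
    obtain ⟨B1, hB1⟩ := hT.2 B'
    have h2 : ∀ X, act A 1 X = act B1 A1 X := by
      intro X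
      have h3 := h1 X
      have h4 : γ (act A' B' (δ X)) = act A 1 X := by rw [← h3, h.right]
      rw [← h4, act_split, hA1, hB1, h.right, ← act_split']
    have h5 := (act_unique h2).2
    have h6 : A' = 1 := by
      refine (act_eq_one (A := A') (B := 1) fun X => h.inj ?_).1
      rw [hA1, ← h5, act_one]
    exact ⟨B', fun X => by rw [h1, h6]⟩
  · intro B
    obtain ⟨A', B', h1⟩ := h.nor' 1 B
    obtain ⟨A1, hA1⟩ := hT.1 A'
    obtain ⟨B1, hB1⟩ := hT.2 B'
    have h2 : ∀ X, act 1 B X = act B1 A1 X := by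
      intro X
      have h3 := h1 X
      have h4 : γ (act A' B' (δ X)) = act 1 B X := by rw [← h3, h.right]
      rw [← h4, act_split, hA1, hB1, h.right, ← act_split']
    have h5 := (act_unique h2).1
    have h6 : B' = 1 := by
      refine (act_eq_one (A := 1) (B := B') fun X => h.inj ?_).2
      rw [hB1, ← h5, act_one]
    exact ⟨A', fun X => by rw [h1, h6]⟩

theorem not_T1_T2 (h : Nm γ δ) (h1 : T1 γ) (h2 : T2 γ) : False := by
  obtain ⟨A', hA⟩ := h1.1 (up 1)
  obtain ⟨B', hB⟩ := h2.1 (up 1)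
  have h3 : ∀ X, act A' 1 X = act 1 B' X := fun X => by
    have := hA (δ X)
    rw [hB (δ X), h.right] at this
    exact this.symm
  have h4 := (act_unique h3).1
  refine up_one_ne (F := F) (act_eq_one (A := up 1) (B := 1) fun X => h.inj ?_).1
  rw [hA, h4, act_one]

/-- The rank is preserved. -/
theorem det_eq_zero (h : Nm γ δ) {t : F} (ht0 : t ≠ 0) (ht1 : t ≠ 1) {X : M2 F} (hX : X.det = 0) :
    (γ X).det = 0 := by
  by_contra hcon
  obtain ⟨A, hA, hAX⟩ := det_left hX
  rcases h.dich ht0 ht1 with hT | hT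
  · obtain ⟨A', hA'⟩ := hT.1 A
    have h1 := det_ne_left hcon (A := A') (by rw [← hA', hAX])
    refine hA (act_eq_one (A := A) (B := 1) fun Y => h.inj ?_).1
    rw [hA', h1, act_one]
  · obtain ⟨B', hB'⟩ := hT.1 A
    have h1 := det_ne_right hcon (B := B') (by rw [← hB', hAX])
    refine hA (act_eq_one (A := A) (B := 1) fun Y => h.inj ?_).1
    rw [hB', h1, act_one]

/-- `γ` normalises `{act (up a) (up b)}` if it maps some `c E₁₁ ≠ 0` to some `d E₁₁`. -/
theorem un (h : Nm γ δ) {t : F} (ht0 : t ≠ 0) (ht1 : t ≠ 1) {c d : F} (hc : c ≠ 0)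
    (he : γ (e0 c) = e0 d) (a b : F) :
    ∃ a' b', ∀ X, γ (act (up a) (up b) X) = act (up a') (up b') (γ X) := by
  have hd : d ≠ 0 := by
    rintro rfl
    rw [e0_zero, ← h.zero] at he
    exact e0_ne hc (h.inj he)
  rcases h.dich ht0 ht1 with hT | hT
  · obtain ⟨A', hA'⟩ := hT.1 (up a)
    obtain ⟨B', hB'⟩ := hT.2 (up b)
    have h1 : A' = up (A'.1 0 1) := act_e0_left hd (by
      rw [← he, ← hA', ← up_zero, act_up_e0])
    have h2 : B' = up (B'.1 0 1) := act_e0_right hd (by
      rw [← he, ← hB', ← up_zero, act_up_e0])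
    refine ⟨A'.1 0 1, B'.1 0 1, fun X => ?_⟩
    rw [← h1, ← h2, act_split, hA', hB', ← act_split]
  · obtain ⟨A', hA'⟩ := hT.1 (up a)
    obtain ⟨B', hB'⟩ := hT.2 (up b)
    have h1 : A' = up (A'.1 0 1) := act_e0_right hd (by
      rw [← he, ← hA', ← up_zero, act_up_e0])
    have h2 : B' = up (B'.1 0 1) := act_e0_left hd (by
      rw [← he, ← hB', ← up_zero, act_up_e0])
    refine ⟨B'.1 0 1, A'.1 0 1, fun X => ?_⟩
    rw [← h1, ← h2, act_split, hA', hB', ← act_split']

/-- If `γ` maps some `c E₁₁ ≠ 0` to some `d E₁₁`, it fixes the point `0`. -/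
theorem fix0 (h : Nm γ δ) {t : F} (ht0 : t ≠ 0) (ht1 : t ≠ 1) {c d : F} (hc : c ≠ 0)
    (he : γ (e0 c) = e0 d) (x : F) : ∃ y, γ (e0 x) = e0 y := by
  have hd : d ≠ 0 := by
    rintro rfl
    rw [e0_zero, ← h.zero] at he
    exact e0_ne hc (h.inj he)
  have he' : δ (e0 d) = e0 c := by rw [← he, h.left]
  have key : ∀ a b, act (up a) (up b) (γ (e0 x)) = γ (e0 x) := by
    intro a b
    obtain ⟨a', b', h1⟩ := h.symm.un ht0 ht1 hd he' a b
    have h2 := h1 (γ (e0 x))
    rw [h.left, act_up_e0] at h2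
    have h3 := congrArg γ h2
    rwa [h.right] at h3
  refine ⟨_, eq_e0_of_fixed ?_ ?_⟩
  · have := key 1 0; rwa [up_zero] at this
  · have := key 0 1; rwa [up_zero] at this

/-- The same for the point `∞`. -/
theorem fix3 (h : Nm γ δ) {t : F} (ht0 : t ≠ 0) (ht1 : t ≠ 1) {c d : F} (hc : c ≠ 0)
    (he : γ (e3 c) = e3 d) (x : F) : ∃ y, γ (e3 x) = e3 y := by
  have h1 : Nm (fun X => act wy wy (γ (act wy wy X))) (fun X => act wy wy (δ (act wy wy X))) := by
    have hw : Nm (act wy wy : M2 F → M2 F) (act wy wy) := by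
      have := of_act (F := F) wy wy
      rwa [inv_eq_of_mul_eq_one_left wy_mul] at this
    exact hw.comp (h.comp hw)
  obtain ⟨y, hy⟩ := h1.fix0 ht0 ht1 hc (d := d) (by
    show act wy wy (γ (act wy wy (e0 c))) = e0 d
    rw [act_wy_e0, he, act_wy_e3]) x
  refine ⟨y, act_inj (A := wy) (B := wy) ?_⟩
  rw [act_wy_e3, ← hy]
  show _ = act wy wy (γ (act wy wy (e0 x)))
  rw [act_wy_e0]

/-- **Opposite points.** If `γ` fixes the point `0`, it maps `∞` to some `act (up a) (up b) ∞`. -/
theorem opp (h : Nm γ δ) {t : F} (ht0 : t ≠ 0) (ht1 : t ≠ 1) (h0 : ∀ x, ∃ y, γ (e0 x) = e0 y) :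
    ∃ a b, ∀ x, ∃ y, γ (e3 x) = act (up a) (up b) (e3 y) := by
  obtain ⟨d, hd⟩ := h0 1
  have hd0 : d ≠ 0 := by
    rintro rfl
    rw [e0_zero, ← h.zero] at hd
    exact e0_ne one_ne_zero (h.inj hd)
  have hd' : δ (e0 d) = e0 1 := by rw [← hd, h.left]
  set Y := γ (e3 1) with hY
  have hdet : Y.det = 0 := h.det_eq_zero ht0 ht1 (det_e3 1)
  rw [Matrix.det_fin_two] at hdet
  have hdet' : Y 0 0 * Y 1 1 = Y 0 1 * Y 1 0 := sub_eq_zero.1 hdet
  -- no nontrivial `act (up a) (up b)` fixes `Y`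
  have key : ∀ a b, act (up a) (up b) Y = Y → a = 0 ∧ b = 0 := by
    intro a b hab
    obtain ⟨a', b', h1⟩ := h.symm.un ht0 ht1 hd0 hd' a b
    have h2 := h1 Y
    rw [hab, hY, h.left] at h2
    have e01 := congrFun (congrFun h2 0) 1
    have e10 := congrFun (congrFun h2 1) 0
    rw [act_up] at e01 e10
    simp [e3] at e01 e10
    have h3 : ∀ X, act (up a) (up b) X = X := by
      intro X
      have h4 := h1 X
      rw [← e01, ← e10, up_zero, act_one] at h4
      exact h.symm.inj h4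
    have h5 := act_eq_one h3
    rw [← up_zero] at h5
    exact ⟨up_inj h5.1, up_inj h5.2⟩
  have hY11 : Y 1 1 ≠ 0 := by
    intro h11
    rw [h11, mul_zero] at hdet'
    rcases mul_eq_zero.1 hdet'.symm with h01 | h10
    · -- second column zero
      have := (key 0 1 (by rw [act_up]; apply ext2 <;> simp [h01, h11])).2
      exact one_ne_zero this
    · have := (key 1 0 (by rw [act_up]; apply ext2 <;> simp [h10, h11])).1
      exact one_ne_zero this
  have hYe : Y = act (up (Y 0 1 / Y 1 1)) (up (Y 1 0 / Y 1 1)) (e3 (Y 1 1)) := by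
    rw [act_up]
    apply ext2
    · simp only [e3, Matrix.of_apply, Matrix.cons_val', Matrix.cons_val_zero, Matrix.cons_val_one,
        Matrix.cons_val_fin_one]
      field_simp
      rw [hdet']
      ring
    · simp only [e3, Matrix.of_apply, Matrix.cons_val', Matrix.cons_val_zero, Matrix.cons_val_one,
        Matrix.cons_val_fin_one]
      field_simp
      ring
    · simp only [e3, Matrix.of_apply, Matrix.cons_val', Matrix.cons_val_zero, Matrix.cons_val_one,
        Matrix.cons_val_fin_one]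
      field_simp
      ring
    · simp [e3]
  refine ⟨Y 0 1 / Y 1 1, Y 1 0 / Y 1 1, fun x => ?_⟩
  have hg : Nm (fun X => act (up (Y 0 1 / Y 1 1)) (up (Y 1 0 / Y 1 1)) (γ X))
      (fun X => δ (act (up (Y 0 1 / Y 1 1)) (up (Y 1 0 / Y 1 1)) X)) := by
    have hw := of_act (F := F) (up (Y 0 1 / Y 1 1)) (up (Y 1 0 / Y 1 1))
    rw [up_inv, up_inv] at hw
    exact hw.comp h
  obtain ⟨y, hy⟩ := hg.fix3 ht0 ht1 one_ne_zero (d := Y 1 1) (by
    have h2 := congrArg (act (up (Y 0 1 / Y 1 1)) (up (Y 1 0 / Y 1 1))) hYe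
    rw [act_up_up] at h2
    exact h2) x
  refine ⟨y, ?_⟩
  rw [← hy]
  show _ = act _ _ (act _ _ (γ (e3 x)))
  rw [act_up_up]

end Nm

end Cfsg.Agent.Omega.NO1.Tens
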