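import Cfsg.Agent.Omega.NO1.Tens.Misc

/-!
# The projective line: `rep : Option F → SL₂(F)` (helper914)

`rep none = 1`, `rep (some a) = up a * wy`; `SL₂(F)` is the disjoint union of the `rep i * B`, `B` the upper triangular
matrices (`Bo`).
-/

set_option autoImplicit false

namespace Cfsg.Agent.Omega.NO1.Tens

open Matrix

variable {F : Type} [Field F]

/-- upper triangular -/
def Bo (T : SL F) : Prop := T.1 1 0 = 0

theorem Bo.one : Bo (1 : SL F) := by simp [Bo]

theorem Bo.up (a : F) : Bo (Tens.up a) := by simp [Bo, up_val]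

theorem Bo.mul {S T : SL F} (hS : Bo S) (hT : Bo T) : Bo (S * T) := by
  have : (S * T).1 = S.1 * T.1 := rfl
  simp only [Bo] at *
  rw [this, Matrix.mul_apply, Fin.sum_univ_two, hS, hT]; ring

theorem Bo.inv {S : SL F} (hS : Bo S) : Bo S⁻¹ := by
  simp only [Bo] at *
  rw [Matrix.SpecialLinearGroup.coe_inv, Matrix.adjugate_fin_two]
  simp [hS]

theorem Bo.diag {T : SL F} (hT : Bo T) : T.1 0 0 * T.1 1 1 = 1 := by
  have := SL_det T
  rw [show T.1 1 0 = 0 from hT] at this
  linear_combination this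

theorem Bo.ne {T : SL F} (hT : Bo T) : T.1 0 0 ≠ 0 := left_ne_zero_of_mul_eq_one hT.diag

theorem act_Bo {T T' : SL F} (hT : Bo T) (hT' : Bo T') (c : F) :
    act T T' (e0 c) = e0 (T.1 0 0 * T'.1 0 0 * c) := by
  rw [act_e0]
  simp only [Bo] at hT hT'
  apply ext2 <;> simp [e0, hT, hT'] ; ring

variable [CharP F 2]

/-- representatives of the points -/
def rep : Option F → SL F
  | none => 1
  | some a => up a * wy

theorem rep_none : rep (none : Option F) = 1 := rfl
theorem rep_some (a : F) : rep (some a) = up a * wy := rfl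
theorem rep_zero : rep (some (0 : F)) = wy := by rw [rep_some, up_zero, one_mul]

theorem not_Bo_wy : ¬ Bo (wy : SL F) := by
  simp [Bo, wy_val]

theorem wy_inv : (wy : SL F)⁻¹ = wy := inv_eq_of_mul_eq_one_left wy_mul

theorem big {C : SL F} (hC : ¬ Bo C) : ∃ a T, Bo T ∧ C = up a * wy * T := by
  have h0 : C.1 1 0 ≠ 0 := hC
  refine ⟨C.1 0 0 / C.1 1 0, (up (C.1 0 0 / C.1 1 0) * wy)⁻¹ * C, ?_, by group⟩
  rw [_root_.mul_inv_rev, wy_inv, up_inv]
  have e : (wy * up (C.1 0 0 / C.1 1 0) * C).1 = wy.1 * (up (C.1 0 0 / C.1 1 0)).1 * C.1 := rfl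
  rw [Bo, e, wy_val, up_val]
  simp only [Matrix.mul_apply, Fin.sum_univ_two]
  simp
  rw [div_mul_cancel₀ _ h0]
  exact CharTwo.add_self_eq_zero _

theorem exists_rep (A : SL F) : ∃ i T, Bo T ∧ A = rep i * T := by
  by_cases h : Bo A
  · exact ⟨none, A, h, by rw [rep_none, one_mul]⟩
  · obtain ⟨a, T, hT, e⟩ := big h
    exact ⟨some a, T, hT, e⟩

theorem rep_inj {i k : Option F} (h : Bo ((rep i)⁻¹ * rep k)) : i = k := by
  match i, k with
  | none, none => rfl
  | none, some b =>
    exfalso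
    rw [rep_none, inv_one, one_mul, rep_some] at h
    have := (Bo.up b).inv.mul h
    rw [inv_mul_cancel_left] at this
    exact not_Bo_wy this
  | some a, none =>
    exfalso
    rw [rep_none, mul_one, rep_some] at h
    have := h.inv
    rw [inv_inv] at this
    have := (Bo.up a).inv.mul this
    rw [inv_mul_cancel_left] at this
    exact not_Bo_wy this
  | some a, some b =>
    rw [rep_some, rep_some, _root_.mul_inv_rev, wy_inv, up_inv] at h
    have e : (wy * up a * (up b * wy) : SL F).1 = wy.1 * (up a).1 * ((up b).1 * wy.1) := rfl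
    rw [Bo, e, wy_val, up_val, up_val] at h
    simp only [Matrix.mul_apply, Fin.sum_univ_two] at h
    simp at h
    rw [CharTwo.add_eq_zero] at h
    rw [h]

theorem rep_unique {i k : Option F} {T T' : SL F} (hT : Bo T) (hT' : Bo T') (h : rep i * T = rep k * T') :
    i = k := by
  apply rep_inj
  have e : (rep i)⁻¹ * rep k = T * T'⁻¹ := by
    rw [inv_mul_eq_iff_eq_mul, ← mul_assoc, h, mul_inv_cancel_right]
  rw [e]
  exact hT.mul hT'.inv

/-- two different points -/
theorem exists_pair {i k : Option F} (h : i ≠ k) : ∃ a T, Bo T ∧ rep i * up a * wy = rep k * T := by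
  obtain ⟨a, T, hT, e⟩ := big (C := (rep i)⁻¹ * rep k) fun hB => h (rep_inj hB)
  refine ⟨a, T⁻¹, hT.inv, ?_⟩
  have e' : rep k = rep i * (up a * wy * T) := by rw [← e, mul_inv_cancel_left]
  rw [e']; group

/-- three different points -/
theorem exists_pair' {i k : Option F} (h : i ≠ k) : ∃ A T T' : SL F, Bo T ∧ Bo T' ∧ A = rep i * T ∧
    A * wy = rep k * T' := by
  obtain ⟨a, T, hT, e⟩ := exists_pair h
  exact ⟨rep i * up a, up a, T, Bo.up a, hT, rfl, e⟩

end Cfsg.Agent.Omega.NO1.Tens
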