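import Cfsg.Agent.Omega.NO1.Tens.Base
import Cfsg.Agent.Omega.NO1.Tens.Proj

/-!
# Type (γ) of the leaf N1: all points (helper914)

`D.RA A B = {v | e v ∈ act A B (F E₁₁)}`, `D.R i j = D.RA (rep i) (rep j)` for `i j : Option F`.
-/

set_option autoImplicit false
set_option linter.unusedSectionVars false

namespace Cfsg.Agent.Omega.NO1.PlusQ

open Subgroup Cfsg Matrix
open Cfsg.Agent.Omega.NO1.Tens
open Cfsg.Agent.Omega.NO1.BetaPlus (Mv QQ)
open Cfsg.Agent.ZN (o2)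

universe u

variable {G : Type u} [Group G] {F : Type} [Field F] {N V : Subgroup G}

/-- the point `act A B (F E₁₁)` -/
def RA (D : PlusQ F N V) (A B : SL F) : Subgroup G where
  carrier := {w | w ∈ V ∧ ∃ c, D.e w = Tens.act A B (e0 c)}
  one_mem' := ⟨one_mem _, 0, by rw [D.e_one, e0_zero, act_zero]⟩
  mul_mem' := by
    rintro x y ⟨hx, c, hc⟩ ⟨hy, d, hd⟩
    exact ⟨mul_mem hx hy, c + d, by rw [D.mul x hx y hy, hc, hd, e0_add, Tens.act_add]⟩
  inv_mem' := by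
    rintro x ⟨hx, c, hc⟩
    refine ⟨inv_mem hx, -c, ?_⟩
    have e : (e0 (-c) : M2 F) = - e0 c := by apply ext2 <;> simp [e0]
    rw [D.e_inv hx, hc, e]
    simp [Tens.act]

variable {D : PlusQ F N V}

theorem mem_RA {A B : SL F} {w : G} : w ∈ D.RA A B ↔ w ∈ V ∧ ∃ c, D.e w = Tens.act A B (e0 c) := Iff.rfl

theorem RA_one : D.RA 1 1 = D.R0 := by
  ext w
  rw [mem_RA, mem_R0]
  simp [Tens.act]

theorem RA_Bo (A B : SL F) {T T' : SL F} (hT : Bo T) (hT' : Bo T') : D.RA (A * T) (B * T') = D.RA A B := by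
  ext w
  rw [mem_RA, mem_RA]
  refine and_congr_right fun hw => ⟨?_, ?_⟩
  · rintro ⟨c, hc⟩
    exact ⟨T.1 0 0 * T'.1 0 0 * c, hc.trans (by rw [← act_act, act_Bo hT hT'])⟩
  · rintro ⟨c, hc⟩
    refine ⟨(T.1 0 0 * T'.1 0 0)⁻¹ * c, hc.trans ?_⟩
    rw [← act_act, act_Bo hT hT', ← mul_assoc, mul_inv_cancel₀ (mul_ne_zero hT.ne hT'.ne), one_mul]

theorem RA_le (A B : SL F) : D.RA A B ≤ V := fun _ h => h.1

variable [CharP F 2]

theorem RA_wy : D.RA wy wy = D.R3 := by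
  ext w
  rw [mem_RA, mem_R3]
  simp only [act_wy_e0]

/-- the points -/
def R (D : PlusQ F N V) (i j : Option F) : Subgroup G := D.RA (rep i) (rep j)

theorem R_none : D.R none none = D.R0 := RA_one

theorem R_zero : D.R (some 0) (some 0) = D.R3 := by rw [R, rep_zero, RA_wy]

theorem exists_R (A B : SL F) : ∃ i j T T', Bo T ∧ Bo T' ∧ A = rep i * T ∧ B = rep j * T' ∧
    D.RA A B = D.R i j := by
  obtain ⟨i, T, hT, e⟩ := exists_rep A
  obtain ⟨j, T', hT', e'⟩ := exists_rep B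
  exact ⟨i, j, T, T', hT, hT', e, e', by rw [e, e', RA_Bo _ _ hT hT']; rfl⟩

section

variable (hN : ∀ m ∈ N, Mv m V V)
include hN

/-- `m` acts as `(A, B)` -/
theorem exists_lift (A B : SL F) : ∃ m ∈ N, ∀ X, D.act m X = Tens.act A B X := lift_act hN A B

theorem act_inv_of {m : G} (hm : m ∈ N) {A B : SL F} (h : ∀ X, D.act m X = Tens.act A B X) (X : M2 F) :
    D.act m⁻¹ X = Tens.act A⁻¹ B⁻¹ X := by
  apply (nm (D := D) hN hm).inj
  rw [act_act_inv hN hm, h, Tens.act_act_inv]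

/-- the coordinates moved by `m`, which acts as `(A, B)` -/
theorem conj_RA {m : G} (hm : m ∈ N) {A B : SL F} (h : ∀ X, D.act m X = Tens.act A B X) (C E : SL F) :
    (D.conj hN m hm).RA C E = D.RA (A * C) (B * E) := by
  ext w
  rw [mem_RA, mem_RA, conj_e]
  refine and_congr_right fun hw => ?_
  have h1 : D.e (m⁻¹ * w * m) = Tens.act A⁻¹ B⁻¹ (D.e w) := by
    rw [← act_inv_of hN hm h, act_e hN (inv_mem hm) hw, inv_inv]
  rw [h1]
  refine exists_congr fun c => ?_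
  rw [← act_act]
  constructor
  · intro h2; rw [← h2, Tens.act_act_inv]
  · intro h2; rw [h2, Tens.act_inv_act]

theorem conj_e_eq {m : G} (hm : m ∈ N) {A B : SL F} (h : ∀ X, D.act m X = Tens.act A B X) {w : G} (hw : w ∈ V) :
    (D.conj hN m hm).e w = Tens.act A⁻¹ B⁻¹ (D.e w) := by
  rw [conj_e, ← act_inv_of hN hm h, act_e hN (inv_mem hm) hw, inv_inv]

theorem conj_act {m : G} (hm : m ∈ N) {A B : SL F} (h : ∀ X, D.act m X = Tens.act A B X) {g : G} (hg : g ∈ N)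
    (X : M2 F) : (D.conj hN m hm).act g X = Tens.act A⁻¹ B⁻¹ (D.act g (Tens.act A B X)) := by
  have h1 : g * (m * D.v X * m⁻¹) * g⁻¹ ∈ V := (hN g hg _).1 ((hN m hm _).1 (D.v_mem X))
  rw [act, conj_v, conj_e_eq hN hm h h1, ← act_e hN hg ((hN m hm _).1 (D.v_mem X)),
    ← act_e hN hm (D.v_mem X), D.e_v, h]

end

end Cfsg.Agent.Omega.NO1.PlusQ
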