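import Cfsg.Agent.Omega.NO1.Tens.SForm
import Cfsg.Agent.Omega.NO1.Tens.Loc
import Cfsg.Agent.Omega.All.NOne.W

/-!
# Type (γ) of the leaf N1: the Sylow group, fields of `All.NOne.Core` (helper983)

`S` a Sylow 2-subgroup of `G` with `S ≤ N`, `S ≤ N_G(R₀)`.
* `Cx.s_triv`, `Cx.s_quo`, `Cx.s_two`, `Cx.s_cenE`, `Cx.s_bas`, `Cx.s_ns`;
* `Cx.s_swap` : `S` contains an element interchanging the factors.
-/

set_option autoImplicit false
set_option linter.unusedSectionVars false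

namespace Cfsg.Agent.Omega.NO1.PlusQ

open Subgroup Cfsg Matrix
open Cfsg.Agent.Omega.NO1.Tens
open Cfsg.Agent.Omega.NO1.BetaPlus (Mv QQ)
open Cfsg.Agent.ZN (o2)

universe u

variable {G : Type u} [Group G] {F : Type} [Field F] {N V : Subgroup G}

/-- the coordinates of `All.NOne.Core` -/
noncomputable def cE (D : PlusQ F N V) (a : F) (b : F × F) (d : F) : G := D.v !![a, b.1; b.2, d]

theorem e_cE (D : PlusQ F N V) (a : F) (b : F × F) (d : F) : D.e (D.cE a b d) = !![a, b.1; b.2, d] := D.e_v _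

theorem cE_mem (D : PlusQ F N V) (a : F) (b : F × F) (d : F) : D.cE a b d ∈ V := D.v_mem _

variable {D : PlusQ F N V}

section

variable (hN : ∀ m ∈ N, Mv m V V)
include hN

theorem conj_eq_iff {x : G} (hx : x ∈ N) {v w : G} (hv : v ∈ V) (hw : w ∈ V) :
    x * v * x⁻¹ = w ↔ D.act x (D.e v) = D.e w := by
  rw [act_e hN hx hv]
  exact ⟨fun h => by rw [h], fun h => D.e_inj ((hN x hx v).1 hv) hw h⟩

theorem e_comm_one {x : G} (hx : x ∈ N) (X : M2 F) :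
    D.e (x * D.v X * x⁻¹ * (D.v X)⁻¹) = D.act x X - X := by
  rw [D.mul _ ((hN x hx _).1 (D.v_mem X)) _ (inv_mem (D.v_mem X)), D.e_inv (D.v_mem X), D.e_v, sub_eq_add_neg]
  rfl

end

namespace Cx

variable [CharP F 2] [Finite G] [Finite F] (h : Cx D)
include h

section twoel

variable {x : G} (hx : x ∈ N) (hxR : x ∈ normalizer (D.R0 : Set G)) {k : ℕ} (hk : x ^ 2 ^ k = 1)
include hx hxR hk

theorem x_ord (X : M2 F) : (D.act x)^[2 ^ k] X = X := by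
  have _ := hxR
  rw [act_pow h.hN hx, hk, act]
  have e : 1 * D.v X * (1 : G)⁻¹ = D.v X := by group
  rw [e, D.e_v]

theorem x_triv (h1 : ∀ v ∈ V, x * v * x⁻¹ * v⁻¹ ∈ QQ D.R0) : x ∈ centralizer (D.R0 : Set G) := by
  obtain ⟨t, ht0, ht1⟩ := h.three
  have h0 := (fix_iff h.hN hx).1 (Mv.of_nor hxR)
  have hm := nm (D := D) h.hN hx
  have h2 : ∀ X, D.act x X 1 1 = X 1 1 := by
    intro X
    have h3 := h1 _ (D.v_mem X)
    have h4 : x * D.v X * x⁻¹ * (D.v X)⁻¹ ∈ V := mul_mem ((h.hN x hx _).1 (D.v_mem X)) (inv_mem (D.v_mem X))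
    rw [h.mem_E h4, e_comm_one (D := D) h.hN hx, Matrix.sub_apply] at h3
    exact sub_eq_zero.1 h3
  have h3 := hm.triv ht0 ht1 h0 (h.x_ord hx hxR hk) h2
  rw [mem_centralizer_iff]
  rintro r ⟨hr, c, hc⟩
  have h4 : x * r * x⁻¹ = r := by
    rw [conj_eq_iff (D := D) h.hN hx hr hr, hc]
    exact h3 c
  calc r * x = x * r * x⁻¹ * x := by rw [h4]
    _ = x * r := by group

theorem x_e0 (h1 : x ∈ centralizer (D.R0 : Set G)) (c : F) : D.act x (e0 c) = e0 c := by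
  have _ := hk
  have h2 := (mem_centralizer_iff.1 h1) _ (v_e0 (D := D) c)
  have h3 : x * D.v (e0 c) * x⁻¹ = D.v (e0 c) := by rw [← h2]; group
  rw [conj_eq_iff (D := D) h.hN hx (D.v_mem _) (D.v_mem _), D.e_v] at h3
  exact h3

theorem x_quo (h1 : x ∈ centralizer (D.R0 : Set G)) : ∀ v ∈ V, x * v * x⁻¹ * v⁻¹ ∈ QQ D.R0 := by
  obtain ⟨t, ht0, ht1⟩ := h.three
  have h0 := (fix_iff h.hN hx).1 (Mv.of_nor hxR)
  have hm := nm (D := D) h.hN hx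
  have h2 := hm.quo ht0 ht1 h0 (h.x_ord hx hxR hk) (h.x_e0 hx hxR hk h1)
  intro v hv
  have h4 : x * v * x⁻¹ * v⁻¹ ∈ V := mul_mem ((h.hN x hx _).1 hv) (inv_mem hv)
  have h5 := e_comm_one (D := D) h.hN hx (D.e v)
  rw [D.v_e hv] at h5
  rw [h.mem_E h4, h5, Matrix.sub_apply, h2, sub_self]

theorem x_T1 (h1 : x ∈ centralizer (D.R0 : Set G)) (hT : T1 (D.act x)) :
    ∃ y ∈ QQ D.R0, x * y⁻¹ ∈ centralizer (V : Set G) := by
  obtain ⟨t, ht0, ht1⟩ := h.three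
  have h0 := (fix_iff h.hN hx).1 (Mv.of_nor hxR)
  have hm := nm (D := D) h.hN hx
  obtain ⟨a, b, hab⟩ := hm.mem_U' ht0 ht1 h0 (h.x_ord hx hxR hk) hT (h.x_e0 hx hxR hk h1)
  obtain ⟨y, hy, hyA⟩ := h.U_surj a b
  refine ⟨y, hy, ?_⟩
  have hyN := h.Q_N hy
  rw [← act_one_iff (D := D) h.hN (mul_mem hx (inv_mem hyN))]
  intro X
  rw [act_mul h.hN hx (inv_mem hyN), hab, ← hyA, act_act_inv h.hN hyN]

theorem x_cenE (h1 : ∀ a b, x * D.cE a b 0 = D.cE a b 0 * x) : x ∈ centralizer (V : Set G) := by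
  obtain ⟨t, ht0, ht1⟩ := h.three
  have h0 := (fix_iff h.hN hx).1 (Mv.of_nor hxR)
  have hm := nm (D := D) h.hN hx
  rw [← act_one_iff (D := D) h.hN hx]
  apply hm.cenE ht0 ht1 h0 (h.x_ord hx hxR hk)
  intro X hX
  have h2 : x * D.cE (X 0 0) (X 0 1, X 1 0) 0 * x⁻¹ = D.cE (X 0 0) (X 0 1, X 1 0) 0 := by rw [h1]; group
  rw [conj_eq_iff (D := D) h.hN hx (D.cE_mem _ _ _) (D.cE_mem _ _ _), D.e_cE] at h2
  have h3 : X = !![X 0 0, X 0 1; X 1 0, 0] := by apply ext2 <;> simp [hX]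
  rw [h3]
  exact h2

end twoel

theorem T1_or_T2 {x : G} (hx : x ∈ N) : T1 (D.act x) ∨ T2 (D.act x) := by
  obtain ⟨t, ht0, ht1⟩ := h.three
  exact (nm (D := D) h.hN hx).dich ht0 ht1

theorem act_comp {x y : G} (hx : x ∈ N) (hy : y ∈ N) : D.act (x * y) = fun X => D.act x (D.act y X) := by
  funext X
  exact act_mul h.hN hx hy X

theorem T1_one : T1 (D.act 1) := by
  have e : D.act 1 = fun X => X := by
    funext X
    have e1 : 1 * D.v X * (1 : G)⁻¹ = D.v X := by group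
    rw [act, e1, D.e_v]
  rw [e]
  exact ⟨fun A => ⟨A, fun _ => rfl⟩, fun A => ⟨A, fun _ => rfl⟩⟩

theorem T1_sq_pow {x : G} (hx : x ∈ N) (n : ℕ) : T1 (D.act ((x * x) ^ n)) := by
  induction n with
  | zero => rw [pow_zero]; exact h.T1_one
  | succ n ih =>
    rw [pow_succ, h.act_comp (pow_mem (mul_mem hx hx) n) (mul_mem hx hx)]
    refine T1_comp ih ?_
    rw [h.act_comp hx hx]
    rcases h.T1_or_T2 hx with hT | hT
    · exact T1_comp hT hT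
    · exact T2_comp hT hT

theorem T2_conj {x n : G} (hx : x ∈ N) (hn : n ∈ N) (hT : T2 (D.act x)) : T2 (D.act (n⁻¹ * x * n)) := by
  obtain ⟨t, ht0, ht1⟩ := h.three
  have hm := nm (D := D) h.hN hn
  have e : D.act (n⁻¹ * x * n) = fun X => D.act n⁻¹ (D.act x (D.act n X)) := by
    funext X
    rw [act_mul h.hN (mul_mem (inv_mem hn) hx) hn, act_mul h.hN (inv_mem hn) hx]
  rw [e]
  rcases h.T1_or_T2 hn with hn1 | hn2
  · exact T1_T2_comp (hm.T1_symm hn1) (T2_T1_comp hT hn1)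
  · exact T2_T1_comp (hm.T2_symm hn2) (T2_comp hT hn2)

variable (S : Sylow 2 G) (hSN : (S : Subgroup G) ≤ N)
include hSN

/-- `S` interchanges the two factors. -/
theorem s_swap : ∃ s ∈ S, T2 (D.act s) := by
  obtain ⟨t, ht0, ht1⟩ := h.three
  obtain ⟨s, hs, hT⟩ := exists_T2 (D := D) h.hN ht0 ht1
  -- the 2-part of `s`
  obtain ⟨k, m, hm, hn⟩ := Nat.exists_eq_two_pow_mul_odd (orderOf_pos s).ne'
  obtain ⟨j, hj⟩ := hm
  have hs' : s ^ m ∈ N := pow_mem hs m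
  have hT' : T2 (D.act (s ^ m)) := by
    have e : s ^ m = s * (s * s) ^ j := by
      rw [hj, pow_succ', pow_mul, pow_two]
    rw [e, h.act_comp hs (pow_mem (mul_mem hs hs) j)]
    exact T2_T1_comp hT (h.T1_sq_pow hs j)
  have hord : (s ^ m) ^ 2 ^ k = 1 := by
    rw [← pow_mul, mul_comm m, ← hn, pow_orderOf_eq_one]
  have hA : IsPGroup 2 (zpowers (s ^ m)) := by
    rw [IsPGroup.iff_orderOf]
    rintro ⟨y, hy⟩
    obtain ⟨i, rfl⟩ := mem_zpowers_iff.1 hy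
    rw [orderOf_mk]
    have h1 : orderOf ((s ^ m) ^ i) ∣ 2 ^ k := by
      apply orderOf_dvd_of_pow_eq_one
      rw [← zpow_natCast, ← _root_.zpow_mul, mul_comm, _root_.zpow_mul, zpow_natCast, hord, _root_.one_zpow]
    obtain ⟨l, -, hl⟩ := (Nat.dvd_prime_pow Nat.prime_two).1 h1
    exact ⟨l, hl⟩
  obtain ⟨n, hnN, hn'⟩ := All.NOne.exists_conj_sylow S hSN hA (zpowers_le.2 hs')
  exact ⟨_, hn' _ (mem_zpowers _), h.T2_conj hs' hnN hT'⟩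

variable (hSR : (S : Subgroup G) ≤ normalizer (D.R0 : Set G))
include hSR

theorem s_ord {x : G} (hx : x ∈ S) : ∃ k : ℕ, x ^ 2 ^ k = 1 := by
  have _ := h
  have _ := hSN
  have _ := hSR
  obtain ⟨k, hk⟩ := S.isPGroup' ⟨x, hx⟩
  exact ⟨k, by simpa using congrArg Subtype.val hk⟩

theorem s_triv : ∀ x ∈ (S : Subgroup G), (∀ v ∈ V, x * v * x⁻¹ * v⁻¹ ∈ QQ D.R0) →
    x ∈ centralizer (D.R0 : Set G) := by
  intro x hx h1
  obtain ⟨k, hk⟩ := h.s_ord S hSN hSR hx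
  exact h.x_triv (hSN hx) (hSR hx) hk h1

theorem s_quo : ∀ x ∈ (S : Subgroup G), x ∈ centralizer (D.R0 : Set G) →
    ∀ v ∈ V, x * v * x⁻¹ * v⁻¹ ∈ QQ D.R0 := by
  intro x hx h1
  obtain ⟨k, hk⟩ := h.s_ord S hSN hSR hx
  exact h.x_quo (hSN hx) (hSR hx) hk h1

theorem s_two : ∀ s ∈ (S : Subgroup G), s ∈ centralizer (D.R0 : Set G) → ∀ t ∈ (S : Subgroup G),
    t ∈ centralizer (D.R0 : Set G) →
    (∃ y ∈ QQ D.R0, s * y⁻¹ ∈ centralizer (V : Set G)) ∨ (∃ y ∈ QQ D.R0, t * y⁻¹ ∈ centralizer (V : Set G)) ∨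
      (∃ y ∈ QQ D.R0, s * t * y⁻¹ ∈ centralizer (V : Set G)) := by
  intro s hs hs1 t ht ht1
  obtain ⟨k, hk⟩ := h.s_ord S hSN hSR hs
  obtain ⟨l, hl⟩ := h.s_ord S hSN hSR ht
  obtain ⟨m, hm⟩ := h.s_ord S hSN hSR (mul_mem hs ht)
  rcases h.T1_or_T2 (hSN hs) with h1 | h1
  · exact Or.inl (h.x_T1 (hSN hs) (hSR hs) hk hs1 h1)
  rcases h.T1_or_T2 (hSN ht) with h2 | h2
  · exact Or.inr (Or.inl (h.x_T1 (hSN ht) (hSR ht) hl ht1 h2))
  refine Or.inr (Or.inr (h.x_T1 (hSN (mul_mem hs ht)) (hSR (mul_mem hs ht)) hm (mul_mem hs1 ht1) ?_))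
  rw [h.act_comp (hSN hs) (hSN ht)]
  exact T2_comp h1 h2

theorem s_cenE : ∀ s ∈ (S : Subgroup G), (∀ a b, s * D.cE a b 0 = D.cE a b 0 * s) →
    s ∈ centralizer (V : Set G) := by
  intro x hx h1
  obtain ⟨k, hk⟩ := h.s_ord S hSN hSR hx
  exact h.x_cenE (hSN hx) (hSR hx) hk h1

theorem s_bas : ∀ c : F × F, c ≠ 0 → ∃ k, (k ∈ centralizer (D.R0 : Set G) ∨ k ∈ (S : Subgroup G)) ∧
    ∀ b : F × F, ∃ (a : F) (f f' : F),
      D.cE 0 b 0 = D.cE a 0 0 * D.cE 0 (f • c) 0 * (k * D.cE 0 (f' • c) 0 * k⁻¹) := by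
  obtain ⟨t, ht0, ht1⟩ := h.three
  intro c hc
  by_cases hc1 : c.1 = 0
  · -- `c = (0, c₂)`
    have hc2 : c.2 ≠ 0 := fun hc2 => hc (Prod.ext hc1 hc2)
    obtain ⟨s, hs, hT⟩ := h.s_swap S hSN
    have h0 := (fix_iff h.hN (hSN hs)).1 (Mv.of_nor (hSR hs))
    obtain ⟨a, P, hP, -, hsP⟩ := (nm (D := D) h.hN (hSN hs)).swap_e2 ht0 ht1 h0 hT
    refine ⟨s, Or.inr hs, fun b => ?_⟩
    obtain ⟨z, hz⟩ := hP.2 b.1
    refine ⟨a * P z, b.2 / c.2, z / c.2, ?_⟩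
    have hv : s * D.cE 0 ((z / c.2) • c) 0 * s⁻¹ ∈ V := (h.hN s (hSN hs) _).1 (D.cE_mem _ _ _)
    refine D.e_inj (D.cE_mem _ _ _) (mul_mem (mul_mem (D.cE_mem _ _ _) (D.cE_mem _ _ _)) hv) ?_
    rw [D.mul _ (mul_mem (D.cE_mem _ _ _) (D.cE_mem _ _ _)) _ hv, D.mul _ (D.cE_mem _ _ _) _ (D.cE_mem _ _ _),
      ← act_e h.hN (hSN hs) (D.cE_mem _ _ _)]
    have e1 : D.e (D.cE 0 ((z / c.2) • c) 0) = e2 z := by
      rw [D.e_cE]
      apply ext2 <;> simp [e2, hc1, hc2]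
    rw [e1, hsP, hz, D.e_cE, D.e_cE, D.e_cE]
    apply ext2 <;> simp [e0, hc1, hc2, CharTwo.add_self_eq_zero, Tens.e1]
  by_cases hc2 : c.2 = 0
  · obtain ⟨s, hs, hT⟩ := h.s_swap S hSN
    have h0 := (fix_iff h.hN (hSN hs)).1 (Mv.of_nor (hSR hs))
    obtain ⟨a, P, hP, -, hsP⟩ := (nm (D := D) h.hN (hSN hs)).swap_e1 ht0 ht1 h0 hT
    refine ⟨s, Or.inr hs, fun b => ?_⟩
    obtain ⟨z, hz⟩ := hP.2 b.2
    refine ⟨a * P z, b.1 / c.1, z / c.1, ?_⟩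
    have hv : s * D.cE 0 ((z / c.1) • c) 0 * s⁻¹ ∈ V := (h.hN s (hSN hs) _).1 (D.cE_mem _ _ _)
    refine D.e_inj (D.cE_mem _ _ _) (mul_mem (mul_mem (D.cE_mem _ _ _) (D.cE_mem _ _ _)) hv) ?_
    rw [D.mul _ (mul_mem (D.cE_mem _ _ _) (D.cE_mem _ _ _)) _ hv, D.mul _ (D.cE_mem _ _ _) _ (D.cE_mem _ _ _),
      ← act_e h.hN (hSN hs) (D.cE_mem _ _ _)]
    have e1' : D.e (D.cE 0 ((z / c.1) • c) 0) = e1 z := by
      rw [D.e_cE]
      apply ext2 <;> simp [Tens.e1, hc1, hc2]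
    rw [e1', hsP, hz, D.e_cE, D.e_cE, D.e_cE]
    apply ext2 <;> simp [e0, e2, hc1, hc2, CharTwo.add_self_eq_zero]
  · -- the torus
    obtain ⟨k, hk, hkA⟩ := lift_act (D := D) h.hN (tor (Units.mk0 t ht0)) (tor (Units.mk0 t ht0)⁻¹)
    have hkR : k ∈ centralizer (D.R0 : Set G) := by
      rw [mem_centralizer_iff]
      rintro r ⟨hr, x, hx⟩
      have h4 : k * r * k⁻¹ = r := by
        rw [conj_eq_iff (D := D) h.hN hk hr hr, hx, hkA, act_tor_e0]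
        simp [ht0]
      calc r * k = k * r * k⁻¹ * k := by rw [h4]
        _ = k * r := by group
    refine ⟨k, Or.inl hkR, fun b => ?_⟩
    -- `b = f c + f' (t² c₁, t⁻² c₂)`
    have hdet : t ^ 2 + (t ^ 2)⁻¹ ≠ 0 := by
      intro h0
      have h1 : t ^ 2 = (t ^ 2)⁻¹ := CharTwo.add_eq_zero.1 h0
      have h2 : t ^ 2 * t ^ 2 = 1 := by
        nth_rewrite 1 [h1]
        exact inv_mul_cancel₀ (pow_ne_zero 2 ht0)
      have h3 := eq_one_of_sq h2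
      rw [pow_two] at h3
      exact ht1 (eq_one_of_sq h3)
    set w := t ^ 2 + (t ^ 2)⁻¹ with hw
    set p := b.1 / c.1 with hp
    set r := b.2 / c.2 with hr
    have hp1 : p * c.1 = b.1 := div_mul_cancel₀ _ hc1
    have hr1 : r * c.2 = b.2 := div_mul_cancel₀ _ hc2
    have ht2 : t ^ 2 ≠ 0 := pow_ne_zero 2 ht0
    refine ⟨0, ((t ^ 2)⁻¹ * p + t ^ 2 * r) / w, (p + r) / w, ?_⟩
    have hv : k * D.cE 0 (((p + r) / w) • c) 0 * k⁻¹ ∈ V := (h.hN k hk _).1 (D.cE_mem _ _ _)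
    refine D.e_inj (D.cE_mem _ _ _) (mul_mem (mul_mem (D.cE_mem _ _ _) (D.cE_mem _ _ _)) hv) ?_
    rw [D.mul _ (mul_mem (D.cE_mem _ _ _) (D.cE_mem _ _ _)) _ hv, D.mul _ (D.cE_mem _ _ _) _ (D.cE_mem _ _ _),
      ← act_e h.hN hk (D.cE_mem _ _ _), hkA, D.e_cE, D.e_cE, D.e_cE, D.e_cE, act_tor]
    have k1 : b.1 = ((t ^ 2)⁻¹ * p + t ^ 2 * r) / w * c.1 + t * t * ((p + r) / w * c.1) := by
      have : ((t ^ 2)⁻¹ * p + t ^ 2 * r) / w + t * t * ((p + r) / w) = p := by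
        have e3 : ((t ^ 2)⁻¹ * p + t ^ 2 * r) / w + t * t * ((p + r) / w) =
            ((t ^ 2)⁻¹ * p + t ^ 2 * r + t * t * (p + r)) / w := by ring
        rw [e3, div_eq_iff hdet, hw]
        have : t ^ 2 * r + t * t * r = 0 := by rw [← pow_two]; exact CharTwo.add_self_eq_zero _
        linear_combination this
      calc b.1 = p * c.1 := hp1.symm
        _ = (((t ^ 2)⁻¹ * p + t ^ 2 * r) / w + t * t * ((p + r) / w)) * c.1 := by rw [this]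
        _ = _ := by ring
    have k2 : b.2 = ((t ^ 2)⁻¹ * p + t ^ 2 * r) / w * c.2 + t⁻¹ * t⁻¹ * ((p + r) / w * c.2) := by
      have : ((t ^ 2)⁻¹ * p + t ^ 2 * r) / w + t⁻¹ * t⁻¹ * ((p + r) / w) = r := by
        have e3 : ((t ^ 2)⁻¹ * p + t ^ 2 * r) / w + t⁻¹ * t⁻¹ * ((p + r) / w) =
            ((t ^ 2)⁻¹ * p + t ^ 2 * r + t⁻¹ * t⁻¹ * (p + r)) / w := by ring
        rw [e3, div_eq_iff hdet, hw]
        have : (t ^ 2)⁻¹ * p + t⁻¹ * t⁻¹ * p = 0 := by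
          rw [← mul_inv, ← pow_two]; exact CharTwo.add_self_eq_zero _
        have e2 : t⁻¹ * t⁻¹ = (t ^ 2)⁻¹ := by rw [← mul_inv, ← pow_two]
        rw [e2] at this ⊢
        linear_combination this
      calc b.2 = r * c.2 := hr1.symm
        _ = (((t ^ 2)⁻¹ * p + t ^ 2 * r) / w + t⁻¹ * t⁻¹ * ((p + r) / w)) * c.2 := by rw [this]
        _ = _ := by ring
    apply ext2
    · simp
    · simpa using k1
    · simpa using k2
    · simp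

theorem s_ns : ∀ b : F × F, b ≠ 0 → b.1 * b.2 ≠ 0 ∨ ∃ s ∈ (S : Subgroup G), ∀ a, ∃ (a' : F) (b' : F × F),
    s * D.cE a b 0 * s⁻¹ = D.cE a' b' 0 ∧ (b + b').1 * (b + b').2 ≠ 0 := by
  obtain ⟨t, ht0, ht1⟩ := h.three
  intro b hb
  by_cases hb1 : b.1 = 0
  · right
    have hb2 : b.2 ≠ 0 := fun hb2 => hb (Prod.ext hb1 hb2)
    obtain ⟨s, hs, hT⟩ := h.s_swap S hSN
    have h0 := (fix_iff h.hN (hSN hs)).1 (Mv.of_nor (hSR hs))
    have hm := nm (D := D) h.hN (hSN hs)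
    obtain ⟨a', P, hP, hP0, hsP⟩ := hm.swap_e2 ht0 ht1 h0 hT
    refine ⟨s, hs, fun a => ?_⟩
    obtain ⟨y, hy⟩ := h0 a
    refine ⟨y + a' * P b.2, (P b.2, 0), ?_, ?_⟩
    · rw [conj_eq_iff (D := D) h.hN (hSN hs) (D.cE_mem _ _ _) (D.cE_mem _ _ _), D.e_cE, D.e_cE]
      have e : (!![a, b.1; b.2, 0] : M2 F) = e0 a + e2 b.2 := by apply ext2 <;> simp [e0, e2, hb1]
      rw [e, hm.add, hy, hsP]
      apply ext2 <;> simp [e0, Tens.e1]
    · have h1 : P b.2 ≠ 0 := fun h1 => hb2 (hP.1 (h1.trans hP0.symm))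
      simp [hb1, h1, hb2]
  by_cases hb2 : b.2 = 0
  · right
    obtain ⟨s, hs, hT⟩ := h.s_swap S hSN
    have h0 := (fix_iff h.hN (hSN hs)).1 (Mv.of_nor (hSR hs))
    have hm := nm (D := D) h.hN (hSN hs)
    obtain ⟨a', P, hP, hP0, hsP⟩ := hm.swap_e1 ht0 ht1 h0 hT
    refine ⟨s, hs, fun a => ?_⟩
    obtain ⟨y, hy⟩ := h0 a
    refine ⟨y + a' * P b.1, (0, P b.1), ?_, ?_⟩
    · rw [conj_eq_iff (D := D) h.hN (hSN hs) (D.cE_mem _ _ _) (D.cE_mem _ _ _), D.e_cE, D.e_cE]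
      have e : (!![a, b.1; b.2, 0] : M2 F) = e0 a + e1 b.1 := by apply ext2 <;> simp [e0, Tens.e1, hb2]
      rw [e, hm.add, hy, hsP]
      apply ext2 <;> simp [e0, e2]
    · have h1 : P b.1 ≠ 0 := fun h1 => hb1 (hP.1 (h1.trans hP0.symm))
      simp [hb1, h1, hb2]
  · exact Or.inl (mul_ne_zero hb1 hb2)

end Cx

end Cfsg.Agent.Omega.NO1.PlusQ
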