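import Cfsg.Agent.Omega.NO1.Tens.Misc

/-!
# Type (γ) of the leaf N1: 2-elements of the normaliser that fix the point `0` (matrix level, helper983)

* `Nm.form` : the coordinate functions of `γ`;
* `Nm.triv`, `Nm.quo` : a 2-element is trivial on the point `0` iff it is trivial on `V / R^⊥`;
* `Nm.mem_U'` : a 2-element of type `T1`, trivial on the point `0`, lies in `U₀`;
* `Nm.cenE` : a 2-element trivial on `R^⊥` is trivial;
* `Nm.swap_e1`, `Nm.swap_e2` : elements of type `T2`.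
-/

set_option autoImplicit false
set_option linter.unusedSectionVars false

namespace Cfsg.Agent.Omega.NO1.Tens

open Matrix

variable {F : Type} [Field F] [CharP F 2]

theorem T1_comp {f g : M2 F → M2 F} (hf : T1 f) (hg : T1 g) : T1 (fun X => f (g X)) := by
  constructor
  · intro A
    obtain ⟨A1, h1⟩ := hg.1 A
    obtain ⟨A2, h2⟩ := hf.1 A1
    exact ⟨A2, fun X => by dsimp only; rw [h1, h2]⟩
  · intro A
    obtain ⟨A1, h1⟩ := hg.2 A
    obtain ⟨A2, h2⟩ := hf.2 A1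
    exact ⟨A2, fun X => by dsimp only; rw [h1, h2]⟩

theorem T1_T2_comp {f g : M2 F → M2 F} (hf : T1 f) (hg : T2 g) : T2 (fun X => f (g X)) := by
  constructor
  · intro A
    obtain ⟨A1, h1⟩ := hg.1 A
    obtain ⟨A2, h2⟩ := hf.2 A1
    exact ⟨A2, fun X => by dsimp only; rw [h1, h2]⟩
  · intro A
    obtain ⟨A1, h1⟩ := hg.2 A
    obtain ⟨A2, h2⟩ := hf.1 A1
    exact ⟨A2, fun X => by dsimp only; rw [h1, h2]⟩

theorem T2_T1_comp {f g : M2 F → M2 F} (hf : T2 f) (hg : T1 g) : T2 (fun X => f (g X)) := by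
  constructor
  · intro A
    obtain ⟨A1, h1⟩ := hg.1 A
    obtain ⟨A2, h2⟩ := hf.1 A1
    exact ⟨A2, fun X => by dsimp only; rw [h1, h2]⟩
  · intro A
    obtain ⟨A1, h1⟩ := hg.2 A
    obtain ⟨A2, h2⟩ := hf.2 A1
    exact ⟨A2, fun X => by dsimp only; rw [h1, h2]⟩

theorem T2_comp {f g : M2 F → M2 F} (hf : T2 f) (hg : T2 g) : T1 (fun X => f (g X)) := by
  constructor
  · intro A
    obtain ⟨A1, h1⟩ := hg.1 A
    obtain ⟨A2, h2⟩ := hf.2 A1
    exact ⟨A2, fun X => by dsimp only; rw [h1, h2]⟩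
  · intro A
    obtain ⟨A1, h1⟩ := hg.2 A
    obtain ⟨A2, h2⟩ := hf.1 A1
    exact ⟨A2, fun X => by dsimp only; rw [h1, h2]⟩

theorem act_up_e2_right (b c : F) : act 1 (up b) (e2 c) = e2 c := by
  rw [act_up_right]; apply ext2 <;> simp [e2]

theorem e1_zero' {c : F} (h : e1 c = 0) : c = 0 := e1_inj (h.trans e1_zero.symm)

theorem e2_zero' {c : F} (h : e2 c = 0) : c = 0 := e2_inj (h.trans e2_zero.symm)

namespace Nm

variable {γ δ : M2 F → M2 F}

/-- The coordinate functions of an element which fixes the points `0`, `∞`. -/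
theorem form' (h : Nm γ δ) (hT : T1 γ ∨ T2 γ) (h0 : ∀ x, ∃ y, γ (e0 x) = e0 y) (h3 : ∀ x, ∃ y, γ (e3 x) = e3 y) :
    ∃ φ ψ G : F → F, φ 1 ≠ 0 ∧ ψ 1 ≠ 0 ∧ G 1 ≠ 0 ∧ (∀ c, γ (e3 c) = e3 (G c)) ∧
      (∀ a b c, γ (e0 (a * b * c)) = e0 (φ a * ψ b * G c)) ∧
      ((T1 γ ∧ (∀ a c, γ (e1 (a * c)) = e1 (φ a * G c)) ∧ ∀ b c, γ (e2 (b * c)) = e2 (ψ b * G c)) ∨
        (T2 γ ∧ (∀ a c, γ (e1 (a * c)) = e2 (φ a * G c)) ∧ ∀ b c, γ (e2 (b * c)) = e1 (ψ b * G c))) := by
  choose G hG using h3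
  rcases hT with hT | hT
  · choose φ hφ using h.un1_left hT h0
    choose ψ hψ using h.un1_right hT h0
    have hP : ∀ a c, γ (e1 (a * c)) = e1 (φ a * G c) := by
      intro a c
      have h1 := hφ a (e3 c)
      rw [act_up_e3_left, h.add, hG, act_up_e3_left] at h1
      exact add_left_cancel h1
    have hQ : ∀ b c, γ (e2 (b * c)) = e2 (ψ b * G c) := by
      intro b c
      have h1 := hψ b (e3 c)
      rw [act_up_e3_right, h.add, hG, act_up_e3_right] at h1
      exact add_left_cancel h1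
    have hH : ∀ a b c, γ (e0 (a * b * c)) = e0 (φ a * ψ b * G c) := by
      intro a b c
      have h1 := hφ a (e2 (b * c))
      rw [act_up_e2_left, h.add, hQ, act_up_e2_left] at h1
      rw [mul_assoc, add_left_cancel h1, mul_assoc]
    have e : φ 1 * G 1 ≠ 0 := by
      intro h1
      have h2 := hP 1 1
      rw [h1, e1_zero, mul_one, ← h.zero] at h2
      exact one_ne_zero (e1_zero' (h.inj h2))
    have e' : ψ 1 * G 1 ≠ 0 := by
      intro h1
      have h2 := hQ 1 1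
      rw [h1, e2_zero, mul_one, ← h.zero] at h2
      exact one_ne_zero (e2_zero' (h.inj h2))
    exact ⟨φ, ψ, G, left_ne_zero_of_mul e, left_ne_zero_of_mul e', right_ne_zero_of_mul e, hG, hH,
      Or.inl ⟨hT, hP, hQ⟩⟩
  · choose φ hφ using h.un2_left hT h0
    choose ψ hψ using h.un2_right hT h0
    have hP : ∀ a c, γ (e1 (a * c)) = e2 (φ a * G c) := by
      intro a c
      have h1 := hφ a (e3 c)
      rw [act_up_e3_left, h.add, hG, act_up_e3_right] at h1
      exact add_left_cancel h1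
    have hQ : ∀ b c, γ (e2 (b * c)) = e1 (ψ b * G c) := by
      intro b c
      have h1 := hψ b (e3 c)
      rw [act_up_e3_right, h.add, hG, act_up_e3_left] at h1
      exact add_left_cancel h1
    have hH : ∀ a b c, γ (e0 (a * b * c)) = e0 (φ a * ψ b * G c) := by
      intro a b c
      have h1 := hφ a (e2 (b * c))
      rw [act_up_e2_left, h.add, hQ, act_up_e1_right] at h1
      rw [mul_assoc, add_left_cancel h1, mul_assoc]
    have e : φ 1 * G 1 ≠ 0 := by
      intro h1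
      have h2 := hP 1 1
      rw [h1, e2_zero, mul_one, ← h.zero] at h2
      exact one_ne_zero (e1_zero' (h.inj h2))
    have e' : ψ 1 * G 1 ≠ 0 := by
      intro h1
      have h2 := hQ 1 1
      rw [h1, e1_zero, mul_one, ← h.zero] at h2
      exact one_ne_zero (e2_zero' (h.inj h2))
    exact ⟨φ, ψ, G, left_ne_zero_of_mul e, left_ne_zero_of_mul e', right_ne_zero_of_mul e, hG, hH,
      Or.inr ⟨hT, hP, hQ⟩⟩

variable (h : Nm γ δ) {t : F} (ht0 : t ≠ 0) (ht1 : t ≠ 1) (h0 : ∀ x, ∃ y, γ (e0 x) = e0 y)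
include h ht0 ht1 h0

/-- The coordinate functions of an element which fixes the point `0`. -/
theorem form : ∃ (a b : F) (φ ψ G : F → F), φ 1 ≠ 0 ∧ ψ 1 ≠ 0 ∧ G 1 ≠ 0 ∧
    (∀ c, γ (e3 c) = act (up a) (up b) (e3 (G c))) ∧
    (∀ x y c, γ (e0 (x * y * c)) = e0 (φ x * ψ y * G c)) ∧
    ((T1 γ ∧ (∀ x c, γ (e1 (x * c)) = act (up a) (up b) (e1 (φ x * G c))) ∧
      ∀ y c, γ (e2 (y * c)) = act (up a) (up b) (e2 (ψ y * G c))) ∨
      (T2 γ ∧ (∀ x c, γ (e1 (x * c)) = act (up a) (up b) (e2 (φ x * G c))) ∧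
        ∀ y c, γ (e2 (y * c)) = act (up a) (up b) (e1 (ψ y * G c)))) := by
  obtain ⟨a, b, hab⟩ := h.opp ht0 ht1 h0
  have hw := of_act (F := F) (up a) (up b)
  rw [up_inv, up_inv] at hw
  have hg : Nm (fun X => act (up a) (up b) (γ X)) (fun X => δ (act (up a) (up b) X)) := hw.comp h
  have hback : ∀ {X Y : M2 F}, act (up a) (up b) (γ X) = Y → γ X = act (up a) (up b) Y := by
    intro X Y e
    rw [← e, act_up_up]
  have g3 : ∀ x, ∃ y, act (up a) (up b) (γ (e3 x)) = e3 y := by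
    intro x
    obtain ⟨y, hy⟩ := hab x
    exact ⟨y, by rw [hy, act_up_up]⟩
  have g0 : ∀ x, ∃ y, act (up a) (up b) (γ (e0 x)) = e0 y := by
    intro x
    obtain ⟨y, hy⟩ := h0 x
    exact ⟨y, by rw [hy, act_up_e0]⟩
  have hU : T1 (act (up a) (up b)) := by
    constructor
    · intro A
      exact ⟨up a * A * (up a)⁻¹, fun X => by rw [act_act, act_act]; congr 1 <;> group⟩
    · intro B
      exact ⟨up b * B * (up b)⁻¹, fun X => by rw [act_act, act_act]; congr 1 <;> group⟩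
  have hT : T1 (fun X => act (up a) (up b) (γ X)) ∨ T2 (fun X => act (up a) (up b) (γ X)) :=
    (h.dich ht0 ht1).imp (fun hT => T1_comp hU hT) fun hT => T1_T2_comp hU hT
  obtain ⟨φ, ψ, G, n1, n2, n3, k3, k0, k⟩ := hg.form' hT g0 g3
  refine ⟨a, b, φ, ψ, G, n1, n2, n3, fun c => hback (k3 c), fun x y c => ?_, ?_⟩
  · rw [hback (k0 x y c), act_up_e0]
  · rcases k with ⟨hT', k1, k2⟩ | ⟨hT', k1, k2⟩
    · refine Or.inl ⟨?_, fun x c => hback (k1 x c), fun x c => hback (k2 x c)⟩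
      have h1 := T1_comp hU hT'
      have e : (fun X => act (up a) (up b) (act (up a) (up b) (γ X))) = γ := by
        funext X; rw [act_up_up]
      rwa [e] at h1
    · refine Or.inr ⟨?_, fun x c => hback (k1 x c), fun x c => hback (k2 x c)⟩
      have h1 := T1_T2_comp hU hT'
      have e : (fun X => act (up a) (up b) (act (up a) (up b) (γ X))) = γ := by
        funext X; rw [act_up_up]
      rwa [e] at h1

/-- `(γ X)₁₁ = G (X₁₁)` -/
theorem entry {a b : F} {φ ψ G : F → F} (k3 : ∀ c, γ (e3 c) = act (up a) (up b) (e3 (G c)))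
    (k : ((∀ x c, γ (e1 (x * c)) = act (up a) (up b) (e1 (φ x * G c))) ∧
      ∀ y c, γ (e2 (y * c)) = act (up a) (up b) (e2 (ψ y * G c))) ∨
      ((∀ x c, γ (e1 (x * c)) = act (up a) (up b) (e2 (φ x * G c))) ∧
        ∀ y c, γ (e2 (y * c)) = act (up a) (up b) (e1 (ψ y * G c)))) (X : M2 F) : γ X 1 1 = G (X 1 1) := by
  obtain ⟨y, hy⟩ := h0 (X 0 0)
  have h3 : γ (e3 (X 1 1)) 1 1 = G (X 1 1) := by rw [k3, act_up]; simp [e3]
  have h1 : γ (e1 (X 0 1)) 1 1 = 0 := by
    rcases k with ⟨k1, -⟩ | ⟨k1, -⟩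
    · have := k1 1 (X 0 1)
      rw [one_mul] at this
      rw [this, act_up]; simp [e1]
    · have := k1 1 (X 0 1)
      rw [one_mul] at this
      rw [this, act_up]; simp [e2]
  have h2 : γ (e2 (X 1 0)) 1 1 = 0 := by
    rcases k with ⟨-, k1⟩ | ⟨-, k1⟩
    · have := k1 1 (X 1 0)
      rw [one_mul] at this
      rw [this, act_up]; simp [e2]
    · have := k1 1 (X 1 0)
      rw [one_mul] at this
      rw [this, act_up]; simp [e1]
  conv_lhs => rw [e_sum X]
  rw [h.add, h.add, h.add, hy, Matrix.add_apply, Matrix.add_apply, Matrix.add_apply, h1, h2, h3]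
  simp [e0]

theorem iter0 {n : F} (hn : ∀ c, γ (e0 c) = e0 (n * c)) (m : ℕ) (c : F) : γ^[m] (e0 c) = e0 (n ^ m * c) := by
  have _ := h
  have _ := ht0
  have _ := ht1
  have _ := h0
  induction m generalizing c with
  | zero => simp
  | succ m ih => rw [Function.iterate_succ_apply, hn, ih, pow_succ]; congr 1; ring

/-- trivial on `V / R^⊥` implies trivial on the point `0` -/
theorem triv {k : ℕ} (hk : ∀ X, γ^[2 ^ k] X = X) (h1 : ∀ X, γ X 1 1 = X 1 1) (c : F) : γ (e0 c) = e0 c := by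
  obtain ⟨a, b, φ, ψ, G, n1, n2, n3, k3, k0, kk⟩ := h.form ht0 ht1 h0
  have hG : ∀ c, G c = c := by
    intro c
    have h2 := h1 (e3 c)
    rw [k3, act_up] at h2
    simpa [e3] using h2
  have hn : ∀ c, γ (e0 c) = e0 (φ 1 * ψ 1 * c) := by
    intro c
    have := k0 1 1 c
    rwa [hG, one_mul, one_mul] at this
  have h2 := h.iter0 ht0 ht1 h0 hn (2 ^ k) 1
  rw [hk, mul_one] at h2
  have h3 := eq_one_of_pow (e0_inj h2).symm
  rw [hn, h3, one_mul]

/-- trivial on the point `0` implies trivial on `V / R^⊥` -/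
theorem quo {k : ℕ} (hk : ∀ X, γ^[2 ^ k] X = X) (h1 : ∀ c, γ (e0 c) = e0 c) (X : M2 F) : γ X 1 1 = X 1 1 := by
  obtain ⟨a, b, φ, ψ, G, n1, n2, n3, k3, k0, kk⟩ := h.form ht0 ht1 h0
  have hG : ∀ c, G c = (φ 1 * ψ 1)⁻¹ * c := by
    intro c
    have := k0 1 1 c
    rw [h1, one_mul, one_mul] at this
    have h2 := e0_inj this
    have h3 : φ 1 * ψ 1 ≠ 0 := mul_ne_zero n1 n2
    rw [eq_inv_mul_iff_mul_eq₀ h3]
    exact h2.symm
  have he := h.entry ht0 ht1 h0 k3 (kk.imp (fun x => x.2) fun x => x.2)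
  have hX : ∀ X, γ X 1 1 = (φ 1 * ψ 1)⁻¹ * X 1 1 := fun X => by rw [he, hG]
  have h2 := iter11 hX (2 ^ k) (e3 1)
  rw [hk] at h2
  simp only [e3, Matrix.of_apply, Matrix.cons_val', Matrix.cons_val_one, Matrix.cons_val_fin_one, mul_one] at h2
  have h3 := eq_one_of_pow h2.symm
  rw [hX, h3, one_mul]

/-- a 2-element of type `T1` which is trivial on the point `0` -/
theorem mem_U' {k : ℕ} (hk : ∀ X, γ^[2 ^ k] X = X) (hT : T1 γ) (h1 : ∀ c, γ (e0 c) = e0 c) :
    ∃ a b, ∀ X, γ X = act (up a) (up b) X := by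
  have hq := h.quo ht0 ht1 h0 hk h1
  obtain ⟨a, b, φ, ψ, G, n1, n2, n3, k3, k0, kk⟩ := h.form ht0 ht1 h0
  have hG : ∀ c, G c = c := by
    intro c
    have h2 := hq (e3 c)
    rw [k3, act_up] at h2
    simpa [e3] using h2
  rcases kk with ⟨-, k1, k2⟩ | ⟨hT', -⟩
  · have hφ : ∀ c, γ (e1 c) = act (up a) (up b) (e1 (φ 1 * c)) := by
      intro c
      have := k1 1 c
      rwa [hG, one_mul] at this
    have hψ : ∀ c, γ (e2 c) = act (up a) (up b) (e2 (ψ 1 * c)) := by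
      intro c
      have := k2 1 c
      rwa [hG, one_mul] at this
    have hdec : ∀ X : M2 F, γ X = act (up a) (up b) (e0 (X 0 0) + e1 (φ 1 * X 0 1) + e2 (ψ 1 * X 1 0) + e3 (X 1 1)) := by
      intro X
      conv_lhs => rw [e_sum X]
      rw [h.add, h.add, h.add, h1, hφ, hψ, k3, hG, act_add, act_add, act_add, act_up_e0]
    have f01 : ∀ X : M2 F, X 1 1 = 0 → γ X 0 1 = φ 1 * X 0 1 := fun X hX => by
      rw [hdec, act_up]; simp [e0, e1, e2, e3, hX]
    have f10 : ∀ X : M2 F, X 1 1 = 0 → γ X 1 0 = ψ 1 * X 1 0 := fun X hX => by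
      rw [hdec, act_up]; simp [e0, e1, e2, e3, hX]
    have f11 : ∀ X, γ X 1 1 = 1 * X 1 1 := fun X => by rw [hq, one_mul]
    have p1 : φ 1 = 1 := by
      have h1 := iter01 f11 f01 (2 ^ k) (e1 1) (by simp [e1])
      rw [hk] at h1
      simp only [e1, Matrix.of_apply, Matrix.cons_val', Matrix.cons_val_zero, Matrix.cons_val_one,
        Matrix.cons_val_fin_one, mul_one] at h1
      exact eq_one_of_pow h1.symm
    have q1 : ψ 1 = 1 := by
      have h1 := iter10 f11 f10 (2 ^ k) (e2 1) (by simp [e2])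
      rw [hk] at h1
      simp only [e2, Matrix.of_apply, Matrix.cons_val', Matrix.cons_val_zero, Matrix.cons_val_one,
        Matrix.cons_val_fin_one, mul_one] at h1
      exact eq_one_of_pow h1.symm
    refine ⟨a, b, fun X => ?_⟩
    rw [hdec, p1, q1, one_mul, one_mul, ← e_sum X]
  · exact (h.not_T1_T2 hT hT').elim

/-- a 2-element which is trivial on `R^⊥` is trivial -/
theorem cenE {k : ℕ} (hk : ∀ X, γ^[2 ^ k] X = X) (h1 : ∀ X : M2 F, X 1 1 = 0 → γ X = X) (X : M2 F) : γ X = X := by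
  have g0 : ∀ c, γ (e0 c) = e0 c := fun c => h1 _ (by simp [e0])
  have hT : T1 γ := by
    rcases h.dich ht0 ht1 with hT | hT
    · exact hT
    · exfalso
      obtain ⟨a, b, φ, ψ, G, n1, n2, n3, k3, k0, kk⟩ := h.form ht0 ht1 h0
      rcases kk with ⟨hT', -⟩ | ⟨-, k1, k2⟩
      · exact h.not_T1_T2 hT' hT
      · have h2 := k1 1 1
        rw [h1 _ (by simp [e1]), mul_one, act_up] at h2
        have h3 := congrFun (congrFun h2 1) 0
        simp [e1, e2, n1, n3] at h3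
  obtain ⟨a, b, hab⟩ := h.mem_U' ht0 ht1 h0 hk hT g0
  have h2 := h1 (e1 1) (by simp [e1])
  have h3 := h1 (e2 1) (by simp [e2])
  rw [hab, act_up] at h2 h3
  have h4 := congrFun (congrFun h2 0) 0
  have h5 := congrFun (congrFun h3 0) 0
  simp [e1, e2] at h4 h5
  rw [hab, h4, h5, up_zero, act_one]

/-- an element of type `T2` on `E₁₂` -/
theorem swap_e1 [Finite F] (hT : T2 γ) : ∃ (a : F) (P : F → F), Function.Bijective P ∧ P 0 = 0 ∧
    ∀ c, γ (e1 c) = e2 (P c) + e0 (a * P c) := by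
  obtain ⟨a, b, φ, ψ, G, n1, n2, n3, k3, k0, kk⟩ := h.form ht0 ht1 h0
  rcases kk with ⟨hT', -⟩ | ⟨-, k1, k2⟩
  · exact (h.not_T1_T2 hT' hT).elim
  have hP : ∀ c, γ (e1 c) = e2 (φ c * G 1) + e0 (a * (φ c * G 1)) := by
    intro c
    have h2 := k1 c 1
    rw [mul_one] at h2
    rw [h2, act_up]
    apply ext2 <;> simp [e0, e2]
  have hinj : Function.Injective (fun c => φ c * G 1) := by
    intro c d hcd
    have h2 : φ c * G 1 = φ d * G 1 := hcd
    apply e1_inj
    apply h.inj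
    rw [hP, hP, h2]
  refine ⟨a, fun c => φ c * G 1, Finite.injective_iff_bijective.1 hinj, ?_, hP⟩
  have h2 := hP 0
  rw [e1_zero, h.zero] at h2
  have h3 := congrFun (congrFun h2 1) 0
  simp only [Matrix.zero_apply, Matrix.add_apply] at h3
  simpa [e0, e2] using h3.symm

/-- an element of type `T2` on `E₂₁` -/
theorem swap_e2 [Finite F] (hT : T2 γ) : ∃ (b : F) (P : F → F), Function.Bijective P ∧ P 0 = 0 ∧
    ∀ c, γ (e2 c) = e1 (P c) + e0 (b * P c) := by
  obtain ⟨a, b, φ, ψ, G, n1, n2, n3, k3, k0, kk⟩ := h.form ht0 ht1 h0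
  rcases kk with ⟨hT', -⟩ | ⟨-, k1, k2⟩
  · exact (h.not_T1_T2 hT' hT).elim
  have hP : ∀ c, γ (e2 c) = e1 (ψ c * G 1) + e0 (b * (ψ c * G 1)) := by
    intro c
    have h2 := k2 c 1
    rw [mul_one] at h2
    rw [h2, act_up]
    apply ext2 <;> simp [e0, e1]
  have hinj : Function.Injective (fun c => ψ c * G 1) := by
    intro c d hcd
    have h2 : ψ c * G 1 = ψ d * G 1 := hcd
    apply e2_inj
    apply h.inj
    rw [hP, hP, h2]
  refine ⟨b, fun c => ψ c * G 1, Finite.injective_iff_bijective.1 hinj, ?_, hP⟩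
  have h2 := hP 0
  rw [e2_zero, h.zero] at h2
  have h3 := congrFun (congrFun h2 0) 1
  simp only [Matrix.zero_apply, Matrix.add_apply] at h3
  simpa [e0, e1] using h3.symm

end Nm

end Cfsg.Agent.Omega.NO1.Tens
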