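import Cfsg.Agent.Omega.Node.EndPlusQ

/-!
# Type (γ) of the leaf N1: `All.NOne.Core` in the configuration `Cfg S P` (helper914)
-/

set_option autoImplicit false
set_option linter.unusedSectionVars false
set_option linter.unusedVariables false

namespace Cfsg.Agent.Omega.NO1.PlusQ

open Subgroup Cfsg Matrix
open Cfsg.Agent.ZN Cfsg.Agent.Omega.MinPar Cfsg.Agent.Omega.Frame
open Cfsg.Agent.Omega.All.NOne (Core)

universe u

variable {G : Type u} [Group G] [Finite G] {F : Type} [Field F] [Finite F] [CharP F 2] {S : Sylow 2 G}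
  {P : Subgroup G}

/-- **`All.NOne.Core` for `V_P` of type (γ).** -/
theorem exists_core914 (h : Cfg S P) (m : PlusQ F P (zl (S : Subgroup G) P)) (h4 : 4 ≤ Nat.card F)
    (hE : 4 ≤ (EE (S : Subgroup G) P).relIndex (zl (S : Subgroup G) P)) :
    ∃ (R Q X : Subgroup G) (e : F → F × F → F → G), Core (S : Subgroup G) (zl (S : Subgroup G) P) R Q X e
      (fun b : F × F => b.1 * b.2) (fun b c : F × F => b.1 * c.2 + b.2 * c.1) := by
  obtain ⟨D, hD⟩ := EndP.exists_gin1 h m h4 hE
  exact ⟨_, _, _, _, hD.core⟩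

end Cfsg.Agent.Omega.NO1.PlusQ
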